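import Groth.Agent.FlatCrit65.Blow.Chart
import Groth.Agent.FBlow13.Exist
import Mathlib

/-!
Flattening by an admissible blow-up.
-/

set_option autoImplicit false
set_option linter.style.haveILetI false
set_option backward.isDefEq.respectTransparency.types false

universe u

open CategoryTheory CategoryTheory.Limits AlgebraicGeometry TopologicalSpace Opposite TensorProduct
open Groth.Agent.QC70 Groth.Agent.QCPull72

noncomputable section

namespace Groth.Agent.FlatCrit65.Blow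

variable {X S X' S' : Scheme.{u}} {f : X ⟶ S} {b : S' ⟶ S} {p₁ : X' ⟶ X} {p₂ : X' ⟶ S'}

theorem isAffineOpen_chart (H : IsPullback p₁ p₂ f b) {V : S.Opens} (hV : IsAffineOpen V) {W : X.Opens}
    (hW : IsAffineOpen W) (hWV : W ≤ f ⁻¹ᵁ V) {V' : S'.Opens} (hV' : IsAffineOpen V') (hV'V : V' ≤ b ⁻¹ᵁ V) :
    IsAffineOpen (p₁ ⁻¹ᵁ W ⊓ p₂ ⁻¹ᵁ V') := by
  haveI : IsAffine V.toScheme := hV
  haveI : IsAffine W.toScheme := hW
  haveI : IsAffine V'.toScheme := hV'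
  exact IsAffine.of_isIso (Scheme.Hom.isPullback_resLE H hV'V hWV (rfl : p₁ ⁻¹ᵁ W ⊓ p₂ ⁻¹ᵁ V' = _)).isoPullback.hom

theorem isPushout_chart (H : IsPullback p₁ p₂ f b) {V : S.Opens} (hV : IsAffineOpen V) {W : X.Opens}
    (hW : IsAffineOpen W) (hWV : W ≤ f ⁻¹ᵁ V) {V' : S'.Opens} (hV' : IsAffineOpen V') (hV'V : V' ≤ b ⁻¹ᵁ V) :
    IsPushout (f.appLE V W hWV) (b.appLE V V' hV'V) (p₁.appLE W (p₁ ⁻¹ᵁ W ⊓ p₂ ⁻¹ᵁ V') inf_le_left)
      (p₂.appLE V' (p₁ ⁻¹ᵁ W ⊓ p₂ ⁻¹ᵁ V') inf_le_right) :=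
  (isIso_pushoutSection_iff H (US := V) (UT := V') (UX := W) (UY := p₁ ⁻¹ᵁ W ⊓ p₂ ⁻¹ᵁ V') hV'V hWV rfl).mp
    (isIso_pushoutSection_of_isAffineOpen H hV'V hWV rfl hV hV' hW)

theorem exceptional_eq (H : IsPullback p₁ p₂ f b) (𝓙 : S.IdealSheafData) :
    BlowUp.exceptional p₁ (𝓙.comap f) = (𝓙.comap b).comap p₂ := by
  show (𝓙.comap f).comap p₁ = _
  rw [← Scheme.IdealSheafData.comap_comp, H.w, Scheme.IdealSheafData.comap_comp]

theorem exceptional_ideal_chart (H : IsPullback p₁ p₂ f b) (𝓙 : S.IdealSheafData) {W : X.Opens}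
    {V' : S'.Opens} (hV' : IsAffineOpen V') (hW' : IsAffineOpen (p₁ ⁻¹ᵁ W ⊓ p₂ ⁻¹ᵁ V')) {g : Γ(S', V')}
    (hg : (𝓙.comap b).ideal ⟨V', hV'⟩ = Ideal.span {g}) :
    (BlowUp.exceptional p₁ (𝓙.comap f)).ideal ⟨p₁ ⁻¹ᵁ W ⊓ p₂ ⁻¹ᵁ V', hW'⟩ =
      Ideal.span {(p₂.appLE V' (p₁ ⁻¹ᵁ W ⊓ p₂ ⁻¹ᵁ V') inf_le_right).hom g} := by
  rw [exceptional_eq H, MP99.ideal_comap _ p₂ ⟨V', hV'⟩ ⟨_, hW'⟩ inf_le_right, hg, Ideal.map_span, Set.image_singleton]

/-- The kernel of a strict transform is quasi-coherent. -/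
theorem isQuasicoherent_kernel_strictTransform (H : IsPullback p₁ p₂ f b) (𝓙 : S.IdealSheafData)
    (hb : BlowUp.IsEffCartierIdeal (𝓙.comap b)) (F : X.Modules) [F.IsQuasicoherent] (G : X'.Modules)
    (π : (Scheme.Modules.pullback p₁).obj F ⟶ G) (hG : BlowUp.IsStrictTransform p₁ (𝓙.comap f) F G π) :
    (kernel π).IsQuasicoherent := by
  haveI := isQuasicoherent_pullback p₁ F
  have key : ∀ x : X', ∃ U : X'.affineOpens, x ∈ U.1 ∧
      ∃ g : Γ(X', U.1), (BlowUp.exceptional p₁ (𝓙.comap f)).ideal U = Ideal.span {g} := by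
    intro x
    obtain ⟨V, hVa, hxV, -⟩ := exists_isAffineOpen_mem_and_subset (show f (p₁ x) ∈ (⊤ : S.Opens) from trivial)
    obtain ⟨W, hWa, hxW, hWle⟩ := exists_isAffineOpen_mem_and_subset (show p₁ x ∈ f ⁻¹ᵁ V from hxV)
    have hxV' : p₂ x ∈ b ⁻¹ᵁ V := by
      show b (p₂ x) ∈ V
      rw [← Scheme.Hom.comp_apply, ← H.w, Scheme.Hom.comp_apply]
      exact hxV
    obtain ⟨V', hxV'', hV'le, g, -, hg⟩ := MP99.exists_nzd_le hb (p₂ x) hxV'
    have hW' := isAffineOpen_chart H hVa hWa hWle V'.2 hV'le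
    exact ⟨⟨_, hW'⟩, ⟨hxW, hxV''⟩, _, exceptional_ideal_chart H 𝓙 V'.2 hW' hg⟩
  choose U hU g hg using key
  exact isQuasicoherent_of_isLocAt _ (fun x : X' => (U x).1)
    (IsOpenCover.mk (top_le_iff.mp fun y _ => Opens.mem_iSup.mpr ⟨y, hU y⟩)) (fun x => (U x).2)
    fun x => Ega11.StrictTransformCoh.isLocAt_kernel π _ (U x) (g x) (hg x) hG.2

/-- The sections of a strict transform on a chart: flat and finitely presented. -/
theorem strictTransform_chart (H : IsPullback p₁ p₂ f b) (𝓙 : S.IdealSheafData) (F : X.Modules) [F.IsQuasicoherent]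
    (G : X'.Modules) (π : (Scheme.Modules.pullback p₁).obj F ⟶ G)
    (hG : BlowUp.IsStrictTransform p₁ (𝓙.comap f) F G π) [(kernel π).IsQuasicoherent] {V : S.Opens}
    (hV : IsAffineOpen V) {W : X.Opens} (hW : IsAffineOpen W) (hWV : W ≤ f ⁻¹ᵁ V) {V' : S'.Opens}
    (hV' : IsAffineOpen V') (hV'V : V' ≤ b ⁻¹ᵁ V) (g : Γ(S', V')) (hgreg : g ∈ nonZeroDivisors Γ(S', V'))
    (hg : (𝓙.comap b).ideal ⟨V', hV'⟩ = Ideal.span {g})
    (key : letI : Algebra Γ(S, V) Γ(X, W) := (f.appLE V W hWV).hom.toAlgebra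
      ∀ (T B : Type u) [CommRing T] [CommRing B] [Algebra Γ(S, V) T] [Algebra T B] [Algebra Γ(S, V) B]
        [Algebra Γ(X, W) B] [IsScalarTower Γ(S, V) T B] [IsScalarTower Γ(S, V) Γ(X, W) B]
        [Algebra.IsPushout Γ(S, V) T Γ(X, W) B] (g : T),
        IsSMulRegular T g → (𝓙.ideal ⟨V, hV⟩).map (algebraMap Γ(S, V) T) = Ideal.span {g} →
          Module.Flat T (ST B (algebraMap T B g) (B ⊗[Γ(X, W)] Γ(F, W))) ∧
          Module.FinitePresentation B (ST B (algebraMap T B g) (B ⊗[Γ(X, W)] Γ(F, W)))) :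
    Module.FinitePresentation Γ(X', p₁ ⁻¹ᵁ W ⊓ p₂ ⁻¹ᵁ V') Γ(G, p₁ ⁻¹ᵁ W ⊓ p₂ ⁻¹ᵁ V') ∧
      @Module.Flat Γ(S', V') Γ(G, p₁ ⁻¹ᵁ W ⊓ p₂ ⁻¹ᵁ V') _ _
        (Module.compHom _ (p₂.appLE V' (p₁ ⁻¹ᵁ W ⊓ p₂ ⁻¹ᵁ V') inf_le_right).hom) := by
  haveI := isQuasicoherent_pullback p₁ F
  let W' := p₁ ⁻¹ᵁ W ⊓ p₂ ⁻¹ᵁ V'
  have hW' : IsAffineOpen W' := isAffineOpen_chart H hV hW hWV hV' hV'V
  have hpo := isPushout_chart H hV hW hWV hV' hV'V
  letI : Algebra Γ(S, V) Γ(X, W) := (f.appLE V W hWV).hom.toAlgebra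
  letI : Algebra Γ(S, V) Γ(S', V') := (b.appLE V V' hV'V).hom.toAlgebra
  letI : Algebra Γ(S', V') Γ(X', W') := (p₂.appLE V' W' inf_le_right).hom.toAlgebra
  letI : Algebra Γ(X, W) Γ(X', W') := (p₁.appLE W W' inf_le_left).hom.toAlgebra
  letI : Algebra Γ(S, V) Γ(X', W') := (f.appLE V W hWV ≫ p₁.appLE W W' inf_le_left).hom.toAlgebra
  haveI : IsScalarTower Γ(S, V) Γ(X, W) Γ(X', W') := .of_algebraMap_eq' rfl
  haveI : IsScalarTower Γ(S, V) Γ(S', V') Γ(X', W') :=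
    .of_algebraMap_eq' (congrArg CommRingCat.Hom.hom hpo.w)
  haveI : Algebra.IsPushout Γ(S, V) Γ(S', V') Γ(X, W) Γ(X', W') :=
    (CommRingCat.isPushout_iff_isPushout).1 hpo.flip
  have hmap : (𝓙.ideal ⟨V, hV⟩).map (algebraMap Γ(S, V) Γ(S', V')) = Ideal.span {g} := by
    rw [← hg, MP99.ideal_comap 𝓙 b ⟨V, hV⟩ ⟨V', hV'⟩ hV'V]
    rfl
  have hreg : IsSMulRegular Γ(S', V') g := isSMulRegular_iff_right_eq_zero_of_smul.2 fun x hx =>
    (mul_right_mem_nonZeroDivisors_eq_zero_iff hgreg).1 (by rw [mul_comm]; exact hx)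
  obtain ⟨hflat, hfp⟩ := key Γ(S', V') Γ(X', W') g hreg hmap
  let B := Γ(X', W')
  let gB : B := algebraMap Γ(S', V') B g
  let M := Γ((Scheme.Modules.pullback p₁).obj F, W')
  let E : M ≃ₗ[B] B ⊗[Γ(X, W)] Γ(F, W) := sectionsPullbackEquiv p₁ F hW hW' inf_le_left
  have hideal := exceptional_ideal_chart H 𝓙 hV' hW' hg
  have hkilled : ∀ m : M, π.app W' m = 0 ↔ ∃ n : ℕ, gB ^ n • m = 0 := by
    intro m
    rw [hG.2 ⟨W', hW'⟩ m]
    refine exists_congr fun n => ?_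
    rw [Scheme.IdealSheafData.ideal_pow, Pi.pow_apply, hideal, Ideal.span_singleton_pow]
    exact ⟨fun h => h _ (Ideal.mem_span_singleton_self _), fun h a ha => by
      obtain ⟨c, rfl⟩ := Ideal.mem_span_singleton'.1 ha
      show (c * gB ^ n) • m = 0
      rw [mul_smul, h, smul_zero]⟩
  have hsurj : Function.Surjective (π.app W') := by
    let Sc : ShortComplex X'.Modules := ShortComplex.mk (kernel.ι π) π (kernel.condition π)
    haveI := hG.1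
    have hS : Sc.ShortExact :=
      { exact := ShortComplex.exact_of_f_is_kernel _ (kernelIsKernel π), epi_g := hG.1 }
    exact app_surjective_of_isAffineOpen Sc hS hW'
  let πl : M →ₗ[B] Γ(G, W') :=
    { toFun := fun m => π.app W' m
      map_add' := fun a b => map_add _ a b
      map_smul' := fun r m => Scheme.Modules.Hom.app_smul π r m }
  have hGreg : IsSMulRegular Γ(G, W') gB := isSMulRegular_iff_right_eq_zero_of_smul.2 fun y hy => by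
    obtain ⟨m, rfl⟩ := hsurj y
    change gB • πl m = 0 at hy
    rw [← map_smul] at hy
    obtain ⟨n, hn⟩ := (hkilled _).1 hy
    exact (hkilled m).2 ⟨n + 1, by rw [pow_succ, mul_smul, hn]⟩
  obtain ⟨e⟩ := exists_equiv_st (s := gB) (πl ∘ₗ E.symm.toLinearMap) (hsurj.comp E.symm.surjective)
    (fun x hx => by
      obtain ⟨n, hn⟩ := (hkilled _).1 hx
      exact ⟨n, E.symm.injective (by rw [map_smul, map_zero]; exact hn)⟩) hGreg
  refine ⟨Module.FinitePresentation.of_equiv e, ?_⟩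
  letI : Module Γ(S', V') Γ(G, W') := Module.compHom _ (p₂.appLE V' W' inf_le_right).hom
  haveI : IsScalarTower Γ(S', V') B Γ(G, W') := IsScalarTower.of_algebraMap_smul fun _ _ => rfl
  haveI := hflat
  exact Module.Flat.of_linearEquiv (e.restrictScalars Γ(S', V')).symm

/-- Flattening by an admissible blow-up. -/
theorem exists_flattening_blowUp {X S : Scheme.{u}} [CompactSpace S] [QuasiSeparatedSpace S] [CompactSpace X]
    (f : X ⟶ S) [LocallyOfFinitePresentation f] (U : S.Opens) (hU : IsCompact (U : Set S))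
    (F : X.Modules) (hqc : Coh.IsQCoh F) (hft : CohB1.IsFT F)
    (hfpU : CohB1.IsFP ((Scheme.Modules.pullback (f ⁻¹ᵁ U).ι).obj F))
    (hflU : ∀ x : X, f.base x ∈ U → FlatMod.IsFlatOverAt f F x) :
    ∃ (𝓘 : S.IdealSheafData) (S' : Scheme.{u}) (b : S' ⟶ S), BlowUp.IsBlowUp b 𝓘 ∧ BlowUp.IsAdmissibleFor U 𝓘 ∧
      ∀ (X' : Scheme.{u}) (p₁ : X' ⟶ X) (p₂ : X' ⟶ S'), IsPullback p₁ p₂ f b →
      ∀ (G : X'.Modules) (π : (Scheme.Modules.pullback p₁).obj F ⟶ G),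
        BlowUp.IsStrictTransform p₁ (𝓘.comap f) F G π → CohB1.IsFP G ∧ FlatMod.IsFlatOver p₂ G := by
  classical
  haveI := hqc
  haveI := hft
  haveI : F.IsQuasicoherent := hqc
  have hpair : ∀ x : X, ∃ (V : S.affineOpens) (W : X.affineOpens), x ∈ W.1 ∧ W.1 ≤ f ⁻¹ᵁ V.1 := fun x => by
    obtain ⟨V, hV, hxV, -⟩ := exists_isAffineOpen_mem_and_subset (show f x ∈ (⊤ : S.Opens) from trivial)
    obtain ⟨W, hW, hxW, hWle⟩ := exists_isAffineOpen_mem_and_subset (show x ∈ f ⁻¹ᵁ V from hxV)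
    exact ⟨⟨V, hV⟩, ⟨W, hW⟩, hxW, hWle⟩
  choose Vx Wx hxW hWV using hpair
  obtain ⟨t, ht⟩ := isCompact_univ.elim_finite_subcover (fun x => ((Wx x).1 : Set X)) (fun x => (Wx x).1.isOpen)
    fun x _ => Set.mem_iUnion.2 ⟨x, hxW x⟩
  choose 𝔞 h𝔞 h𝔞U h𝔞cov using fun x : ↥(t : Set X) => exists_centre U hU (Vx x.1).2
  choose J hJ hJrad hkey using fun x : ↥(t : Set X) =>
    exists_chart_ideal f U F hfpU hflU (Vx x.1).2 (Wx x.1).2 (hWV x.1) (𝔞 x) (h𝔞 x) (h𝔞U x)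
  have hJcov : ∀ x : ↥(t : Set X), ∀ y ∈ (Vx x.1).1, y ∈ U → ∃ g ∈ J x, y ∈ S.basicOpen g := by
    intro x y hyV hyU
    obtain ⟨g, hg, hyg⟩ := h𝔞cov x y hyV hyU
    obtain ⟨n, hn⟩ := (show g ∈ (J x).radical from hJrad x ▸ Ideal.le_radical hg)
    rcases Nat.eq_zero_or_pos n with rfl | hpos
    · refine ⟨1, by simpa using hn, ?_⟩
      rw [Scheme.basicOpen_of_isUnit _ isUnit_one]
      exact hyV
    · refine ⟨g ^ n, hn, (Scheme.mem_basicOpen _ _ _ hyV).2 ?_⟩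
      rw [map_pow]
      exact ((Scheme.mem_basicOpen _ _ _ hyV).1 hyg).pow n
  obtain ⟨𝓙, hadm, hfac⟩ := exists_common_centre U hU (fun x : ↥(t : Set X) => (Vx x.1).1) (fun x => (Vx x.1).2)
    J hJ hJcov
  obtain ⟨S', b, hb⟩ := FBlow13.exists_isBlowUp_scheme S 𝓙
  refine ⟨𝓙, S', b, hb, hadm, fun X' p₁ p₂ H G π hG => ?_⟩
  haveI := isQuasicoherent_kernel_strictTransform H 𝓙 hb.1 F G π hG
  haveI := isQuasicoherent_pullback p₁ F
  haveI hGqc : G.IsQuasicoherent := by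
    let Sc : ShortComplex X'.Modules := ShortComplex.mk (kernel.ι π) π (kernel.condition π)
    have hS : Sc.ShortExact :=
      { exact := ShortComplex.exact_of_f_is_kernel _ (kernelIsKernel π), epi_g := hG.1 }
    haveI : Sc.X₁.IsQuasicoherent := inferInstanceAs (kernel π).IsQuasicoherent
    haveI : Sc.X₂.IsQuasicoherent := inferInstanceAs ((Scheme.Modules.pullback p₁).obj F).IsQuasicoherent
    exact isQuasicoherent_X₃ Sc hS
  have chart : ∀ x' : X', ∃ (V' : S'.Opens) (W' : X'.Opens) (_ : IsAffineOpen V') (_ : IsAffineOpen W')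
      (e : W' ≤ p₂ ⁻¹ᵁ V'), x' ∈ W' ∧ Module.FinitePresentation Γ(X', W') Γ(G, W') ∧
        @Module.Flat Γ(S', V') Γ(G, W') _ _ (Module.compHom _ (p₂.appLE V' W' e).hom) := by
    intro x'
    obtain ⟨x, hx, hxW'⟩ := Set.mem_iUnion₂.1 (ht (Set.mem_univ (p₁ x')))
    have hxV : p₂ x' ∈ b ⁻¹ᵁ (Vx x).1 := by
      show b (p₂ x') ∈ (Vx x).1
      rw [← Scheme.Hom.comp_apply, ← H.w, Scheme.Hom.comp_apply]
      exact hWV x hxW'
    obtain ⟨V', hxV', hV'le, g, hgreg, hg⟩ := MP99.exists_nzd_le hb.1 (p₂ x') hxV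
    let i : ↥(t : Set X) := ⟨x, hx⟩
    obtain ⟨L, hL, heq⟩ := hfac i
    have hrad : (J i * L).radical = (𝔞 i).radical := by
      refine le_antisymm ?_ (Ideal.radical_le_radical_iff.2 fun a ha => ?_)
      · rw [← hJrad i]; exact Ideal.radical_mono Ideal.mul_le_left
      · exact heq ▸ mem_radical_of_disjoint 𝓙 hadm.2 (Vx x).2 (h𝔞U i a ha)
    obtain ⟨hfp, hfl⟩ := strictTransform_chart H 𝓙 F G π hG (Vx x).2 (Wx x).2 (hWV x) V'.2 hV'le g hgreg hg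
      (by
        intro T B _ _ _ _ _ _ _ _ _ g hg hmap
        exact hkey i L hL hrad T B g hg (heq ▸ hmap))
    exact ⟨V'.1, _, V'.2, isAffineOpen_chart H (Vx x).2 (Wx x).2 (hWV x) V'.2 hV'le, inf_le_right,
      ⟨hxW', hxV'⟩, hfp, hfl⟩
  choose V' W' hV' hW' e hx hfp hfl using chart
  refine ⟨Props58.LocFree.isFP_of_sections G W'
    (IsOpenCover.mk (top_le_iff.mp fun y _ => Opens.mem_iSup.mpr ⟨y, hx y⟩)) hW' hfp, fun x' => ?_⟩
  exact FlatMor68.FlatSections.flatAt_of_sections p₂ (e x') (hW' x') (hV' x')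
    (isLocAt_of_isQuasicoherent G (hW' x')) (hfl x') (hx x')

end Groth.Agent.FlatCrit65.Blow
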