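import Groth.Agent.FlatCrit65.Blow.Flatten
import Mathlib

/-!
Flattening by a blow-up on an affine chart: over any algebra in which the centre is generated by a regular
element the strict transform is flat and finitely presented.
-/

set_option autoImplicit false
set_option linter.style.haveILetI false
set_option linter.unusedSectionVars false
set_option synthInstance.maxHeartbeats 100000

universe u

open TensorProduct

namespace Groth.Agent.FlatCrit65.Blow

section Generic

variable {R : Type u} [CommRing R] {T : Type u} [CommRing T] [Algebra R T]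

theorem isAdapted_of_map_eq [IsLocalRing T] {J : Ideal R} (hJ : J.FG) {g : T} (hg : IsSMulRegular T g)
    (h : J.map (algebraMap R T) = Ideal.span {g}) : IsAdapted J T := by
  classical
  obtain ⟨s, rfl⟩ := hJ
  have hdvd : ∀ b ∈ Ideal.span (s : Set R), g ∣ algebraMap R T b := fun b hb =>
    Ideal.mem_span_singleton.1 (h ▸ Ideal.mem_map_of_mem _ hb)
  choose! t ht using fun b (hb : b ∈ s) => hdvd b (Ideal.subset_span hb)
  have hgmem : g ∈ Ideal.span ((s.image (algebraMap R T) : Finset T) : Set T) := by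
    rw [Finset.coe_image, ← Ideal.map_span, h]
    exact Ideal.mem_span_singleton_self g
  have h1 : (1 : T) ∈ Ideal.span ((s.image t : Finset T) : Set T) := by
    have hle : Ideal.span ((s.image (algebraMap R T) : Finset T) : Set T) ≤
        Ideal.span {g} * Ideal.span ((s.image t : Finset T) : Set T) := by
      rw [Ideal.span_le]
      intro x hx
      obtain ⟨b, hb, rfl⟩ := Finset.mem_image.1 hx
      exact Ideal.mem_span_singleton_mul.2 ⟨t b, Ideal.subset_span (Finset.mem_image_of_mem _ hb), (ht b hb).symm⟩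
    obtain ⟨z, hz, hgz⟩ := Ideal.mem_span_singleton_mul.1 (hle hgmem)
    have : z = 1 := hg (by simp only [smul_eq_mul, mul_one]; exact hgz)
    exact this ▸ hz
  obtain ⟨b, hb, hu⟩ : ∃ b ∈ s, IsUnit (t b) := by
    by_contra hne
    push Not at hne
    have hle : Ideal.span ((s.image t : Finset T) : Set T) ≤ IsLocalRing.maximalIdeal T := Ideal.span_le.2 fun x hx => by
      obtain ⟨b, hb, rfl⟩ := Finset.mem_image.1 hx
      exact hne b hb
    exact hle h1 isUnit_one
  refine ⟨b, Ideal.subset_span hb, ?_, fun c hc => ?_⟩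
  · intro x y hxy
    refine hu.isSMulRegular T (hg ?_)
    simp only [smul_eq_mul] at hxy ⊢
    rw [← mul_assoc, ← mul_assoc, ← ht b hb, hxy]
  · obtain ⟨u, hu⟩ := hu
    exact dvd_trans ⟨(↑u⁻¹ : T), by rw [ht b hb, ← hu, mul_assoc, Units.mul_inv, mul_one]⟩ (hdvd c hc)

theorem powTorsion_le_of_dvd {g h : T} {k : ℕ} (hd : g ∣ h ^ k) (Q : Type u) [AddCommGroup Q] [Module T Q] :
    FlatCA.powTorsion T g Q ≤ FlatCA.powTorsion T h Q := fun q hq => by
  obtain ⟨n, hn⟩ := (Fit14.mem_powTorsion _ _).1 hq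
  obtain ⟨c, hc⟩ := hd
  refine (Fit14.mem_powTorsion _ _).2 ⟨k * n, ?_⟩
  rw [pow_mul, hc, mul_comm, mul_pow, mul_smul, hn, smul_zero]

theorem regular_localization {L : Type u} [CommRing L] [Algebra T L] (M : Submonoid T) [IsLocalization M L] {g : T}
    (hg : IsSMulRegular T g) : IsSMulRegular L (algebraMap T L g) := by
  haveI : Module.Flat T L := IsLocalization.flat L M
  intro x y hxy
  have := hg.lTensor L
  apply (TensorProduct.rid T L).symm.injective
  apply this
  show g • (x ⊗ₜ[T] (1 : T)) = g • (y ⊗ₜ[T] (1 : T))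
  rw [TensorProduct.smul_tmul', TensorProduct.smul_tmul', Algebra.smul_def, Algebra.smul_def]
  exact congrArg (· ⊗ₜ[T] (1 : T)) hxy

end Generic

section Main

variable {R A N : Type u} [CommRing R] [CommRing A] [Algebra R A] [Algebra.FinitePresentation R A]
  [AddCommGroup N] [Module A N] [Module R N] [IsScalarTower R A N] [Module.Finite A N]

/-- Over an algebra where a multiple of the flattening ideal is generated by a regular element, the torsion free
quotient is flat. -/
theorem flat_st (𝔞 : Ideal R) (h𝔞 : 𝔞.FG) {J : Ideal R} (hJ : J.FG) (hflat : Flattens 𝔞 N J) (L : Ideal R)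
    (hL : L.FG) (hrad : (J * 𝔞 * L).radical = 𝔞.radical) (T : Type u) [CommRing T] [Algebra R T] (g : T)
    (hg : IsSMulRegular T g) (hmap : (J * 𝔞 * L).map (algebraMap R T) = Ideal.span {g}) :
    Module.Flat T (ST T g (T ⊗[R] N)) := by
  refine Module.flat_of_localized_maximal (M := ST T g (T ⊗[R] N)) fun P _ => ?_
  let L' := Localization.AtPrime P
  have hgL : IsSMulRegular L' (algebraMap T L' g) := regular_localization P.primeCompl hg
  have hmapL : (J * 𝔞 * L).map (algebraMap R L') = Ideal.span {algebraMap T L' g} := by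
    rw [IsScalarTower.algebraMap_eq R T L', ← Ideal.map_map, hmap, Ideal.map_span, Set.image_singleton]
  have had : IsAdapted (J * 𝔞 * L) L' := isAdapted_of_map_eq ((hJ.mul h𝔞).mul hL) hgL hmapL
  have hJad : IsAdapted J L' := adapted_of_mul (adapted_of_mul had)
  obtain ⟨f, hf, hfreg, hfdvd⟩ : IsAdapted 𝔞 L' := by
    have := adapted_of_mul had
    rw [mul_comm J 𝔞] at this
    exact adapted_of_mul this
  haveI := hflat L' hJad f hf hfreg hfdvd
  have heq : FlatCA.powTorsion L' (algebraMap R L' f) (L' ⊗[R] N) =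
      FlatCA.powTorsion L' (algebraMap T L' g) (L' ⊗[R] N) := by
    refine le_antisymm ?_ ?_
    · refine powTorsion_le_of_dvd (k := 1) ?_ _
      rw [pow_one]
      have : algebraMap T L' g ∈ 𝔞.map (algebraMap R L') :=
        Ideal.map_mono (show J * 𝔞 * L ≤ 𝔞 from Ideal.mul_le_left.trans Ideal.mul_le_right)
          (hmapL ▸ Ideal.mem_span_singleton_self (algebraMap T L' g))
      refine Ideal.mem_span_singleton.1 ((Ideal.map_le_iff_le_comap.2 fun b hb => ?_) this)
      exact Ideal.mem_span_singleton.2 (hfdvd b hb)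
    · obtain ⟨m, hm⟩ := (show f ∈ (J * 𝔞 * L).radical from hrad ▸ Ideal.le_radical hf)
      refine powTorsion_le_of_dvd (k := m) ?_ _
      rw [← map_pow]
      exact Ideal.mem_span_singleton.1 (hmapL ▸ Ideal.mem_map_of_mem _ hm)
  haveI : Module.Flat L' (ST L' (algebraMap T L' g) (L' ⊗[R] N)) :=
    Module.Flat.of_linearEquiv (Submodule.quotEquivOfEq _ _ heq.symm)
  obtain ⟨e₁⟩ := st_congr (s := algebraMap T L' g) (AlgebraTensorModule.cancelBaseChange R T L' L' N)
  obtain ⟨e₂⟩ := st_baseChange (S := T) (s := g) (M := T ⊗[R] N) L'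
  haveI : Module.Flat L' (L' ⊗[T] ST T g (T ⊗[R] N)) := Module.Flat.of_linearEquiv (e₂.symm ≪≫ₗ e₁)
  haveI : Module.Flat T L' := IsLocalization.flat L' P.primeCompl
  haveI : Module.Flat T (L' ⊗[T] ST T g (T ⊗[R] N)) := Module.Flat.trans T L' _
  exact Module.Flat.of_linearEquiv
    ((LocalizedModule.equivTensorProduct P.primeCompl (ST T g (T ⊗[R] N))).restrictScalars T)

/-- Flattening on an affine chart: there is an ideal with the radical of the centre such that over any algebra
on which a multiple of it, with the same radical, becomes principal and regular, the strict transform is flat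
and finitely presented. -/
theorem exists_flattening_ideal (𝔞 : Ideal R) (h𝔞 : 𝔞.FG)
    (hfp : ∀ f ∈ 𝔞, Module.FinitePresentation (Localization.Away (algebraMap R A f))
      (LocalizedModule (Submonoid.powers (algebraMap R A f)) N))
    (hflat : ∀ f ∈ 𝔞, Module.Flat (Localization.Away f) (Localization.Away f ⊗[R] N)) :
    ∃ J : Ideal R, J.FG ∧ J.radical = 𝔞.radical ∧ ∀ (L : Ideal R), L.FG → (J * L).radical = 𝔞.radical →
      ∀ (T B : Type u) [CommRing T] [CommRing B] [Algebra R T] [Algebra T B] [Algebra R B] [Algebra A B]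
        [IsScalarTower R T B] [IsScalarTower R A B] [Algebra.IsPushout R T A B] (g : T),
        IsSMulRegular T g → (J * L).map (algebraMap R T) = Ideal.span {g} →
          Module.Flat T (ST B (algebraMap T B g) (B ⊗[A] N)) ∧
          Module.FinitePresentation B (ST B (algebraMap T B g) (B ⊗[A] N)) := by
  classical
  obtain ⟨J₀, hJ₀, hJ₀rad, hFl⟩ := exists_flattening 𝔞 h𝔞 hfp hflat
  refine ⟨J₀ * 𝔞, hJ₀.mul h𝔞, by rw [Ideal.radical_mul, hJ₀rad, inf_idem], ?_⟩
  intro L hL hrad T B _ _ _ _ _ _ _ _ _ g hg hmap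
  let Q := B ⊗[A] N
  let gB := algebraMap T B g
  let P : Submodule B Q := FlatCA.powTorsion B gB Q
  let M := Q ⧸ P
  haveI hflatT := flat_st 𝔞 h𝔞 hJ₀ hFl L hL hrad T g hg hmap
  obtain ⟨e₁⟩ := st_congr (s := g) ((Algebra.IsPushout.cancelBaseChange R T A B N : Q ≃ₗ[T] T ⊗[R] N))
  let e₂ : ST T g Q ≃ₗ[T] M :=
    (Submodule.quotEquivOfEq _ _ (restrictScalars_powTorsion (S := B) (M := Q) g).symm) ≪≫ₗ
      Submodule.Quotient.restrictScalarsEquiv T P
  haveI hMflat : Module.Flat T M := Module.Flat.of_linearEquiv (e₂.symm ≪≫ₗ e₁)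
  refine ⟨hMflat, ?_⟩
  haveI : Algebra.IsPushout R A T B := Algebra.IsPushout.symm inferInstance
  haveI : Algebra.FinitePresentation T B :=
    Algebra.FinitePresentation.equiv ((Algebra.IsPushout.equiv R T A B))
  obtain ⟨n, π₀, hπ₀⟩ := Module.Finite.exists_fin' A N
  obtain ⟨s, hs⟩ := h𝔞
  let e : B ⊗[A] (Fin n → A) ≃ₗ[B] (Fin n → B) := TensorProduct.piScalarRight A B B (Fin n)
  let θ : B ⊗[A] (Fin n → A) →ₗ[B] Q := π₀.baseChange B
  let π : (Fin n → B) →ₗ[B] M := P.mkQ ∘ₗ θ ∘ₗ e.symm.toLinearMap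
  have hπ : Function.Surjective π :=
    P.mkQ_surjective.comp ((LinearMap.lTensor_surjective B hπ₀).comp e.symm.surjective)
  obtain ⟨k, s', hs'⟩ : ∃ (k : ℕ) (s' : Fin k → R), Set.range s' = (s : Set R) :=
    ⟨s.card, fun i => (s.equivFin.symm i).1, by
      ext x
      exact ⟨fun ⟨i, hi⟩ => hi ▸ (s.equivFin.symm i).2, fun hx => ⟨s.equivFin ⟨x, hx⟩, by simp⟩⟩⟩
  have hs'mem : ∀ i, s' i ∈ 𝔞 := fun i => hs ▸ Ideal.subset_span (hs' ▸ ⟨i, rfl⟩)
  refine finitePresentation_small (R := T) (ι := Fin k) (fun i => Submonoid.powers (algebraMap R T (s' i)))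
    (fun c hc => ?_) π hπ fun i => ?_
  · let Ann : Ideal R :=
      { carrier := {a | algebraMap R T a * c = 0}
        add_mem' := fun {a b} ha hb => by
          show algebraMap R T (a + b) * c = 0
          rw [map_add, add_mul, show algebraMap R T a * c = 0 from ha, show algebraMap R T b * c = 0 from hb, add_zero]
        zero_mem' := by show algebraMap R T 0 * c = 0; rw [map_zero, zero_mul]
        smul_mem' := fun a b hb => by
          show algebraMap R T (a * b) * c = 0
          rw [map_mul, mul_assoc, show algebraMap R T b * c = 0 from hb, mul_zero] }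
    have h𝔞le : 𝔞 ≤ Ann.radical := by
      rw [← hs, Ideal.span_le]
      intro a ha
      obtain ⟨i, rfl⟩ := hs'.symm ▸ ha
      obtain ⟨_, ⟨m, rfl⟩, hm⟩ := hc i
      exact ⟨m, by show algebraMap R T (s' i ^ m) * c = 0; rw [map_pow]; exact hm⟩
    obtain ⟨m, hm⟩ : ∃ m, (J₀ * 𝔞 * L) ^ m ≤ Ann :=
      Ideal.exists_pow_le_of_le_radical_of_fg (Ideal.mul_le_left.trans (Ideal.mul_le_right.trans h𝔞le))
        (((hJ₀.mul ⟨s, hs⟩).mul hL))
    have hgm : g ^ m ∈ ((J₀ * 𝔞 * L) ^ m).map (algebraMap R T) := by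
      rw [Ideal.map_pow, hmap]
      exact Ideal.pow_mem_pow (Ideal.mem_span_singleton_self g) m
    refine (hg.pow m).right_eq_zero_of_smul ?_
    rw [smul_eq_mul]
    have hker : ((J₀ * 𝔞 * L) ^ m).map (algebraMap R T) ≤ (Submodule.span T {c}).annihilator := by
      rw [Ideal.map_le_iff_le_comap]
      intro a ha
      show algebraMap R T a ∈ (Submodule.span T {c}).annihilator
      rw [Submodule.mem_annihilator_span_singleton, smul_eq_mul]
      exact hm ha
    have := hker hgm
    rw [Submodule.mem_annihilator_span_singleton, smul_eq_mul] at this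
    exact this
  · haveI := hfp (s' i) (hs'mem i)
    obtain ⟨K₀, hK₀, hK₀le, hK₀mem⟩ := exists_fg_le_ker_at π₀ hπ₀ (Submonoid.powers (algebraMap R A (s' i)))
    haveI : Module.Finite A K₀ := Module.Finite.iff_fg.2 hK₀
    let κ := e.toLinearMap ∘ₗ K₀.subtype.baseChange B
    refine ⟨LinearMap.range κ, Submodule.fg_range κ, ?_, fun x hx => ?_⟩
    · rintro _ ⟨w, rfl⟩
      show P.mkQ (θ (e.symm (e (K₀.subtype.baseChange B w)))) = 0
      rw [e.symm_apply_apply]
      have : θ ∘ₗ K₀.subtype.baseChange B = 0 := by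
        rw [show θ ∘ₗ K₀.subtype.baseChange B = (π₀ ∘ₗ K₀.subtype).baseChange B from
          (LinearMap.baseChange_comp _ _).symm,
          show π₀ ∘ₗ K₀.subtype = 0 from LinearMap.ext fun y => hK₀le y.2, LinearMap.baseChange_zero]
      rw [show θ (K₀.subtype.baseChange B w) = 0 from LinearMap.congr_fun this w, map_zero]
    · obtain ⟨l, hl⟩ := (Fit14.mem_powTorsion _ _).1 ((Submodule.Quotient.mk_eq_zero P).1 hx)
      change gB ^ l • θ (e.symm x) = 0 at hl
      rw [← map_smul] at hl
      obtain ⟨w, hw⟩ := ((lTensor_exact B π₀.exact_subtype_ker_map hπ₀) _).1 hl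
      let sB := algebraMap R B (s' i)
      have hkey : ∀ w, ∃ n : ℕ, sB ^ n • (LinearMap.ker π₀).subtype.lTensor B w ∈
          LinearMap.range (K₀.subtype.baseChange B) := by
        intro w
        induction w using TensorProduct.induction_on with
        | zero => exact ⟨0, by simp⟩
        | add a b ha hb =>
          obtain ⟨p, hp⟩ := ha
          obtain ⟨q, hq⟩ := hb
          refine ⟨p + q, ?_⟩
          rw [map_add, smul_add]
          refine add_mem ?_ ?_
          · rw [add_comm, pow_add, mul_smul]; exact Submodule.smul_mem _ _ hp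
          · rw [pow_add, mul_smul]; exact Submodule.smul_mem _ _ hq
        | tmul b y =>
          obtain ⟨_, ⟨p, rfl⟩, hp⟩ := hK₀mem y.1 y.2
          refine ⟨p, b ⊗ₜ[A] ⟨_, hp⟩, ?_⟩
          show b ⊗ₜ[A] (algebraMap R A (s' i) ^ p • (y : Fin n → A)) = sB ^ p • (b ⊗ₜ[A] (y : Fin n → A))
          rw [TensorProduct.tmul_smul, ← algebraMap_smul B (algebraMap R A (s' i) ^ p), map_pow,
            ← IsScalarTower.algebraMap_apply]
      obtain ⟨p, hp⟩ := hkey w
      rw [hw] at hp
      obtain ⟨m, hm⟩ := (show s' i ∈ (J₀ * 𝔞 * L).radical from hrad ▸ Ideal.le_radical (hs'mem i))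
      obtain ⟨t, ht⟩ := Ideal.mem_span_singleton.1 (hmap ▸ Ideal.mem_map_of_mem (algebraMap R T) hm)
      refine ⟨algebraMap R T (s' i) ^ (m * l + p), ⟨m * l + p, rfl⟩, ?_⟩
      obtain ⟨z, hz⟩ := hp
      refine ⟨algebraMap T B t ^ l • z, ?_⟩
      show e (K₀.subtype.baseChange B (algebraMap T B t ^ l • z)) = algebraMap T B (algebraMap R T (s' i) ^ (m * l + p)) • x
      rw [map_smul, hz]
      apply e.symm.injective
      rw [e.symm_apply_apply, e.symm.map_smul, smul_smul, smul_smul]
      congr 1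
      rw [map_pow (algebraMap T B), ← IsScalarTower.algebraMap_apply, pow_add, pow_mul, ← map_pow (algebraMap R B) (s' i) m,
        IsScalarTower.algebraMap_apply R T B (s' i ^ m), ht, map_mul, mul_pow]
      show _ = gB ^ l * algebraMap T B t ^ l * sB ^ p
      ring

end Main

end Groth.Agent.FlatCrit65.Blow
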