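import Groth.Agent.FlatCrit65.Blow.Affine
import Mathlib

/-!
Flattening by a blow-up of an algebra of finite type.
-/

set_option autoImplicit false
set_option linter.style.haveILetI false
set_option linter.unusedSectionVars false
set_option synthInstance.maxHeartbeats 100000

universe u

open TensorProduct

namespace Groth.Agent.FlatCrit65.Blow

/-- A flat localisation of a module gives flatness of the base change to the localised ring. -/
theorem flat_away_of_localized {R M M' : Type u} [CommRing R] (g : R) [AddCommGroup M] [Module R M] [AddCommGroup M']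
    [Module R M'] (l : M →ₗ[R] M') [IsLocalizedModule (Submonoid.powers g) l] [Module.Flat R M'] :
    Module.Flat (Localization.Away g) (Localization.Away g ⊗[R] M) := by
  let L := Localization.Away g
  haveI : IsLocalizedModule (Submonoid.powers g) (TensorProduct.mk R L M 1) :=
    (isLocalizedModule_iff_isBaseChange (Submonoid.powers g) L _).mpr (TensorProduct.isBaseChange R M L)
  haveI : Module.Flat R (L ⊗[R] M) := Module.Flat.of_linearEquiv
    (IsLocalizedModule.linearEquiv (Submonoid.powers g) (TensorProduct.mk R L M 1) l)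
  exact (Module.flat_iff_of_isLocalization L (Submonoid.powers g) (L ⊗[R] M)).2 inferInstance

/-- Flattening of an algebra of finite type which is flat and finitely presented away from the centre. -/
theorem exists_flattening_algebra {R A : Type u} [CommRing R] [CommRing A] [Algebra R A] [Algebra.FiniteType R A]
    (𝔞 : Ideal R) (h𝔞 : 𝔞.FG)
    (hD : ∀ g ∈ 𝔞, ∃ (A' : Type u) (_ : CommRing A') (_ : Algebra A A'),
      IsLocalization.Away (algebraMap R A g) A' ∧ ((algebraMap A A').comp (algebraMap R A)).FinitePresentation ∧
      ((algebraMap A A').comp (algebraMap R A)).Flat) :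
    ∃ J : Ideal R, J.FG ∧ J.radical = 𝔞.radical ∧ ∀ (L : Ideal R), L.FG → (J * L).radical = 𝔞.radical →
      ∀ (T B : Type u) [CommRing T] [CommRing B] [Algebra R T] [Algebra T B] [Algebra R B] [Algebra A B]
        [IsScalarTower R T B] [IsScalarTower R A B] [Algebra.IsPushout R T A B] (g : T),
        IsSMulRegular T g → (J * L).map (algebraMap R T) = Ideal.span {g} →
          Module.Flat T (B ⧸ FlatCA.powTorsion B (algebraMap T B g) B) ∧
          Algebra.FinitePresentation T (B ⧸ FlatCA.powTorsion B (algebraMap T B g) B) := by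
  obtain ⟨n, φ, hφ⟩ := Algebra.FiniteType.iff_quotient_mvPolynomial''.mp (inferInstance : Algebra.FiniteType R A)
  let P := MvPolynomial (Fin n) R
  letI : Algebra P A := φ.toRingHom.toAlgebra
  haveI : IsScalarTower R P A := IsScalarTower.of_algebraMap_eq fun r => (φ.commutes r).symm
  haveI : Module.Finite P A := Module.Finite.of_surjective (Algebra.linearMap P A) hφ
  have hmap : ∀ g : R, algebraMap P A (algebraMap R P g) = algebraMap R A g := fun g =>
    (IsScalarTower.algebraMap_apply R P A g).symm
  have hfp : ∀ g ∈ 𝔞, Module.FinitePresentation (Localization.Away (algebraMap R P g))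
      (LocalizedModule (Submonoid.powers (algebraMap R P g)) A) := fun g hg => by
    obtain ⟨A', _, _, hloc, hfp, -⟩ := hD g hg
    haveI : IsLocalization.Away (algebraMap P A (algebraMap R P g)) A' := by rw [hmap]; exact hloc
    exact finitePresentation_localized_of_algebra (A := R) hφ (algebraMap R P g) A' hfp
  have hflat : ∀ g ∈ 𝔞, Module.Flat (Localization.Away g) (Localization.Away g ⊗[R] A) := fun g hg => by
    obtain ⟨A', _, _, hloc, -, hfl⟩ := hD g hg
    letI : Algebra R A' := ((algebraMap A A').comp (algebraMap R A)).toAlgebra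
    haveI : IsScalarTower R A A' := IsScalarTower.of_algebraMap_eq fun _ => rfl
    haveI : Module.Flat R A' := hfl
    haveI : IsLocalization (Algebra.algebraMapSubmonoid A (Submonoid.powers g)) A' := by
      rw [show Algebra.algebraMapSubmonoid A (Submonoid.powers g) = Submonoid.powers (algebraMap R A g) from
        Submonoid.map_powers _ g]
      exact hloc
    haveI : IsLocalizedModule (Submonoid.powers g) (IsScalarTower.toAlgHom R A A').toLinearMap :=
      isLocalizedModule_iff_isLocalization.2 inferInstance
    exact flat_away_of_localized g (IsScalarTower.toAlgHom R A A').toLinearMap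
  obtain ⟨J, hJ, hJrad, hkey⟩ := exists_flattening_ideal (A := P) (N := A) 𝔞 h𝔞 hfp hflat
  refine ⟨J, hJ, hJrad, fun L hL hrad T B _ _ _ _ _ _ _ _ _ g hg hmapJ => ?_⟩
  let BP := T ⊗[R] P
  letI : Algebra P BP := Algebra.TensorProduct.rightAlgebra
  haveI : IsScalarTower R P BP := IsScalarTower.of_algebraMap_eq fun r => by
    show algebraMap R BP r = Algebra.TensorProduct.includeRight (algebraMap R P r)
    rw [AlgHom.commutes]
  haveI : Algebra.IsPushout R T P BP := TensorProduct.isPushout
  letI : Algebra P B := ((algebraMap A B).comp (algebraMap P A)).toAlgebra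
  haveI : IsScalarTower P A B := IsScalarTower.of_algebraMap_eq fun _ => rfl
  haveI : IsScalarTower R P B := IsScalarTower.of_algebraMap_eq fun r => by
    rw [IsScalarTower.algebraMap_apply R A B, ← hmap]; rfl
  let ψ : BP →ₐ[T] B := Algebra.TensorProduct.lift (Algebra.ofId T B) (IsScalarTower.toAlgHom R P B)
    fun _ _ => Commute.all _ _
  letI : Algebra BP B := ψ.toRingHom.toAlgebra
  haveI : IsScalarTower T BP B := IsScalarTower.of_algebraMap_eq fun t => (ψ.commutes t).symm
  haveI : IsScalarTower P BP B := IsScalarTower.of_algebraMap_eq fun p => by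
    show algebraMap P B p = ψ ((1 : T) ⊗ₜ[R] p)
    rw [Algebra.TensorProduct.lift_tmul, map_one, one_mul]
    rfl
  haveI : IsScalarTower R BP B := IsScalarTower.of_algebraMap_eq fun r => by
    show algebraMap R B r = ψ (algebraMap R BP r)
    rw [IsScalarTower.algebraMap_apply R T BP, ψ.commutes, ← IsScalarTower.algebraMap_apply R T B]
  haveI : Algebra.IsPushout R P T BP := Algebra.IsPushout.symm inferInstance
  haveI : Algebra.IsPushout R A T B := Algebra.IsPushout.symm inferInstance
  haveI : Algebra.IsPushout P A BP B := (Algebra.IsPushout.comp_iff (R := R) (S := P) (R' := T) (S' := BP) (T := A) (T' := B)).1 inferInstance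
  haveI : Algebra.IsPushout P BP A B := Algebra.IsPushout.symm inferInstance
  let e : BP ⊗[P] A ≃ₗ[BP] B := (Algebra.IsPushout.equiv P BP A B).toLinearEquiv
  obtain ⟨hflatM, hfpM⟩ := hkey L hL hrad T BP g hg hmapJ
  let gBP := algebraMap T BP g
  obtain ⟨e₁⟩ := st_congr (S := BP) (M := BP ⊗[P] A) (M' := B) (s := gBP) e
  let 𝒥 : Ideal B := FlatCA.powTorsion B (algebraMap T B g) B
  have hres : (𝒥.restrictScalars BP) = FlatCA.powTorsion BP gBP B := by
    rw [← restrictScalars_powTorsion (R := BP) (S := B) (M := B) gBP, ← IsScalarTower.algebraMap_apply T BP B]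
  let e₂ : ST BP gBP B ≃ₗ[BP] B ⧸ 𝒥 :=
    Submodule.quotEquivOfEq _ _ hres.symm ≪≫ₗ Submodule.Quotient.restrictScalarsEquiv BP 𝒥
  haveI := hflatM
  haveI := hfpM
  haveI : Module.FinitePresentation BP (B ⧸ 𝒥) := Module.FinitePresentation.of_equiv (e₁ ≪≫ₗ e₂)
  refine ⟨Module.Flat.of_linearEquiv ((e₁ ≪≫ₗ e₂).restrictScalars T).symm, ?_⟩
  have hsurj : Function.Surjective (IsScalarTower.toAlgHom T BP (B ⧸ 𝒥)) := by
    intro y
    obtain ⟨x, rfl⟩ := Ideal.Quotient.mk_surjective y
    obtain ⟨z, rfl⟩ : ∃ z, algebraMap BP B z = x := by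
      obtain ⟨w, rfl⟩ := e.surjective x
      induction w using TensorProduct.induction_on with
      | zero => exact ⟨0, by simp⟩
      | add a b ha hb =>
        obtain ⟨za, hza⟩ := ha
        obtain ⟨zb, hzb⟩ := hb
        exact ⟨za + zb, by rw [map_add, map_add, hza, hzb]⟩
      | tmul c a =>
        obtain ⟨p, rfl⟩ := hφ a
        refine ⟨c * algebraMap P BP p, ?_⟩
        show algebraMap BP B (c * algebraMap P BP p) = Algebra.IsPushout.equiv P BP A B (c ⊗ₜ[P] φ p)
        rw [Algebra.IsPushout.equiv_tmul, map_mul, ← IsScalarTower.algebraMap_apply P BP B,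
          IsScalarTower.algebraMap_apply P A B]
        rfl
    exact ⟨z, rfl⟩
  exact Algebra.FinitePresentation.of_surjective hsurj
    (Module.FinitePresentation.fg_ker (Algebra.linearMap BP (B ⧸ 𝒥)) hsurj)

end Groth.Agent.FlatCrit65.Blow
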