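import Groth.Agent.Div89.IdealExtend
import Groth.Agent.MP99.Ops
import Groth.Prelude.Def_BlowUp2
import Mathlib

/-!
Centres of admissible blow-ups seen on affine opens.
-/

set_option autoImplicit false
set_option linter.style.haveILetI false

universe u

open CategoryTheory CategoryTheory.Limits AlgebraicGeometry TopologicalSpace Opposite

noncomputable section

namespace Groth.Agent.FlatCrit65.Blow

variable {S : Scheme.{u}}

/-- A finitely generated ideal on the affine open cutting out the complement of the open. -/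
theorem exists_centre [QuasiSeparatedSpace S] (U : S.Opens) (hU : IsCompact (U : Set S)) {V : S.Opens}
    (hV : IsAffineOpen V) :
    ∃ 𝔞 : Ideal Γ(S, V), 𝔞.FG ∧ (∀ g ∈ 𝔞, S.basicOpen g ≤ U) ∧
      ∀ x ∈ V, x ∈ U → ∃ g ∈ 𝔞, x ∈ S.basicOpen g := by
  classical
  have hc : IsCompact ((U : Set S) ∩ V) :=
    QuasiSeparatedSpace.inter_isCompact _ _ U.isOpen hU V.isOpen hV.isCompact
  choose g hgU hxg using fun x : ↥((U : Set S) ∩ V) =>
    hV.exists_basicOpen_le (V := U) ⟨x.1, x.2.1⟩ x.2.2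
  obtain ⟨t, ht⟩ := hc.elim_finite_subcover (fun x => (S.basicOpen (g x) : Set S))
    (fun x => (S.basicOpen (g x)).isOpen) fun x hx => Set.mem_iUnion.2 ⟨⟨x, hx⟩, hxg ⟨x, hx⟩⟩
  refine ⟨Ideal.span (t.image g : Set Γ(S, V)), ⟨t.image g, rfl⟩, fun a ha => ?_, fun x hxV hxU => ?_⟩
  · induction ha using Submodule.span_induction with
    | mem b hb =>
      obtain ⟨x, -, rfl⟩ := Finset.mem_image.1 hb
      exact hgU x
    | zero => rw [Scheme.basicOpen_zero]; exact bot_le
    | add b c _ _ hb hc =>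
      intro y hy
      by_contra hyU
      have hy' := hy
      rw [Scheme.mem_basicOpen _ _ _ (S.basicOpen_le _ hy), map_add] at hy'
      rcases IsLocalRing.isUnit_or_isUnit_of_isUnit_add hy' with h | h
      · exact hyU (hb ((Scheme.mem_basicOpen _ _ _ (S.basicOpen_le _ hy)).2 h))
      · exact hyU (hc ((Scheme.mem_basicOpen _ _ _ (S.basicOpen_le _ hy)).2 h))
    | smul r b _ hb =>
      rw [smul_eq_mul, Scheme.basicOpen_mul]
      exact inf_le_right.trans hb
  · obtain ⟨i, hi, hxi⟩ := Set.mem_iUnion₂.1 (ht ⟨hxU, hxV⟩)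
    exact ⟨g i, Ideal.subset_span (Finset.mem_image_of_mem _ hi), hxi⟩

/-- An ideal sheaf whose support misses the open contains, on an affine open, powers of the functions whose basic
open lies in the open. -/
theorem mem_radical_of_disjoint {U : S.Opens} (𝓙 : S.IdealSheafData)
    (h : Disjoint (𝓙.support : Set S) (U : Set S)) {V : S.Opens} (hV : IsAffineOpen V) {g : Γ(S, V)}
    (hg : S.basicOpen g ≤ U) : g ∈ (𝓙.ideal ⟨V, hV⟩).radical := by
  rw [Ideal.radical_eq_sInf, Ideal.mem_sInf]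
  rintro p ⟨hle, hp⟩
  by_contra hgp
  let x := hV.fromSpec ⟨p, hp⟩
  have hxV : x ∈ V := hV.range_fromSpec.subset ⟨_, rfl⟩
  have hmem : ∀ a : Γ(S, V), x ∈ S.basicOpen a ↔ a ∉ p := fun a => by
    have := hV.fromSpec_preimage_basicOpen a
    exact (SetLike.ext_iff.1 this ⟨p, hp⟩)
  refine Set.disjoint_left.1 h (?_ : x ∈ (𝓙.support : Set S)) (hg ((hmem g).2 hgp))
  refine (?_ : x ∈ (𝓙.support : Set S) ∩ (V : Set S)).1
  rw [show (V : Set S) = ((⟨V, hV⟩ : S.affineOpens).1 : Set S) from rfl, 𝓙.coe_support_inter ⟨V, hV⟩]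
  refine ⟨(Scheme.mem_zeroLocus_iff _ _ _).2 fun a ha hxa => (hmem a).1 hxa (hle ha), hxV⟩

/-- A finitely generated ideal on an affine open, trivial on the open, extends to an admissible centre. -/
theorem exists_extension [CompactSpace S] [QuasiSeparatedSpace S] (U : S.Opens) (hU : IsCompact (U : Set S))
    {V : S.Opens} (hV : IsAffineOpen V) (I : Ideal Γ(S, V)) (hI : I.FG)
    (h : ∀ x ∈ V, x ∈ U → ∃ g ∈ I, x ∈ S.basicOpen g) :
    ∃ 𝓙 : S.IdealSheafData, BlowUp.IsAdmissibleFor U 𝓙 ∧ 𝓙.ideal ⟨V, hV⟩ = I := by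
  haveI : IsAffine V.toScheme := hV
  let Vtop : V.toScheme.affineOpens := ⟨⊤, isAffineOpen_top _⟩
  have e : (⊤ : V.toScheme.Opens) ≤ V.ι ⁻¹ᵁ V := fun x _ => x.2
  let φ : Γ(S, V) →+* Γ(V.toScheme, ⊤) := (V.ι.appLE V ⊤ e).hom
  haveI : IsIso (V.ι.appLE V ⊤ e) := by
    have htop : V.ι ⁻¹ᵁ V = ⊤ := V.ι_preimage_self
    have hf : V.ι.appLE V ⊤ e = V.ι.app V ≫ V.toScheme.presheaf.map (eqToHom htop.symm).op := rfl
    haveI : IsIso (V.ι.app V) := V.ι.isIso_app V (by rw [V.opensRange_ι])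
    rw [hf]
    infer_instance
  have hφ : Function.Bijective φ := ConcreteCategory.bijective_of_isIso (V.ι.appLE V ⊤ e)
  let 𝓘 := Scheme.IdealSheafData.ofIdealTop (I.map φ)
  have hft : BlowUp.IsFiniteTypeIdeal 𝓘 := fun W => by
    rw [Scheme.IdealSheafData.ofIdealTop_ideal]
    exact (hI.map _).map _
  have hdisj : Disjoint (𝓘.support : Set V.toScheme) ((V.ι ⁻¹ᵁ U : V.toScheme.Opens) : Set V.toScheme) := by
    rw [Set.disjoint_left]
    intro x hx hxU
    rw [Scheme.IdealSheafData.coe_support_ofIdealTop] at hx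
    obtain ⟨g, hg, hxg⟩ := h x.1 x.2 hxU
    refine (Scheme.mem_zeroLocus_iff _ _ _).1 hx (φ g) (Ideal.mem_map_of_mem _ hg) ?_
    show x ∈ V.toScheme.basicOpen ((V.ι.appLE V ⊤ e).hom g)
    rw [Scheme.basicOpen_appLE]
    exact ⟨trivial, hxg⟩
  obtain ⟨𝓙, hadm, hcomap⟩ := Div89.exists_admissible_extension U V hU hV.isCompact 𝓘 ⟨hft, hdisj⟩
  refine ⟨𝓙, hadm, ?_⟩
  have h1 : (𝓙.ideal ⟨V, hV⟩).map φ = I.map φ := by
    rw [← MP99.ideal_comap 𝓙 V.ι ⟨V, hV⟩ Vtop e, hcomap, Scheme.IdealSheafData.ofIdealTop_ideal]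
    convert Ideal.map_id (I.map φ) using 2
    exact congrArg CommRingCat.Hom.hom (V.toScheme.presheaf.map_id (op ⊤))
  have h2 := congrArg (Ideal.comap φ) h1
  rwa [Ideal.comap_map_of_bijective φ hφ, Ideal.comap_map_of_bijective φ hφ] at h2

/-- A single admissible centre which is, on each of finitely many affine opens, a multiple of the given ideal. -/
theorem exists_common_centre [CompactSpace S] [QuasiSeparatedSpace S] (U : S.Opens) (hU : IsCompact (U : Set S))
    {ι : Type u} [Finite ι] (V : ι → S.Opens) (hV : ∀ i, IsAffineOpen (V i)) (I : ∀ i, Ideal Γ(S, V i))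
    (hI : ∀ i, (I i).FG) (h : ∀ i, ∀ x ∈ V i, x ∈ U → ∃ g ∈ I i, x ∈ S.basicOpen g) :
    ∃ 𝓙 : S.IdealSheafData, BlowUp.IsAdmissibleFor U 𝓙 ∧
      ∀ i, ∃ L : Ideal Γ(S, V i), L.FG ∧ 𝓙.ideal ⟨V i, hV i⟩ = I i * L := by
  classical
  cases nonempty_fintype ι
  choose 𝓘 hadm heq using fun i => exists_extension U hU (hV i) (I i) (hI i) (h i)
  have hprod : ∀ s : Finset ι, BlowUp.IsAdmissibleFor U (∏ i ∈ s, 𝓘 i) := by
    intro s
    induction s using Finset.induction_on with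
    | empty =>
      rw [Finset.prod_empty, Scheme.IdealSheafData.one_eq_top]
      refine ⟨fun W => ?_, ?_⟩
      · rw [Scheme.IdealSheafData.ideal_top]
        exact ⟨{1}, by simp⟩
      · rw [Scheme.IdealSheafData.support_top]
        simp
    | insert i s hi ih =>
      rw [Finset.prod_insert hi]
      refine ⟨fun W => ?_, ?_⟩
      · rw [Scheme.IdealSheafData.ideal_mul, Pi.mul_apply]
        exact ((hadm i).1 W).mul (ih.1 W)
      · rw [Scheme.IdealSheafData.support_mul, Closeds.coe_sup, Set.disjoint_union_left]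
        exact ⟨(hadm i).2, ih.2⟩
  refine ⟨∏ i, 𝓘 i, hprod _, fun i => ⟨(∏ j ∈ Finset.univ.erase i, 𝓘 j).ideal ⟨V i, hV i⟩, (hprod _).1 _, ?_⟩⟩
  rw [← Finset.mul_prod_erase Finset.univ 𝓘 (Finset.mem_univ i), Scheme.IdealSheafData.ideal_mul, Pi.mul_apply,
    heq i]

end Groth.Agent.FlatCrit65.Blow
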