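import Groth.Agent.FlatCrit65.Blow.Affine
import Groth.Agent.FlatCrit65.Blow.Centre
import Groth.Agent.FlatMor68.FlatSections
import Groth.Agent.Props58.LocFree.FP
import Groth.Agent.Ega11.StrictTransformCoh
import Groth.Agent.LimTop61.PullBC
import Groth.Agent.MP99.Ops
import Groth.Prelude.Def_FlatMod2
import Mathlib

/-!
Flattening by a blow-up read on affine charts of schemes.
-/

set_option autoImplicit false
set_option linter.style.haveILetI false
set_option backward.isDefEq.respectTransparency.types false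

universe u

open CategoryTheory CategoryTheory.Limits AlgebraicGeometry TopologicalSpace Opposite TensorProduct
open Groth.Agent.QC70 Groth.Agent.QCPull72

noncomputable section

namespace Groth.Agent.FlatCrit65.Blow

/-- Finite presentation descends along an isomorphism of rings. -/
theorem finitePresentation_of_bijective {R S M : Type u} [CommRing R] [CommRing S] [Algebra R S]
    [AddCommGroup M] [Module R M] (h : Function.Bijective (algebraMap R S))
    [Module.FinitePresentation S (S ⊗[R] M)] : Module.FinitePresentation R M := by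
  let e : R ≃ₗ[R] S := LinearEquiv.ofBijective (Algebra.linearMap R S) h
  haveI : Module.FinitePresentation R S := Module.FinitePresentation.of_equiv e
  haveI : Module.FinitePresentation R (S ⊗[R] M) := Module.FinitePresentation.trans R (S ⊗[R] M) S
  exact Module.FinitePresentation.of_equiv
    ((TensorProduct.congr e.symm (LinearEquiv.refl R M)) ≪≫ₗ TensorProduct.lid R M)

variable {X S : Scheme.{u}} (f : X ⟶ S) (U : S.Opens) (F : X.Modules) [F.IsQuasicoherent]

/-- Sections over affine opens above the open are finitely presented. -/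
theorem finitePresentation_sections_above (hfpU : CohB1.IsFP ((Scheme.Modules.pullback (f ⁻¹ᵁ U).ι).obj F))
    {D : X.Opens} (hD : IsAffineOpen D) (hle : D ≤ f ⁻¹ᵁ U) : Module.FinitePresentation Γ(X, D) Γ(F, D) := by
  let U' := f ⁻¹ᵁ U
  let D' : U'.toScheme.Opens := U'.ι ⁻¹ᵁ D
  have hr : D ≤ U'.ι.opensRange := by rw [U'.opensRange_ι]; exact hle
  have hD' : IsAffineOpen D' := hD.preimage_of_isOpenImmersion U'.ι hr
  haveI := hfpU
  letI : Algebra Γ(X, D) Γ(U'.toScheme, D') := (U'.ι.appLE D D' le_rfl).hom.toAlgebra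
  haveI hfp := Props58.LocFree.finitePresentation_sections ((Scheme.Modules.pullback U'.ι).obj F) hD'
  haveI : Module.FinitePresentation Γ(U'.toScheme, D') (Γ(U'.toScheme, D') ⊗[Γ(X, D)] Γ(F, D)) :=
    Module.FinitePresentation.of_equiv (sectionsPullbackEquiv U'.ι F hD hD' le_rfl)
  haveI : IsIso (U'.ι.app D) := U'.ι.isIso_app D hr
  refine finitePresentation_of_bijective (S := Γ(U'.toScheme, D')) ?_
  show Function.Bijective (U'.ι.appLE D D' le_rfl).hom
  rw [Scheme.Hom.appLE_eq_app]
  exact ConcreteCategory.bijective_of_isIso (U'.ι.app D)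

/-- Finite presentation after inverting a function whose basic open lies above the open. -/
theorem finitePresentation_away (hfpU : CohB1.IsFP ((Scheme.Modules.pullback (f ⁻¹ᵁ U).ι).obj F))
    {W : X.Opens} (hW : IsAffineOpen W) (a : Γ(X, W)) (ha : X.basicOpen a ≤ f ⁻¹ᵁ U) :
    Module.FinitePresentation (Localization.Away a) (LocalizedModule (Submonoid.powers a) Γ(F, W)) := by
  letI := Props58.LocFree.resAlg (X.basicOpen_le a)
  letI := Props58.LocFree.resModule F (X.basicOpen_le a)
  haveI := Props58.LocFree.isScalarTower_res F (X.basicOpen_le a)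
  haveI := Props58.LocFree.isLocalization_resAlg hW a
  haveI hloc := Props58.LocFree.isLocalizedModule_resLin F (isLocAt_of_isQuasicoherent F hW) a
  haveI := finitePresentation_sections_above f U F hfpU (hW.basicOpen a) ha
  let L := Localization.Away a
  let φ : Γ(X, X.basicOpen a) ≃ₐ[Γ(X, W)] L := IsLocalization.algEquiv (Submonoid.powers a) _ _
  letI : Algebra Γ(X, X.basicOpen a) L := φ.toRingEquiv.toRingHom.toAlgebra
  haveI : IsScalarTower Γ(X, W) Γ(X, X.basicOpen a) L := IsScalarTower.of_algebraMap_eq fun x => (φ.commutes x).symm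
  let eb := ((isLocalizedModule_iff_isBaseChange (Submonoid.powers a) Γ(X, X.basicOpen a)
    (Props58.LocFree.resLin F (X.basicOpen_le a))).1 hloc).equiv
  haveI : Module.FinitePresentation L (L ⊗[Γ(X, W)] Γ(F, W)) :=
    Module.FinitePresentation.of_equiv
      ((AlgebraTensorModule.congr (LinearEquiv.refl L L) eb.symm) ≪≫ₗ
        AlgebraTensorModule.cancelBaseChange Γ(X, W) Γ(X, X.basicOpen a) L L Γ(F, W))
  exact Module.FinitePresentation.of_equiv (LocalizedModule.equivTensorProduct (Submonoid.powers a) Γ(F, W)).symm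

/-- Flatness after inverting a function of the base whose basic open lies in the open. -/
theorem flat_away (hflU : ∀ x : X, f.base x ∈ U → FlatMod.IsFlatOverAt f F x) {V : S.Opens} (hV : IsAffineOpen V)
    {W : X.Opens} (hW : IsAffineOpen W) (hWV : W ≤ f ⁻¹ᵁ V) (g : Γ(S, V)) (hg : S.basicOpen g ≤ U) :
    letI : Module Γ(S, V) Γ(F, W) := Module.compHom _ (f.appLE V W hWV).hom
    Module.Flat (Localization.Away g) (Localization.Away g ⊗[Γ(S, V)] Γ(F, W)) := by
  letI : Module Γ(S, V) Γ(F, W) := Module.compHom _ (f.appLE V W hWV).hom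
  letI : Algebra Γ(S, V) Γ(X, W) := (f.appLE V W hWV).hom.toAlgebra
  haveI : IsScalarTower Γ(S, V) Γ(X, W) Γ(F, W) := IsScalarTower.of_algebraMap_smul fun _ _ => rfl
  let a : Γ(X, W) := algebraMap Γ(S, V) Γ(X, W) g
  have hDle : X.basicOpen a ≤ f ⁻¹ᵁ S.basicOpen g := by
    show X.basicOpen ((f.appLE V W hWV).hom g) ≤ _
    rw [Scheme.basicOpen_appLE]
    exact inf_le_right
  have hfl := FlatMor68.FlatSections.flat_sections f hDle (hW.basicOpen a) (hV.basicOpen g)
    (isLocAt_of_isQuasicoherent F (hW.basicOpen a)) fun x hx => hflU x (hg (hDle hx))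
  letI := Props58.LocFree.resAlg (X.basicOpen_le a)
  letI := Props58.LocFree.resModule F (X.basicOpen_le a)
  haveI hloc := Props58.LocFree.isLocalizedModule_resLin F (isLocAt_of_isQuasicoherent F hW) a
  letI : Module Γ(S, V) Γ(F, X.basicOpen a) :=
    Module.compHom _ ((X.presheaf.map (homOfLE (X.basicOpen_le a)).op).hom.comp (f.appLE V W hWV).hom)
  haveI : IsScalarTower Γ(S, V) Γ(X, W) Γ(F, X.basicOpen a) := IsScalarTower.of_algebraMap_smul fun _ _ => rfl
  letI := Props58.LocFree.resAlg (S.basicOpen_le g)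
  haveI : IsLocalization.Away g Γ(S, S.basicOpen g) := Props58.LocFree.isLocalization_resAlg hV g
  letI : Module Γ(S, S.basicOpen g) Γ(F, X.basicOpen a) :=
    Module.compHom _ (f.appLE (S.basicOpen g) (X.basicOpen a) hDle).hom
  haveI : Module.Flat Γ(S, S.basicOpen g) Γ(F, X.basicOpen a) := hfl
  haveI : IsScalarTower Γ(S, V) Γ(S, S.basicOpen g) Γ(F, X.basicOpen a) :=
    IsScalarTower.of_algebraMap_smul fun r m => by
      have h : S.presheaf.map (homOfLE (S.basicOpen_le g)).op ≫ f.appLE (S.basicOpen g) (X.basicOpen a) hDle =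
          f.appLE V W hWV ≫ X.presheaf.map (homOfLE (X.basicOpen_le a)).op := by
        simp only [Scheme.Hom.appLE, Category.assoc, f.naturality_assoc, ← Functor.map_comp]
        rfl
      exact congrArg (fun φ => (φ.hom r : Γ(X, X.basicOpen a)) • m) h
  haveI : Module.Flat Γ(S, V) Γ(S, S.basicOpen g) := IsLocalization.flat _ (Submonoid.powers g)
  haveI : Module.Flat Γ(S, V) Γ(F, X.basicOpen a) := Module.Flat.trans Γ(S, V) Γ(S, S.basicOpen g) _
  haveI hlocR : IsLocalizedModule (Submonoid.powers g)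
      ((Props58.LocFree.resLin F (X.basicOpen_le a)).restrictScalars Γ(S, V)) := by
    haveI : IsLocalizedModule (Algebra.algebraMapSubmonoid Γ(X, W) (Submonoid.powers g))
        (Props58.LocFree.resLin F (X.basicOpen_le a)) := by
      have : Algebra.algebraMapSubmonoid Γ(X, W) (Submonoid.powers g) = Submonoid.powers a :=
        Submonoid.map_powers _ g
      rw [this]
      exact hloc
    exact IsLocalizedModule.restrictScalars _ _
  let L := Localization.Away g
  haveI : IsLocalizedModule (Submonoid.powers g) (TensorProduct.mk Γ(S, V) L Γ(F, W) 1) :=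
    (isLocalizedModule_iff_isBaseChange (Submonoid.powers g) L _).mpr (TensorProduct.isBaseChange Γ(S, V) Γ(F, W) L)
  haveI : Module.Flat Γ(S, V) (L ⊗[Γ(S, V)] Γ(F, W)) := Module.Flat.of_linearEquiv
    ((IsLocalizedModule.linearEquiv (Submonoid.powers g) (TensorProduct.mk Γ(S, V) L Γ(F, W) 1)
      ((Props58.LocFree.resLin F (X.basicOpen_le a)).restrictScalars Γ(S, V))))
  exact (Module.flat_iff_of_isLocalization L (Submonoid.powers g) (L ⊗[Γ(S, V)] Γ(F, W))).2 inferInstance

/-- The ideal of a chart, with what it does on any chart of a base change. -/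
theorem exists_chart_ideal [LocallyOfFinitePresentation f] [CohB1.IsFT F]
    (hfpU : CohB1.IsFP ((Scheme.Modules.pullback (f ⁻¹ᵁ U).ι).obj F))
    (hflU : ∀ x : X, f.base x ∈ U → FlatMod.IsFlatOverAt f F x)
    {V : S.Opens} (hV : IsAffineOpen V) {W : X.Opens} (hW : IsAffineOpen W) (hWV : W ≤ f ⁻¹ᵁ V)
    (𝔞 : Ideal Γ(S, V)) (h𝔞 : 𝔞.FG) (h𝔞U : ∀ g ∈ 𝔞, S.basicOpen g ≤ U) :
    ∃ J : Ideal Γ(S, V), J.FG ∧ J.radical = 𝔞.radical ∧ ∀ L : Ideal Γ(S, V), L.FG → (J * L).radical = 𝔞.radical →
      letI : Algebra Γ(S, V) Γ(X, W) := (f.appLE V W hWV).hom.toAlgebra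
      ∀ (T B : Type u) [CommRing T] [CommRing B] [Algebra Γ(S, V) T] [Algebra T B] [Algebra Γ(S, V) B]
        [Algebra Γ(X, W) B] [IsScalarTower Γ(S, V) T B] [IsScalarTower Γ(S, V) Γ(X, W) B]
        [Algebra.IsPushout Γ(S, V) T Γ(X, W) B] (g : T),
        IsSMulRegular T g → (J * L).map (algebraMap Γ(S, V) T) = Ideal.span {g} →
          Module.Flat T (ST B (algebraMap T B g) (B ⊗[Γ(X, W)] Γ(F, W))) ∧
          Module.FinitePresentation B (ST B (algebraMap T B g) (B ⊗[Γ(X, W)] Γ(F, W))) := by
  letI : Algebra Γ(S, V) Γ(X, W) := (f.appLE V W hWV).hom.toAlgebra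
  letI : Module Γ(S, V) Γ(F, W) := Module.compHom _ (f.appLE V W hWV).hom
  haveI : IsScalarTower Γ(S, V) Γ(X, W) Γ(F, W) := IsScalarTower.of_algebraMap_smul fun _ _ => rfl
  haveI : Algebra.FinitePresentation Γ(S, V) Γ(X, W) := f.finitePresentation_appLE hV hW hWV
  haveI : Module.Finite Γ(X, W) Γ(F, W) := finite_sections_of_isFiniteType F hW
  refine exists_flattening_ideal 𝔞 h𝔞 (fun g hg => finitePresentation_away f U F hfpU hW _ ?_)
    fun g hg => flat_away f U F hflU hV hW hWV g (h𝔞U g hg)
  show X.basicOpen ((f.appLE V W hWV).hom g) ≤ _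
  rw [Scheme.basicOpen_appLE]
  exact inf_le_right.trans fun x hx => h𝔞U g hg hx

end Groth.Agent.FlatCrit65.Blow
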