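import Groth.Agent.FlatCrit65.Blow.ExtendSection
import Groth.Agent.RegImm10.BlowModel
import Mathlib

/-!
Extending a partial morphism into a compactification properly after an admissible blow-up.
-/

set_option autoImplicit false
set_option linter.style.haveILetI false
set_option backward.isDefEq.respectTransparency.types false

universe u

open CategoryTheory CategoryTheory.Limits AlgebraicGeometry TopologicalSpace

noncomputable section

namespace Groth.Agent.FlatCrit65.Blow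

/-- Morphisms agreeing after composing with a morphism which is an isomorphism over their image agree. -/
theorem eq_of_isIso_restrict {D Z Y : Scheme.{u}} (φ : Z ⟶ Y) {O : Y.Opens} [IsIso (φ ∣_ O)] (l : D ⟶ O.toScheme)
    (a b : D ⟶ Z) (ha : a ≫ φ = l ≫ O.ι) (hb : b ≫ φ = l ≫ O.ι) : a = b := by
  have sq := isPullback_morphismRestrict φ O
  let a' := sq.lift l a ha.symm
  let b' := sq.lift l b hb.symm
  have hab : a' = b' := by rw [← cancel_mono (φ ∣_ O), IsPullback.lift_fst, IsPullback.lift_fst]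
  exact ((sq.lift_snd _ _ _).symm.trans (congrArg (· ≫ _) hab)).trans (sq.lift_snd _ _ _)

theorem exists_proper_extension_over {U S Y : Scheme.{u}} [CompactSpace S] [QuasiSeparatedSpace S]
    (g : U ⟶ S) [IsSeparated g] [LocallyOfFiniteType g] [QuasiCompact g]
    (V : U.Opens) (hV : IsCompact (V : Set U)) (j : (V : Scheme.{u}) ⟶ Y) [IsOpenImmersion j] [QuasiCompact j]
    (πY : Y ⟶ S) [IsProper πY] (hj : j ≫ πY = V.ι ≫ g) :
    ∃ (𝓘 : Y.IdealSheafData) (Y' : Scheme.{u}) (b : Y' ⟶ Y), BlowUp.IsBlowUp b 𝓘 ∧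
      BlowUp.IsAdmissibleFor j.opensRange 𝓘 ∧
      ∃ (V' : Y'.Opens) (hle : b ⁻¹ᵁ j.opensRange ≤ V') (h : (V' : Scheme.{u}) ⟶ U),
        IsProper h ∧ h ≫ g = V'.ι ≫ b ≫ πY ∧
        ∃ k : ((b ⁻¹ᵁ j.opensRange : Y'.Opens) : Scheme.{u}) ⟶ V,
          k ≫ j = (b ∣_ j.opensRange) ≫ j.opensRange.ι ∧ Y'.homOfLE hle ≫ h = k ≫ V.ι := by
  haveI : CompactSpace V.toScheme := isCompact_iff_compactSpace.1 hV
  haveI : CompactSpace Y := QuasiCompact.compactSpace_of_compactSpace πY
  haveI : QuasiSeparatedSpace Y := quasiSeparatedSpace_of_quasiSeparated πY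
  let γ : V.toScheme ⟶ pullback g πY := pullback.lift V.ι j hj.symm
  have hγ : γ ≫ pullback.snd g πY = j := pullback.lift_snd _ _ _
  haveI : QuasiCompact (γ ≫ pullback.snd g πY) := by rw [hγ]; infer_instance
  haveI : QuasiCompact γ := QuasiCompact.of_comp γ (pullback.snd g πY)
  let φ := γ.imageι ≫ pullback.snd g πY
  haveI : IsIso (φ ∣_ j.opensRange) := isIso_image_comp_restrict (pullback.snd g πY) γ j hγ
  have hR : IsCompact (j.opensRange : Set Y) := isCompact_range j.continuous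
  obtain ⟨𝓘, Y', b, hb, hadm, hsupp, hstr⟩ := exists_openImmersion_blowUp φ j.opensRange hR
  haveI : IsProper b := RegImm10.BlowModel.isProper_of_isBlowUp hadm.1 hb
  have H := IsPullback.of_hasPullback φ b
  have hft : BlowUp.IsFiniteTypeIdeal ((𝓘.comap φ).comap (pullback.fst φ b)) :=
    Div89.isFiniteTypeIdeal_comap _ (Div89.isFiniteTypeIdeal_comap _ hadm.1)
  let 𝒥 := strictIdeal _ hft
  obtain ⟨hoi, hiso⟩ := hstr _ _ _ H 𝒥 (strictIdeal_iff _ hft)
  let q := 𝒥.subschemeι ≫ pullback.snd φ b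
  haveI : IsOpenImmersion q := hoi
  let O := (𝓘.comap b).support.compl
  haveI : IsIso (q ∣_ O) := hiso
  have hle : b ⁻¹ᵁ j.opensRange ≤ q.opensRange := fun y hy => by
    have hyO : y ∈ O := by
      show y ∉ (𝓘.comap b).support
      rw [Scheme.IdealSheafData.support_comap]
      intro h
      have h' : b y ∈ (𝓘.support : Set Y) := h
      rw [hsupp] at h'
      exact h' hy
    obtain ⟨z, hz⟩ := (q ∣_ O).homeomorph.surjective ⟨y, hyO⟩
    refine ⟨(q ⁻¹ᵁ O).ι z, ?_⟩
    rw [← Scheme.Hom.comp_apply, ← morphismRestrict_ι q O, Scheme.Hom.comp_apply]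
    exact congrArg Subtype.val hz
  haveI : IsProper (pullback.fst φ b) := inferInstance
  haveI : IsProper (pullback.fst g πY) := inferInstance
  refine ⟨𝓘, Y', b, hb, hadm, q.opensRange, hle,
    q.isoOpensRange.inv ≫ 𝒥.subschemeι ≫ pullback.fst φ b ≫ γ.imageι ≫ pullback.fst g πY, inferInstance,
    ?_, (b ∣_ j.opensRange) ≫ j.isoOpensRange.inv, ?_, ?_⟩
  · simp only [Category.assoc]
    rw [pullback.condition, show γ.imageι ≫ pullback.snd g πY ≫ πY = φ ≫ πY from by simp [φ],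
      pullback.condition_assoc, ← Scheme.Hom.isoOpensRange_inv_comp q]
    simp only [q, Category.assoc]
  · rw [Category.assoc, Scheme.Hom.isoOpensRange_inv_comp]
  have key : Y'.homOfLE hle ≫ q.isoOpensRange.inv ≫ 𝒥.subschemeι ≫ pullback.fst φ b =
      ((b ∣_ j.opensRange) ≫ j.isoOpensRange.inv) ≫ γ.toImage := by
    refine eq_of_isIso_restrict φ (b ∣_ j.opensRange) _ _ ?_ ?_
    · simp only [Category.assoc, pullback.condition]
      rw [morphismRestrict_ι, ← Category.assoc 𝒥.subschemeι]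
      rw [show (𝒥.subschemeι ≫ pullback.snd φ b) = q from rfl, Scheme.Hom.isoOpensRange_inv_comp_assoc,
        Scheme.homOfLE_ι_assoc]
    · simp only [φ, Category.assoc, Scheme.Hom.toImage_imageι_assoc, hγ, Scheme.Hom.isoOpensRange_inv_comp]
  calc _ = (Y'.homOfLE hle ≫ q.isoOpensRange.inv ≫ 𝒥.subschemeι ≫ pullback.fst φ b) ≫
        γ.imageι ≫ pullback.fst g πY := by simp only [Category.assoc]
    _ = _ := by
      rw [key]
      simp only [Category.assoc, Scheme.Hom.toImage_imageι_assoc, γ, pullback.lift_fst]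

theorem exists_proper_extension {U S Y : Scheme.{u}} [CompactSpace S] [QuasiSeparatedSpace S]
    (g : U ⟶ S) [IsSeparated g] [LocallyOfFiniteType g] [QuasiCompact g]
    (V : U.Opens) (hV : IsCompact (V : Set U)) (j : (V : Scheme.{u}) ⟶ Y) [IsOpenImmersion j] [QuasiCompact j]
    (πY : Y ⟶ S) [IsProper πY] (hj : j ≫ πY = V.ι ≫ g) :
    ∃ (𝓘 : Y.IdealSheafData) (Y' : Scheme.{u}) (b : Y' ⟶ Y), BlowUp.IsBlowUp b 𝓘 ∧
      BlowUp.IsAdmissibleFor j.opensRange 𝓘 ∧
      ∃ (V' : Y'.Opens) (hle : b ⁻¹ᵁ j.opensRange ≤ V') (h : (V' : Scheme.{u}) ⟶ U),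
        IsProper h ∧
        ∃ k : ((b ⁻¹ᵁ j.opensRange : Y'.Opens) : Scheme.{u}) ⟶ V,
          k ≫ j = (b ∣_ j.opensRange) ≫ j.opensRange.ι ∧ Y'.homOfLE hle ≫ h = k ≫ V.ι := by
  obtain ⟨𝓘, Y', b, hb, ha, V', hle, h, hh, -, hk⟩ := exists_proper_extension_over g V hV j πY hj
  exact ⟨𝓘, Y', b, hb, ha, V', hle, h, hh, hk⟩

end Groth.Agent.FlatCrit65.Blow
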