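import Groth.Agent.FlatCrit65.Blow.StrictClosure
import Groth.Agent.FlatCrit65.Blow.GraphClosure
import Mathlib

/-!
A modification and its base have a common admissible blow-up.
-/

set_option autoImplicit false
set_option linter.style.haveILetI false
set_option backward.isDefEq.respectTransparency.types false

universe u

open CategoryTheory CategoryTheory.Limits AlgebraicGeometry TopologicalSpace

noncomputable section

namespace Groth.Agent.FlatCrit65.Blow

/-- A proper morphism which is an isomorphism over a quasi-compact open has a blow-up which is an admissible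
blow-up of the target. -/
theorem exists_common_blowUp {X X' : Scheme.{u}} [CompactSpace X] [QuasiSeparatedSpace X]
    (f : X' ⟶ X) [IsProper f] (U : X.Opens) (hU : IsCompact (U : Set X)) [IsIso (f ∣_ U)] :
    ∃ (𝓘' : X'.IdealSheafData) (𝓘 : X.IdealSheafData) (Y : Scheme.{u}) (c' : Y ⟶ X'),
      BlowUp.IsBlowUp c' 𝓘' ∧ BlowUp.IsAdmissibleFor (f ⁻¹ᵁ U) 𝓘' ∧
      BlowUp.IsBlowUp (c' ≫ f) 𝓘 ∧ BlowUp.IsAdmissibleFor U 𝓘 := by
  obtain ⟨𝓘, Y, b, hb, hadm, hsupp, h, hh⟩ := exists_dominating_blowUp f U hU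
  refine ⟨𝓘.comap f, 𝓘, Y, h, ⟨?_, fun Z g hg => ?_⟩,
    ⟨Div89.isFiniteTypeIdeal_comap f hadm.1, ?_⟩, hh.symm ▸ hb, hadm⟩
  · rw [← Scheme.IdealSheafData.comap_comp, hh]
    exact hb.1
  · rw [← Scheme.IdealSheafData.comap_comp] at hg
    obtain ⟨k, hk, hku⟩ := hb.2 Z (g ≫ f) hg
    obtain ⟨hdom, haff⟩ := H98Strict.dominant_compl hg
    let O : Z.Opens := ((𝓘.comap (g ≫ f))).support.compl
    haveI : IsSchemeTheoreticallyDominant O.ι := hdom
    haveI : IsAffineHom O.ι := haff
    have e : (k ≫ h) ≫ f = g ≫ f := by rw [Category.assoc, hh, hk]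
    refine ⟨k, ?_, fun k' hk' => hku k' (show k' ≫ b = g ≫ f from by rw [← hh, ← Category.assoc, hk'])⟩
    refine ext_of_dominant O.ι f (k ≫ h) g e ?_
    have hOU : O ≤ (g ≫ f) ⁻¹ᵁ U := fun z hz => by
      show (g ≫ f) z ∈ (U : Set X)
      by_contra hzU
      refine hz ?_
      rw [Scheme.IdealSheafData.support_comap]
      show (g ≫ f) z ∈ (𝓘.support : Set X)
      rw [hsupp]
      exact hzU
    refine eq_of_isIso_restrict f (Z.homOfLE hOU ≫ ((g ≫ f) ∣_ U)) _ _ ?_ ?_
    · simp only [Category.assoc, hh, hk, morphismRestrict_ι, Scheme.homOfLE_ι_assoc]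
    · simp only [Category.assoc, morphismRestrict_ι, Scheme.homOfLE_ι_assoc]
  · rw [Scheme.IdealSheafData.support_comap]
    exact hadm.2.preimage _

end Groth.Agent.FlatCrit65.Blow
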