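import Groth.Agent.FlatCrit65.Blow.PushAffine
import Groth.Agent.Div89.IdealExtend
import Mathlib

/-!
A composite of blow-ups in ideals of finite type is a blow-up in an ideal of finite type.
-/

set_option autoImplicit false
set_option linter.style.haveILetI false
set_option backward.isDefEq.respectTransparency.types false

universe u

open CategoryTheory CategoryTheory.Limits AlgebraicGeometry TopologicalSpace

noncomputable section

namespace Groth.Agent.FlatCrit65.Blow

theorem isEffCartier_pow {X : Scheme.{u}} {E : X.IdealSheafData} (hE : BlowUp.IsEffCartierIdeal E) :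
    ∀ n : ℕ, BlowUp.IsEffCartierIdeal (E ^ n)
  | 0 => by rw [pow_zero, Scheme.IdealSheafData.one_eq_top]; exact MP99.isEffCartier_top
  | n + 1 => by rw [pow_succ]; exact MP99.isEffCartier_mul (isEffCartier_pow hE n) hE

theorem ker_restrict_eq_comap {X Y : Scheme.{u}} (f : X ⟶ Y) [QuasiCompact f] (W : Y.Opens) :
    (f ∣_ W).ker = f.ker.comap W.ι := by
  refine Scheme.IdealSheafData.ext (funext fun T => ?_)
  rw [Scheme.ker_morphismRestrict_ideal, Scheme.IdealSheafData.ideal_comap_of_isOpenImmersion]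
  simp only [Scheme.Opens.ι_appIso, Iso.refl_inv]
  erw [Ideal.comap_id]

/-- Push-forward of ideals commutes with restriction to an open. -/
theorem comap_map_restrict {X Y : Scheme.{u}} (f : X ⟶ Y) [QuasiCompact f] (G : X.IdealSheafData) (V : Y.Opens) :
    (G.map f).comap V.ι = (G.comap (f ⁻¹ᵁ V).ι).map (f ∣_ V) := by
  show (G.subschemeι ≫ f).ker.comap V.ι = _
  rw [← ker_restrict_eq_comap, morphismRestrict_comp]
  refine Eq.trans (Scheme.Hom.ker_comp (G.subschemeι ∣_ f ⁻¹ᵁ V) (f ∣_ V)) (congrArg (fun T => Scheme.IdealSheafData.map T (f ∣_ V)) ?_)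
  rw [ker_restrict_eq_comap, Scheme.IdealSheafData.ker_subschemeι]

theorem comap_inf_of_isOpenImmersion {X Y : Scheme.{u}} (f : X ⟶ Y) [IsOpenImmersion f] (I J : Y.IdealSheafData) :
    (I ⊓ J).comap f = I.comap f ⊓ J.comap f := by
  refine Scheme.IdealSheafData.ext (funext fun T => ?_)
  simp only [Scheme.IdealSheafData.ideal_inf, Pi.inf_apply, Scheme.IdealSheafData.ideal_comap_of_isOpenImmersion,
    Ideal.comap_inf]

variable {X X' : Scheme.{u}} [CompactSpace X] [QuasiSeparatedSpace X] {I : X.IdealSheafData}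

/-- An ideal of finite type on a blow-up times a high power of the exceptional ideal comes from the base. -/
theorem exists_push (hI : BlowUp.IsFiniteTypeIdeal I) {b : X' ⟶ X} (hb : BlowUp.IsBlowUp b I)
    (B : X'.IdealSheafData) (hB : BlowUp.IsFiniteTypeIdeal B) :
    ∃ n : ℕ, 0 < n ∧ ∃ L : X.IdealSheafData, BlowUp.IsFiniteTypeIdeal L ∧ L.comap b = (I.comap b) ^ n * B := by
  classical
  haveI : IsProper b := RegImm10.BlowModel.isProper_of_isBlowUp hI hb
  obtain ⟨t, ht⟩ := isCompact_univ.elim_finite_subcover (fun V : X.affineOpens => (V.1 : Set X)) (fun V => V.1.2)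
    fun x _ => by
      obtain ⟨V, hV, -⟩ := MP99.exists_affine_le x (W := ⊤) trivial
      exact Set.mem_iUnion.2 ⟨V, hV⟩
  have hloc : ∀ V : X.affineOpens, ∃ n₀ : ℕ, ∀ n, n₀ ≤ n → ∃ 𝔠 : Ideal Γ(X, V.1), 𝔠.FG ∧
      (FSch.idealSpec _ 𝔠).comap ((b ∣_ V.1) ≫ V.2.isoSpec.hom) = ((I.comap b) ^ n * B).comap (b ⁻¹ᵁ V.1).ι := by
    intro V
    haveI : CompactSpace (b ⁻¹ᵁ V.1).toScheme :=
      isCompact_iff_compactSpace.1 (b.isCompact_preimage V.2.isCompact)
    obtain ⟨n₀, h⟩ := exists_push_affine _ (RegImm10.BlowModel.isBlowUp_affine hb V.2)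
      (B.comap (b ⁻¹ᵁ V.1).ι) (Div89.isFiniteTypeIdeal_comap _ hB)
    refine ⟨n₀, fun n hn => ?_⟩
    obtain ⟨𝔠, hc, hc'⟩ := h n hn
    refine ⟨𝔠, hc, hc'.trans ?_⟩
    rw [MP99.comap_mul, An92.FSch.comap_pow]
    congr 2
    rw [RegImm10.BlowModel.idealSpec_comap, ← Scheme.IdealSheafData.comap_comp,
      ← Scheme.IdealSheafData.comap_comp, Category.assoc, IsAffineOpen.isoSpec_hom_fromSpec, morphismRestrict_ι]
  choose n₀ h₀ using hloc
  let n := t.sup n₀ + 1
  have hn : ∀ V ∈ t, n₀ V ≤ n := fun V hV => (Finset.le_sup hV).trans (Nat.le_succ _)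
  refine ⟨n, Nat.succ_pos _, ?_⟩
  set G := (I.comap b) ^ n * B with hG
  have hK : ∀ V : (t : Set X.affineOpens), ∃ K : X.IdealSheafData, BlowUp.IsFiniteTypeIdeal K ∧
      K.comap b ≤ G ∧ (K.comap b).comap (b ⁻¹ᵁ V.1.1).ι = G.comap (b ⁻¹ᵁ V.1.1).ι := by
    rintro ⟨V, hV⟩
    obtain ⟨𝔠, hc, hc'⟩ := h₀ V n (hn V hV)
    let K' := (FSch.idealSpec _ 𝔠).comap V.2.isoSpec.hom
    have hK' : K'.comap (b ∣_ V.1) = G.comap (b ⁻¹ᵁ V.1).ι := by
      rw [← Scheme.IdealSheafData.comap_comp]; exact hc'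
    haveI : CompactSpace V.1.toScheme := isCompact_iff_compactSpace.1 V.2.isCompact
    haveI : QuasiCompact V.1.ι := quasiCompact_of_compactSpace V.1.ι
    let L := K'.map V.1.ι ⊓ G.map b
    have hL : L.comap V.1.ι = K' := by
      rw [comap_inf_of_isOpenImmersion, Div89.comap_map_ι, comap_map_restrict, inf_eq_left,
        Scheme.IdealSheafData.le_map_iff_comap_le, hK']
    have hLV : L.ideal V = 𝔠 := by
      have h := congrArg An92.FSch.toIdeal (RegImm10.BlowModel.idealSpec_comap L V.2)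
      rw [An92.FSch.toIdeal_idealSpec, ← IsAffineOpen.isoSpec_inv_ι, Scheme.IdealSheafData.comap_comp, hL,
        ← Scheme.IdealSheafData.comap_comp, Iso.inv_hom_id, Scheme.IdealSheafData.comap_id,
        An92.FSch.toIdeal_idealSpec] at h
      exact h
    have hfg : ∀ W : X.affineOpens, W.1 ≤ V.1 → (L.ideal W).FG := fun W hW => by
      rw [← L.map_ideal (U := W) (V := V) hW, hLV]
      exact hc.map _
    obtain ⟨K, hKft, hKle, hKeq⟩ := Div89.exists_ft_le L V.1 V.2.isCompact hfg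
    refine ⟨K, hKft, ?_, ?_⟩
    · exact (Scheme.IdealSheafData.le_map_iff_comap_le).1 (hKle.trans inf_le_right)
    · have hKV : K.comap V.1.ι = K' := by
        refine Eq.trans (Scheme.IdealSheafData.ext (funext fun T => ?_)) hL
        rw [Scheme.IdealSheafData.ideal_comap_of_isOpenImmersion,
          Scheme.IdealSheafData.ideal_comap_of_isOpenImmersion]
        rw [hKeq ⟨_, T.2.image_of_isOpenImmersion V.1.ι⟩
          ((V.1.ι.image_le_opensRange _).trans_eq V.1.opensRange_ι)]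
      rw [← Scheme.IdealSheafData.comap_comp, ← morphismRestrict_ι, Scheme.IdealSheafData.comap_comp, hKV]
      exact hK'
  choose K hKft hKle hKeq using hK
  refine ⟨⨆ V, K V, fun W => ?_, le_antisymm ?_ ?_⟩
  · rw [Scheme.IdealSheafData.ideal_iSup, iSup_apply]
    exact Submodule.fg_iSup _ fun V => hKft V W
  · rw [← Scheme.IdealSheafData.le_map_iff_comap_le]
    exact iSup_le fun V => (Scheme.IdealSheafData.le_map_iff_comap_le).2 (hKle V)
  · refine MP99.le_of_local fun p => ?_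
    obtain ⟨V, hV, hp⟩ := Set.mem_iUnion₂.1 (ht (Set.mem_univ (b p)))
    obtain ⟨T, hpT, hT⟩ := MP99.exists_affine_le p (W := b ⁻¹ᵁ V.1) hp
    refine ⟨T, hpT, MP99.ideal_le_of_comap_le (W := b ⁻¹ᵁ V.1) ?_ hT⟩
    rw [← hKeq ⟨V, hV⟩]
    exact Scheme.IdealSheafData.comap_mono _ (Scheme.IdealSheafData.comap_mono b
      (le_iSup K (⟨V, hV⟩ : (t : Set X.affineOpens))))

/-- A composite of blow-ups is a blow-up, with control of the centre. -/
theorem exists_isBlowUp_comp {X'' : Scheme.{u}} (hI : BlowUp.IsFiniteTypeIdeal I) {b : X' ⟶ X}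
    (hb : BlowUp.IsBlowUp b I) (J : X'.IdealSheafData) (hJ : BlowUp.IsFiniteTypeIdeal J) {b' : X'' ⟶ X'}
    (hb' : BlowUp.IsBlowUp b' J) :
    ∃ K : X.IdealSheafData, BlowUp.IsFiniteTypeIdeal K ∧
      (K.support : Set X) = (I.support : Set X) ∪ (fun x' => b x') '' (J.support : Set X') ∧
      BlowUp.IsBlowUp (b' ≫ b) K := by
  obtain ⟨n, hn, L, hL, hLb⟩ := exists_push hI hb J hJ
  refine ⟨I * L, fun W => ?_, ?_, Div89.isBlowUp_comp hb ?_⟩
  · rw [Scheme.IdealSheafData.ideal_mul]; exact (hI W).mul (hL W)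
  · have key : ∀ x', x' ∈ (L.comap b).support ↔ x' ∈ (I.comap b).support ∨ x' ∈ J.support := fun x' => by
      rw [hLb, Scheme.IdealSheafData.support_mul, Scheme.IdealSheafData.support_pow _ n hn.ne']
      exact Iff.rfl
    rw [Scheme.IdealSheafData.support_mul, Closeds.coe_sup]
    ext x
    constructor
    · rintro (hx | hx)
      · exact Or.inl hx
      by_cases hxI : x ∈ I.support
      · exact Or.inl hxI
      haveI := Div89.isIso_off_center hb
      obtain ⟨z, hz⟩ := (b ∣_ I.support.compl).homeomorph.surjective ⟨x, hxI⟩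
      have hbz : b z.1 = x := by
        rw [← morphismRestrict_base_coe]; exact congrArg Subtype.val hz
      refine Or.inr ⟨z.1, ?_, hbz⟩
      rcases (key z.1).1 (by rw [Scheme.IdealSheafData.support_comap]; exact (hbz.symm ▸ hx : b z.1 ∈ _)) with h | h
      · rw [Scheme.IdealSheafData.support_comap] at h
        exact absurd (hbz ▸ (h : b z.1 ∈ I.support)) hxI
      · exact h
    · rintro (hx | ⟨x', hx', rfl⟩)
      · exact Or.inl hx
      · refine Or.inr ?_
        have := (key x').2 (Or.inr hx')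
        rw [Scheme.IdealSheafData.support_comap] at this
        exact this
  · rw [hLb, mul_comm]
    exact Div89.isBlowUp_mul_effCartier (isEffCartier_pow hb.1 n) hb'

/-- A composite of admissible blow-ups is an admissible blow-up. -/
theorem exists_admissible_comp {X'' : Scheme.{u}} {U : X.Opens} (hI : BlowUp.IsAdmissibleFor U I) {b : X' ⟶ X}
    (hb : BlowUp.IsBlowUp b I) (J : X'.IdealSheafData) (hJ : BlowUp.IsAdmissibleFor (b ⁻¹ᵁ U) J) {b' : X'' ⟶ X'}
    (hb' : BlowUp.IsBlowUp b' J) :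
    ∃ K : X.IdealSheafData, BlowUp.IsBlowUp (b' ≫ b) K ∧ BlowUp.IsAdmissibleFor U K := by
  obtain ⟨K, hK, hs, hbK⟩ := exists_isBlowUp_comp hI.1 hb J hJ.1 hb'
  refine ⟨K, hbK, hK, ?_⟩
  rw [hs, Set.disjoint_left]
  rintro x (hx | ⟨x', hx', rfl⟩) hxU
  · exact Set.disjoint_left.1 hI.2 hx hxU
  · exact Set.disjoint_left.1 hJ.2 hx' hxU

end Groth.Agent.FlatCrit65.Blow
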