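import Groth.Agent.FlatCrit65.Blow.OpenImm
import Groth.Agent.Div89.GraphExtend
import Groth.Agent.Div89.IdealExtend
import Groth.Agent.S8857
import Mathlib

/-!
A section of a proper morphism over a quasi-compact open extends after an admissible blow-up.
-/

set_option autoImplicit false
set_option linter.style.haveILetI false
set_option backward.isDefEq.respectTransparency.types false

universe u

open CategoryTheory CategoryTheory.Limits AlgebraicGeometry TopologicalSpace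

noncomputable section

namespace Groth.Agent.FlatCrit65.Blow

/-- The scheme-theoretic image of a partial section is isomorphic to the open over the open. -/
theorem isIso_image_comp_restrict {U X W : Scheme.{u}} (f : X ⟶ W) [IsSeparated f] (s : U ⟶ X) [QuasiCompact s]
    (i : U ⟶ W) [IsOpenImmersion i] (hs : s ≫ f = i) : IsIso ((s.imageι ≫ f) ∣_ i.opensRange) := by
  let O : X.Opens := f ⁻¹ᵁ i.opensRange
  have hsub : Set.range s ⊆ Set.range O.ι := by
    rw [Scheme.Opens.range_ι]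
    rintro _ ⟨x, rfl⟩
    show f (s x) ∈ i.opensRange
    rw [← Scheme.Hom.comp_apply, hs]
    exact ⟨x, rfl⟩
  let sO : U ⟶ O.toScheme := IsOpenImmersion.lift O.ι s hsub
  have hsO : sO ≫ O.ι = s := IsOpenImmersion.lift_fac _ _ _
  have hsec : sO ≫ (f ∣_ i.opensRange) = i.isoOpensRange.hom := by
    rw [← cancel_mono i.opensRange.ι, Category.assoc, morphismRestrict_ι, ← Category.assoc, hsO, hs,
      Scheme.Hom.isoOpensRange_hom_ι]
  haveI : IsClosedImmersion (sO ≫ (f ∣_ i.opensRange)) := by rw [hsec]; infer_instance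
  haveI : IsSeparated (f ∣_ i.opensRange) := inferInstance
  haveI : IsClosedImmersion sO := IsClosedImmersion.of_comp sO (f ∣_ i.opensRange)
  obtain ⟨g, hgi, hg⟩ := Div89.isIso_lift_image s O sO hsO
  let g' : U ⟶ ((s.imageι ≫ f) ⁻¹ᵁ i.opensRange).toScheme := g
  haveI : IsIso g' := hgi
  have hg' : g' ≫ ((s.imageι ≫ f) ⁻¹ᵁ i.opensRange).ι = s.toImage := hg
  have hgp : g' ≫ ((s.imageι ≫ f) ∣_ i.opensRange) = i.isoOpensRange.hom := by
    rw [← cancel_mono i.opensRange.ι, Category.assoc, morphismRestrict_ι, ← Category.assoc, hg',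
      ← Category.assoc, Scheme.Hom.toImage_imageι, hs, Scheme.Hom.isoOpensRange_hom_ι]
  rw [show (s.imageι ≫ f) ∣_ i.opensRange = inv g' ≫ i.isoOpensRange.hom from
    (IsIso.eq_inv_comp g').2 hgp]
  infer_instance

theorem exists_extend_section {X S : Scheme.{u}} [CompactSpace S] [QuasiSeparatedSpace S]
    (U W : S.Opens) (hUW : U ≤ W) (hU : IsCompact (U : Set S)) (hW : IsCompact (W : Set S))
    (f : X ⟶ (W : Scheme.{u})) [IsProper f] (s : (U : Scheme.{u}) ⟶ X) (hs : s ≫ f = S.homOfLE hUW) :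
    ∃ (𝓘 : S.IdealSheafData) (S' : Scheme.{u}) (b : S' ⟶ S), BlowUp.IsBlowUp b 𝓘 ∧ BlowUp.IsAdmissibleFor U 𝓘 ∧
      ∃ s' : ((b ⁻¹ᵁ W : S'.Opens) : Scheme.{u}) ⟶ X, s' ≫ f = b ∣_ W ∧
        S'.homOfLE (show b ⁻¹ᵁ U ≤ b ⁻¹ᵁ W from fun _ hx => hUW hx) ≫ s' = (b ∣_ U) ≫ s := by
  haveI : CompactSpace W.toScheme := isCompact_iff_compactSpace.1 hW
  haveI : CompactSpace U.toScheme := isCompact_iff_compactSpace.1 hU
  haveI : QuasiSeparatedSpace W.toScheme := quasiSeparatedSpace_of_quasiSeparated W.ι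
  haveI : QuasiCompact (S.homOfLE hUW) := quasiCompact_of_compactSpace _
  haveI : QuasiCompact (s ≫ f) := by rw [hs]; infer_instance
  haveI : QuasiCompact s := QuasiCompact.of_comp s f
  let UW : W.toScheme.Opens := W.ι ⁻¹ᵁ U
  have hrange : (S.homOfLE hUW).opensRange = UW := Scheme.opensRange_homOfLE hUW
  haveI hiso : IsIso ((s.imageι ≫ f) ∣_ UW) := hrange ▸ isIso_image_comp_restrict f s (S.homOfLE hUW) hs
  have hUWc : IsCompact (UW : Set W.toScheme) := by
    rw [← hrange]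
    exact isCompact_range (S.homOfLE hUW).continuous
  obtain ⟨𝓘W, W', bW, hbW, hadmW, -, h, hh⟩ := exists_dominating_blowUp (s.imageι ≫ f) UW hUWc
  obtain ⟨𝓙, h𝓙, -, hblow⟩ := Groth.Agent.S8857.result S U W hU hW 𝓘W hadmW
  obtain ⟨S', c, hc⟩ := FBlow13.exists_isBlowUp_scheme S 𝓙
  obtain ⟨k, hk, -⟩ := hbW.2 _ (c ∣_ W) (hblow S' c hc).1
  refine ⟨𝓙, S', c, hc, h𝓙, k ≫ h ≫ s.imageι, ?_, ?_⟩
  · rw [Category.assoc, Category.assoc, hh, hk]
  let le : c ⁻¹ᵁ U ≤ c ⁻¹ᵁ W := fun _ hx => hUW hx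
  let A := S'.homOfLE le ≫ k ≫ h
  let B := (c ∣_ U) ≫ s.toImage
  have hA : A ≫ s.imageι ≫ f = (c ∣_ U) ≫ S.homOfLE hUW := by
    simp only [A, Category.assoc, hh, hk]
    rw [← cancel_mono W.ι]
    simp
  have hB : B ≫ s.imageι ≫ f = (c ∣_ U) ≫ S.homOfLE hUW := by
    simp only [B, Category.assoc, Scheme.Hom.toImage_imageι_assoc, hs]
  have hAB : A = B := by
    have sq := isPullback_morphismRestrict (s.imageι ≫ f) UW
    let l : (c ⁻¹ᵁ U).toScheme ⟶ UW.toScheme :=
      (c ∣_ U) ≫ (S.homOfLE hUW).isoOpensRange.hom ≫ (W.toScheme.isoOfEq hrange).hom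
    have hl : l ≫ UW.ι = (c ∣_ U) ≫ S.homOfLE hUW := by simp [l]
    let a := sq.lift l A (hl.trans hA.symm)
    let b := sq.lift l B (hl.trans hB.symm)
    have hab : a = b := by
      rw [← cancel_mono ((s.imageι ≫ f) ∣_ UW), IsPullback.lift_fst, IsPullback.lift_fst]
    calc A = a ≫ _ := (sq.lift_snd _ _ _).symm
      _ = b ≫ _ := by rw [hab]
      _ = B := sq.lift_snd _ _ _
  calc S'.homOfLE _ ≫ k ≫ h ≫ s.imageι = A ≫ s.imageι := by simp [A]
    _ = B ≫ s.imageι := by rw [hAB]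
    _ = (c ∣_ U) ≫ s := by simp [B]

end Groth.Agent.FlatCrit65.Blow
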