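import Mathlib

/-!
For a flat algebra, fibre dimensions do not grow under specialisation as soon as they are finite.
-/

set_option autoImplicit false
set_option linter.style.haveILetI false

universe u v

open TensorProduct

noncomputable section

namespace Groth.Agent.FlatCrit65.Blow

variable {A : Type u} [CommRing A]

/-- Dependence of `n + 1` elements over the fraction field gives dependence in the special fibre. -/
theorem finite_residue_of_valuation {K : Type u} [Field K] (V : ValuationSubring K) [Algebra A K] [Algebra A V]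
    [IsScalarTower A V K] (B : Type u) [CommRing B] [Algebra A B] [Module.Flat A B]
    [Module.Finite K (K ⊗[A] B)] :
    Module.Finite (IsLocalRing.ResidueField V) (IsLocalRing.ResidueField V ⊗[A] B) := by
  set n := Module.finrank K (K ⊗[A] B)
  let kV := IsLocalRing.ResidueField V
  let ι : V ⊗[A] B →ₗ[A] K ⊗[A] B := (IsScalarTower.toAlgHom A V K).toLinearMap.rTensor B
  let π : V ⊗[A] B →ₗ[A] kV ⊗[A] B := (IsScalarTower.toAlgHom A V kV).toLinearMap.rTensor B
  have hι : Function.Injective ι :=
    Module.Flat.rTensor_preserves_injective_linearMap _ (IsFractionRing.injective V K)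
  have hπ : Function.Surjective π :=
    LinearMap.rTensor_surjective B (IsLocalRing.residue_surjective)
  have hιs : ∀ (a : V) (x : V ⊗[A] B), ι (a • x) = (a : K) • ι x := fun a x => by
    induction x with
    | zero => simp
    | add x y hx hy => simp [smul_add, hx, hy]
    | tmul c b => simp [ι, TensorProduct.smul_tmul']
  have hπs : ∀ (a : V) (x : V ⊗[A] B), π (a • x) = IsLocalRing.residue V a • π x := fun a x => by
    induction x with
    | zero => simp
    | add x y hx hy => simp [smul_add, hx, hy]
    | tmul c b =>
        simp [π, TensorProduct.smul_tmul']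
        rfl
  refine Module.rank_lt_aleph0_iff.1 ((rank_le (n := n) fun s hs => ?_).trans_lt Cardinal.natCast_lt_aleph0)
  by_contra hlt
  push Not at hlt
  choose x hx using fun i : s => hπ i.1
  have hdep : ¬ LinearIndependent K (fun i : s => ι (x i)) := fun h => by
    have := h.fintype_card_le_finrank
    rw [Fintype.card_coe] at this
    omega
  obtain ⟨c, hc, i₀, hi₀⟩ := Fintype.not_linearIndependent_iff.1 hdep
  obtain ⟨j, -, hj⟩ := Finset.exists_max_image Finset.univ (fun i => V.valuation (c i)) ⟨i₀, Finset.mem_univ _⟩
  have hj0 : c j ≠ 0 := fun h => hi₀ <| by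
    have := hj i₀ (Finset.mem_univ _)
    rw [h, map_zero, le_zero_iff, map_eq_zero] at this
    exact this
  have hmem : ∀ i, c i / c j ∈ V := fun i => by
    rw [← V.valuation_le_one_iff, map_div₀]
    exact div_le_one₀ (zero_lt_iff.2 ((map_ne_zero _).2 hj0)) |>.2 (hj i (Finset.mem_univ _))
  have hrel : ∑ i, (⟨c i / c j, hmem i⟩ : V) • x i = 0 := by
    refine hι ?_
    rw [map_sum, map_zero]
    simp only [hιs]
    calc ∑ i, (c i / c j) • ι (x i) = (c j)⁻¹ • ∑ i, c i • ι (x i) := by
          rw [Finset.smul_sum]
          refine Finset.sum_congr rfl fun i _ => ?_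
          rw [smul_smul, div_eq_inv_mul]
      _ = 0 := by rw [hc, smul_zero]
  have hrel' := congrArg π hrel
  rw [map_sum, map_zero] at hrel'
  simp only [hπs, hx] at hrel'
  have h1 := Fintype.linearIndependent_iff.1 hs (fun i => IsLocalRing.residue V ⟨c i / c j, hmem i⟩) hrel' j
  rw [show (⟨c j / c j, hmem j⟩ : V) = 1 from Subtype.ext (div_self hj0), map_one] at h1
  exact one_ne_zero h1

/-- Finiteness of a fibre of a flat algebra passes to the specialisations. -/
theorem finite_fiber_of_le {B : Type u} [CommRing B] [Algebra A B] [Module.Flat A B] (q p : Ideal A) [q.IsPrime]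
    [p.IsPrime] (hqp : q ≤ p) [Module.Finite q.ResidueField (q.Fiber B)] :
    Module.Finite p.ResidueField (p.Fiber B) := by
  let K := q.ResidueField
  let Ap := Localization.AtPrime p
  let f : Ap →+* K := IsLocalization.lift (M := p.primeCompl) (g := algebraMap A K) fun s => by
    rw [isUnit_iff_ne_zero, Ne, Ideal.algebraMap_residueField_eq_zero]
    exact fun h => s.2 (hqp h)
  obtain ⟨V, hV, hloc⟩ := IsLocalRing.exists_factor_valuationRing f
  let g : Ap →+* V := f.codRestrict V.toSubring hV
  haveI : IsLocalHom g := hloc
  letI : Algebra A V := (g.comp (algebraMap A Ap)).toAlgebra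
  haveI : IsScalarTower A V K := IsScalarTower.of_algebraMap_eq fun a =>
    (IsLocalization.lift_eq (M := p.primeCompl) (g := algebraMap A K) _ a).symm
  haveI := finite_residue_of_valuation (A := A) (K := K) V B
  let kV := IsLocalRing.ResidueField V
  letI : Algebra p.ResidueField kV := (IsLocalRing.ResidueField.map g).toAlgebra
  haveI : IsScalarTower A p.ResidueField kV := IsScalarTower.of_algebraMap_eq fun a => rfl
  haveI : Module.Finite kV (kV ⊗[p.ResidueField] (p.Fiber B)) :=
    Module.Finite.equiv (TensorProduct.AlgebraTensorModule.cancelBaseChange A p.ResidueField kV kV B).symm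
  exact Module.Finite.of_finite_tensorProduct_of_faithfullyFlat kV

/-- A flat algebra of finite type with finite fibres over the minimal primes is quasi-finite. -/
theorem quasiFinite_of_flat {B : Type u} [CommRing B] [Algebra A B] [Module.Flat A B] [Algebra.FiniteType A B]
    (h : ∀ q : PrimeSpectrum A, (∀ q' : PrimeSpectrum A, q'.asIdeal ≤ q.asIdeal → q' = q) →
      (PrimeSpectrum.comap (algebraMap A B) ⁻¹' {q}).Finite) : Algebra.QuasiFinite A B := by
  refine ⟨fun p _ => ?_⟩
  obtain ⟨q, hq, hqp⟩ := Ideal.exists_minimalPrimes_le (bot_le : (⊥ : Ideal A) ≤ p)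
  haveI : q.IsPrime := hq.1.1
  haveI : Module.Finite q.ResidueField (q.Fiber B) := by
    have hfin := h ⟨q, hq.1.1⟩ fun q' hq' =>
      PrimeSpectrum.ext (le_antisymm hq' (hq.2 ⟨q'.2, bot_le⟩ hq'))
    rw [Module.finite_iff_isArtinianRing, isArtinianRing_iff_isNoetherianRing_krullDimLE_zero]
    haveI : IsJacobsonRing (q.Fiber B) := isJacobsonRing_of_finiteType (A := q.ResidueField)
    haveI : Finite (PrimeSpectrum (q.Fiber B)) :=
      (PrimeSpectrum.preimageEquivFiber A B ⟨q, hq.1.1⟩).finite_iff.mp hfin
    exact ⟨Algebra.FiniteType.isNoetherianRing q.ResidueField _,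
      (PrimeSpectrum.discreteTopology_iff_finite_and_krullDimLE_zero.mp inferInstance).right⟩
  exact finite_fiber_of_le q p hqp

end Groth.Agent.FlatCrit65.Blow
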