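import Groth.Agent.FlatCrit65.Blow.OpenImm
import Groth.Agent.FlatCrit65.Blow.QuasiFinite
import Groth.Prelude.Def_Mor2
import Mathlib

/-!
A proper morphism which is finite locally free over an open becomes finite locally free after an admissible
blow-up.
-/

set_option autoImplicit false
set_option linter.style.haveILetI false
set_option backward.isDefEq.respectTransparency.types false

universe u

open CategoryTheory CategoryTheory.Limits AlgebraicGeometry TopologicalSpace Opposite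

noncomputable section

namespace Groth.Agent.FlatCrit65.Blow

/-- A flat morphism of finite type which is quasi-finite off an effective Cartier divisor of the target is
quasi-finite. -/
theorem locallyQuasiFinite_of_off_cartier {Z T : Scheme.{u}} (q : Z ⟶ T) [Flat q] [LocallyOfFiniteType q]
    [QuasiCompact q] (E : T.IdealSheafData) (hE : BlowUp.IsEffCartierIdeal E)
    [LocallyQuasiFinite (q ∣_ E.support.compl)] : LocallyQuasiFinite q := by
  rw [HasRingHomProperty.iff_appLE (P := @LocallyQuasiFinite)]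
  intro U W e
  have hflat : (q.appLE U W e).hom.Flat := HasRingHomProperty.appLE @Flat q inferInstance U W e
  have hft : (q.appLE U W e).hom.FiniteType := HasRingHomProperty.appLE @LocallyOfFiniteType q inferInstance U W e
  algebraize [(q.appLE U W e).hom]
  refine quasiFinite_of_flat fun p hp => ?_
  let η : T := U.2.fromSpec p
  have hηU : η ∈ U.1 := by
    have : η ∈ Set.range U.2.fromSpec := ⟨p, rfl⟩
    rwa [U.2.range_fromSpec] at this
  have hmax : ∀ y : T, y ⤳ η → y = η := fun y hy => by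
    have hyU : y ∈ Set.range U.2.fromSpec := by
      rw [U.2.range_fromSpec]
      exact hy.mem_open U.1.2 hηU
    obtain ⟨p', rfl⟩ := hyU
    have hle : p' ⤳ p := U.2.fromSpec.isOpenEmbedding.isInducing.specializes_iff.1 hy
    rw [hp p' ((PrimeSpectrum.le_iff_specializes p' p).2 hle)]
  have hηO : η ∉ E.support := Div89.notMem_exceptional_of_maximal hE η hmax
  let O : T.Opens := E.support.compl
  have hfin : (q ⁻¹' {η}).Finite := by
    haveI : QuasiCompact (q ∣_ O) := inferInstance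
    refine (((q ∣_ O).finite_preimage_singleton ⟨η, hηO⟩).image (q ⁻¹ᵁ O).ι).subset ?_
    intro z hz
    have hzO : z ∈ q ⁻¹ᵁ O := by
      show q z ∈ O
      rw [Set.mem_singleton_iff.1 hz]
      exact hηO
    refine ⟨⟨z, hzO⟩, Subtype.ext ?_, rfl⟩
    rw [morphismRestrict_base_coe]
    exact hz
  refine Set.Finite.subset (hfin.preimage W.2.fromSpec.isOpenEmbedding.injective.injOn) ?_
  intro r hr
  show q (W.2.fromSpec r) = η
  rw [← Scheme.Hom.comp_apply, ← IsAffineOpen.SpecMap_appLE_fromSpec q U.2 W.2 e, Scheme.Hom.comp_apply]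
  exact congrArg U.2.fromSpec hr

/-- The strict transform is finite over the complement of the exceptional divisor. -/
theorem isFinite_strict_off_divisor {X S X' S' : Scheme.{u}} (f : X ⟶ S) (U : S.Opens) [IsFinite (f ∣_ U)]
    (b : S' ⟶ S) (𝓘 : S.IdealSheafData) (hsupp : (𝓘.support : Set S) = (U : Set S)ᶜ) {p₁ : X' ⟶ X}
    {p₂ : X' ⟶ S'} (H : IsPullback p₁ p₂ f b) (𝒥 : X'.IdealSheafData) :
    IsFinite ((𝒥.subschemeι ≫ p₂) ∣_ (𝓘.comap b).support.compl) := by
  let O := (𝓘.comap b).support.compl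
  have hO : O = b ⁻¹ᵁ U := by
    ext x
    show x ∈ ((𝓘.comap b).support : Set S')ᶜ ↔ b x ∈ (U : Set S)
    rw [Scheme.IdealSheafData.support_comap]
    show x ∈ (b ⁻¹' (𝓘.support : Set S))ᶜ ↔ _
    rw [hsupp]
    simp
  haveI h2 : IsFinite (p₂ ∣_ O) := by
    rw [hO]
    have sqp := isPullback_morphismRestrict p₂ (b ⁻¹ᵁ U)
    have big : IsPullback ((p₂ ⁻¹ᵁ (b ⁻¹ᵁ U)).ι ≫ p₁) (p₂ ∣_ (b ⁻¹ᵁ U)) f ((b ⁻¹ᵁ U).ι ≫ b) :=
      sqp.flip.paste_horiz H
    rw [show (b ⁻¹ᵁ U).ι ≫ b = (b ∣_ U) ≫ U.ι from (morphismRestrict_ι b U).symm] at big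
    exact MorphismProperty.of_isPullback (IsPullback.of_right' big (isPullback_morphismRestrict f U).flip) ‹_›
  haveI h1 : IsFinite (𝒥.subschemeι ∣_ (p₂ ⁻¹ᵁ O)) := inferInstance
  rw [morphismRestrict_comp]
  exact MorphismProperty.comp_mem @IsFinite _ _ h1 h2

/-- A proper morphism which is finite locally free over a quasi-compact open becomes finite locally free after
an admissible blow-up. -/
theorem exists_finLocFree_blowUp {X S : Scheme.{u}} [CompactSpace S] [QuasiSeparatedSpace S]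
    (φ : X ⟶ S) [IsProper φ] (U : S.Opens) (hU : IsCompact (U : Set S)) (hfl : Mor2.IsFinLocFree (φ ∣_ U)) :
    ∃ (𝓘 : S.IdealSheafData) (S' : Scheme.{u}) (b : S' ⟶ S), BlowUp.IsBlowUp b 𝓘 ∧ BlowUp.IsAdmissibleFor U 𝓘 ∧
      ∀ (X' : Scheme.{u}) (p₁ : X' ⟶ X) (p₂ : X' ⟶ S'), IsPullback p₁ p₂ φ b →
      ∀ (𝒥 : X'.IdealSheafData),
        (∀ (W : X'.affineOpens) (a : Γ(X', W.1)), a ∈ 𝒥.ideal W ↔
          BlowUp.KilledByPowerNear ((𝓘.comap φ).comap p₁) (Coh.structureModule X') W a) →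
        Mor2.IsFinLocFree (𝒥.subschemeι ≫ p₂) := by
  obtain ⟨hfinU, hflatU, hfpU⟩ := hfl
  haveI := hfinU
  haveI := hflatU
  haveI := hfpU
  obtain ⟨𝓘, S', b, hb, hadm, hsupp, h⟩ := exists_flattening_scheme_exact φ U hU
  refine ⟨𝓘, S', b, hb, hadm, fun X' p₁ p₂ H 𝒥 h𝒥 => ?_⟩
  obtain ⟨hflat, hfp, -, -⟩ := h X' p₁ p₂ H 𝒥 h𝒥
  haveI := hflat
  haveI := hfp
  haveI : IsProper p₂ := MorphismProperty.of_isPullback H ‹IsProper φ›
  let q := 𝒥.subschemeι ≫ p₂
  haveI : IsProper q := inferInstanceAs (IsProper (𝒥.subschemeι ≫ p₂))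
  haveI : IsFinite (q ∣_ (𝓘.comap b).support.compl) := isFinite_strict_off_divisor φ U b 𝓘 hsupp H 𝒥
  haveI : LocallyQuasiFinite q := locallyQuasiFinite_of_off_cartier q (𝓘.comap b) hb.1
  exact ⟨IsFinite.of_isProper_of_locallyQuasiFinite q, hflat, hfp⟩

end Groth.Agent.FlatCrit65.Blow
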