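import Groth.Prelude.Def_FlatCA
import Groth.Agent.Fit14.Blow
import Mathlib

/-!
The strict transform of a module: the quotient by power torsion.
-/

set_option autoImplicit false
set_option linter.style.haveILetI false
set_option linter.unusedSectionVars false

universe u

open TensorProduct

namespace Groth.Agent.FlatCrit65.Blow

/-- The quotient of a module by the torsion for the powers of an element. -/
abbrev ST (S : Type u) [CommRing S] (s : S) (M : Type u) [AddCommGroup M] [Module S M] : Type u :=
  M ⧸ FlatCA.powTorsion S s M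

section

variable {S : Type u} [CommRing S] {s : S} {M : Type u} [AddCommGroup M] [Module S M]
  {M' : Type u} [AddCommGroup M'] [Module S M']

theorem st_mk_eq_zero {m : M} :
    (FlatCA.powTorsion S s M).mkQ m = 0 ↔ ∃ k : ℕ, s ^ k • m = 0 := by
  rw [Submodule.mkQ_apply, Submodule.Quotient.mk_eq_zero, Fit14.mem_powTorsion]

theorem isSMulRegular_st : IsSMulRegular (ST S s M) s := by
  refine isSMulRegular_iff_right_eq_zero_of_smul.2 fun x hx => ?_
  obtain ⟨m, rfl⟩ := Submodule.mkQ_surjective _ x
  rw [← map_smul, st_mk_eq_zero] at hx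
  obtain ⟨k, hk⟩ := hx
  exact st_mk_eq_zero.2 ⟨k + 1, by rw [pow_succ, mul_smul, hk]⟩

/-- The quotient is characterised by torsion kernel and regular target. -/
theorem exists_equiv_st {Y : Type u} [AddCommGroup Y] [Module S Y] (π : M →ₗ[S] Y) (hπ : Function.Surjective π)
    (hker : ∀ m, π m = 0 → ∃ k : ℕ, s ^ k • m = 0) (hY : IsSMulRegular Y s) :
    Nonempty (ST S s M ≃ₗ[S] Y) := by
  have hk : FlatCA.powTorsion S s M = LinearMap.ker π := by
    refine le_antisymm (fun m hm => ?_) fun m hm => (Fit14.mem_powTorsion s m).2 (hker m hm)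
    obtain ⟨k, hk⟩ := (Fit14.mem_powTorsion s m).1 hm
    refine (hY.pow k).right_eq_zero_of_smul ?_
    rw [← map_smul, hk, map_zero]
  exact ⟨(Submodule.quotEquivOfEq _ _ hk).trans (LinearMap.quotKerEquivOfSurjective π hπ)⟩

/-- Surjections with torsion kernel induce isomorphisms of the quotients. -/
theorem st_of_surjective (π : M →ₗ[S] M') (hπ : Function.Surjective π)
    (hker : ∀ m, π m = 0 → ∃ k : ℕ, s ^ k • m = 0) : Nonempty (ST S s M ≃ₗ[S] ST S s M') := by
  refine exists_equiv_st ((FlatCA.powTorsion S s M').mkQ ∘ₗ π) ((Submodule.mkQ_surjective _).comp hπ)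
    (fun m hm => ?_) isSMulRegular_st
  obtain ⟨k, hk⟩ := st_mk_eq_zero.1 hm
  rw [← map_smul] at hk
  obtain ⟨l, hl⟩ := hker _ hk
  exact ⟨l + k, by rw [pow_add, mul_smul, hl]⟩

/-- Invariance under isomorphisms. -/
theorem st_congr (e : M ≃ₗ[S] M') : Nonempty (ST S s M ≃ₗ[S] ST S s M') :=
  st_of_surjective e.toLinearMap e.surjective fun m hm => ⟨0, by
    rw [pow_zero, one_smul]; exact e.map_eq_zero_iff.1 hm⟩

/-- Nothing happens to a module on which the element is regular. -/
theorem st_of_regular (h : IsSMulRegular M s) : Nonempty (ST S s M ≃ₗ[S] M) :=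
  exists_equiv_st LinearMap.id Function.surjective_id (fun m hm => ⟨0, by simpa using hm⟩) h

/-- The torsion submodule does not depend on the scalars. -/
theorem restrictScalars_powTorsion {R : Type u} [CommRing R] [Algebra R S] [Module R M] [IsScalarTower R S M] (r : R) :
    (FlatCA.powTorsion S (algebraMap R S r) M).restrictScalars R = FlatCA.powTorsion R r M := by
  ext m
  simp only [Submodule.restrictScalars_mem, Fit14.mem_powTorsion, ← map_pow, algebraMap_smul]

/-- Compatibility with flat base change. -/
theorem st_baseChange (L : Type u) [CommRing L] [Algebra S L] [Module.Flat S L] :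
    Nonempty (ST L (algebraMap S L s) (L ⊗[S] M) ≃ₗ[L] L ⊗[S] ST S s M) := by
  have hex := lTensor_exact L (LinearMap.exact_subtype_mkQ (FlatCA.powTorsion S s M)) (Submodule.mkQ_surjective _)
  have hpow : ∀ {k : ℕ} {l : L} {m : M}, s ^ k • m = 0 → algebraMap S L s ^ k • (l ⊗ₜ[S] m) = 0 :=
    fun {k l m} hk => by rw [← map_pow, algebraMap_smul, ← TensorProduct.tmul_smul, hk, TensorProduct.tmul_zero]
  refine exists_equiv_st ((FlatCA.powTorsion S s M).mkQ.baseChange L)
    (LinearMap.lTensor_surjective L (Submodule.mkQ_surjective _)) (fun z hz => ?_) ?_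
  · obtain ⟨w, rfl⟩ := (hex z).1 hz
    clear hz
    induction w using TensorProduct.induction_on with
    | zero => exact ⟨0, by simp⟩
    | tmul l m =>
      obtain ⟨k, hk⟩ := (Fit14.mem_powTorsion s (m : M)).1 m.2
      exact ⟨k, hpow hk⟩
    | add a b ha hb =>
      obtain ⟨k, hk⟩ := ha
      obtain ⟨l, hl⟩ := hb
      refine ⟨k + l, ?_⟩
      rw [map_add, smul_add]
      have h1 : algebraMap S L s ^ (k + l) • (FlatCA.powTorsion S s M).subtype.lTensor L a = 0 := by
        rw [add_comm, pow_add, mul_smul, hk, smul_zero]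
      have h2 : algebraMap S L s ^ (k + l) • (FlatCA.powTorsion S s M).subtype.lTensor L b = 0 := by
        rw [pow_add, mul_smul, hl, smul_zero]
      rw [h1, h2, add_zero]
  · intro a b hab
    refine (isSMulRegular_st (s := s) (M := M)).lTensor L ?_
    simpa only [algebraMap_smul] using hab

end

end Groth.Agent.FlatCrit65.Blow
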