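import Groth.Agent.FlatCrit65.Blow.Valuative
import Groth.Agent.FlatCrit65.Blow.Strict
import Groth.Agent.FlatCrit65.Point.Dense
import Groth.Agent.Stage62.ModuleModel
import Groth.Agent.FlatStage64.Main
import Mathlib

/-!
Flattening by a blow-up, algebra form: a finite module over a finitely presented algebra which is finitely
presented and flat away from `f` has a flat strict transform on the blow-up in some ideal containing a power
of `f`.

The strict transform over a valuative algebra is flat, hence finitely presented, so comes from a finitely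
presented stage.
-/

set_option autoImplicit false
set_option linter.style.haveILetI false
set_option linter.unusedSectionVars false
set_option maxHeartbeats 1000000
set_option synthInstance.maxHeartbeats 100000

universe u

open TensorProduct

namespace Groth.Agent.FlatCrit65.Blow

section Stage

variable {R₀ : Type u} [CommRing R₀] {B₀ : Type u} [CommRing B₀] [Algebra R₀ B₀]
  {C : Type u} [CommRing C] [Algebra R₀ C]

/-- The map from the tensor product over a subalgebra. -/
noncomputable abbrev inclTensor (B₀ : Type u) [CommRing B₀] [Algebra R₀ B₀] (D : Subalgebra R₀ C) :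
    D ⊗[R₀] B₀ →ₐ[R₀] C ⊗[R₀] B₀ :=
  Algebra.TensorProduct.map D.val (AlgHom.id R₀ B₀)

/-- The map between the tensor products over two subalgebras. -/
noncomputable abbrev stageMap {D D' : Subalgebra R₀ C} (h : D ≤ D') : D ⊗[R₀] B₀ →ₐ[R₀] D' ⊗[R₀] B₀ :=
  Algebra.TensorProduct.map (Subalgebra.inclusion h) (AlgHom.id R₀ B₀)

theorem inclTensor_eq (D : Subalgebra R₀ C) (x : D ⊗[R₀] B₀) :
    inclTensor B₀ D x = D.val.toLinearMap.rTensor B₀ x := by
  induction x using TensorProduct.induction_on with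
  | zero => simp
  | tmul a b => rfl
  | add a b ha hb => simp [ha, hb]

theorem inclTensor_inclusion {D D' : Subalgebra R₀ C} (h : D ≤ D') (x : D ⊗[R₀] B₀) :
    inclTensor B₀ D' (stageMap h x) =
      inclTensor B₀ D x := by
  induction x using TensorProduct.induction_on with
  | zero => simp
  | tmul a b => rfl
  | add a b ha hb => simp only [map_add, ha, hb]

theorem exists_lift {ι : Type u} [Finite ι] (z : ι → C ⊗[R₀] B₀) :
    ∃ D : Subalgebra R₀ C, D.FG ∧ ∀ i, ∃ z' : D ⊗[R₀] B₀, inclTensor B₀ D z' = z i := by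
  classical
  cases nonempty_fintype ι
  choose D hD t ht using fun i => TensorProduct.Algebra.exists_of_fg (z i)
  refine ⟨Finset.univ.sup D, Finset.sup_induction Subalgebra.fg_bot (fun a ha b hb => ha.sup hb) fun i _ => hD i,
    fun i => ⟨stageMap (show D i ≤ Finset.univ.sup D from Finset.le_sup (Finset.mem_univ i)) (t i), ?_⟩⟩
  rw [inclTensor_inclusion, inclTensor_eq, ht]

theorem exists_kill {ι : Type u} [Finite ι] {D : Subalgebra R₀ C} (hD : D.FG) (z : ι → D ⊗[R₀] B₀)
    (h : ∀ i, inclTensor B₀ D (z i) = 0) :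
    ∃ (D' : Subalgebra R₀ C) (hle : D ≤ D'), D'.FG ∧
      ∀ i, stageMap hle (z i) = 0 := by
  classical
  cases nonempty_fintype ι
  have key : ∀ i, ∃ (D' : Subalgebra R₀ C) (hle : D ≤ D'), D'.FG ∧
      stageMap hle (z i) = 0 := fun i => by
    obtain ⟨D', hle, hfg, h'⟩ := TensorProduct.Algebra.eq_of_fg_of_subtype_eq (t := z i) (t' := 0) hD
      (by rw [map_zero, ← inclTensor_eq]; exact h i)
    refine ⟨D', hle, hfg, ?_⟩
    rw [map_zero] at h'
    exact h'
  choose E hle hE hz using key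
  refine ⟨D ⊔ Finset.univ.sup E, le_sup_left,
    hD.sup (Finset.sup_induction Subalgebra.fg_bot (fun a ha b hb => ha.sup hb) fun i _ => hE i), fun i => ?_⟩
  have hi : E i ≤ D ⊔ Finset.univ.sup E := (Finset.le_sup (Finset.mem_univ i)).trans le_sup_right
  have := congrArg (stageMap (B₀ := B₀) hi) (hz i)
  rw [map_zero] at this
  rw [← this, ← AlgHom.comp_apply, ← Algebra.TensorProduct.map_comp]
  rfl

end Stage

section Core

variable {R₀ : Type u} [CommRing R₀] [IsNoetherianRing R₀] (f₀ : R₀) {B₀ : Type u} [CommRing B₀] [Algebra R₀ B₀]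
  [Algebra.FiniteType R₀ B₀] {m : ℕ} {κ : Type u} [Finite κ] (l : κ → Fin m → B₀)

/-- The presented module. -/
abbrev Pres : Type u := (Fin m → B₀) ⧸ Submodule.span B₀ (Set.range l)

/-- The vectors with entries in the base change. -/
noncomputable abbrev vec (S : Type u) [CommRing S] [Algebra R₀ S] (v : Fin m → B₀) : Fin m → S ⊗[R₀] B₀ :=
  fun i => (1 : S) ⊗ₜ[R₀] v i

/-- Over a valuative algebra the torsion is finitely generated and the quotient by it is flat. -/
theorem exists_torsion (C : Type u) [CommRing C] [Algebra R₀ C] [IsLocalRing C]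
    (hC : IsValuative C (algebraMap R₀ C f₀))
    (hflat : Module.Flat (Localization.Away (algebraMap R₀ C f₀))
      (Localization.Away (algebraMap R₀ C f₀) ⊗[R₀] Pres l)) :
    ∃ (n : ℕ) (kk : Fin n → Fin m → C ⊗[R₀] B₀) (s : ℕ),
      (∀ j, algebraMap R₀ (C ⊗[R₀] B₀) (f₀ ^ s) • kk j ∈ Submodule.span (C ⊗[R₀] B₀) (Set.range fun v => vec C (l v))) ∧
      Module.Flat C ((Fin m → C ⊗[R₀] B₀) ⧸
        Submodule.span (C ⊗[R₀] B₀) (Set.range fun v => vec C (l v)) ⊔ Submodule.span (C ⊗[R₀] B₀) (Set.range kk)) := by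
  classical
  haveI : Algebra.FinitePresentation R₀ B₀ := Algebra.FinitePresentation.of_finiteType.1 inferInstance
  set fC := algebraMap R₀ C f₀ with hfC
  let AC := C ⊗[R₀] B₀
  let L : Submodule AC (Fin m → AC) := Submodule.span AC (Set.range fun v => vec C (l v))
  let Q := (Fin m → AC) ⧸ L
  let eQ : C ⊗[R₀] Pres l ≃ₗ[C] Q := Stage62.quotEquiv (A := C) (B := AC) AlgEquiv.refl l
  let Cf := Localization.Away fC
  let Qf := Cf ⊗[C] Q
  let ψ : Q →ₗ[C] Qf := TensorProduct.mk C Cf Q 1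
  haveI hloc : IsLocalizedModule (Submonoid.powers fC) ψ :=
    (isLocalizedModule_iff_isBaseChange (Submonoid.powers fC) Cf ψ).mpr (TensorProduct.isBaseChange C Q Cf)
  haveI : Module.Flat Cf Qf := by
    haveI := hflat
    exact Module.Flat.of_linearEquiv ((AlgebraTensorModule.congr (LinearEquiv.refl Cf Cf) eQ.symm) ≪≫ₗ
      AlgebraTensorModule.cancelBaseChange R₀ C Cf Cf (Pres l))
  haveI : Module.Flat C Cf := IsLocalization.flat Cf (Submonoid.powers fC)
  haveI : Module.Flat C Qf := Module.Flat.trans C Cf Qf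
  let fA : AC := algebraMap C AC fC
  let P : Submodule AC Q := FlatCA.powTorsion AC fA Q
  let M := Q ⧸ P
  have hP : ∀ q, q ∈ P ↔ ψ q = 0 := fun q => by
    rw [Fit14.mem_powTorsion, IsLocalizedModule.eq_zero_iff (Submonoid.powers fC) ψ]
    constructor
    · rintro ⟨k, hk⟩
      refine ⟨⟨fC ^ k, k, rfl⟩, ?_⟩
      rw [← map_pow, algebraMap_smul] at hk
      exact hk
    · rintro ⟨⟨_, k, rfl⟩, hk⟩
      exact ⟨k, by rw [← map_pow, algebraMap_smul]; exact hk⟩
  let φ : M →ₗ[C] Qf := (P.restrictScalars C).liftQ ψ (fun q hq => (hP q).1 hq) ∘ₗ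
    (Submodule.Quotient.restrictScalarsEquiv C P).symm.toLinearMap
  have hφmk : ∀ q, φ (P.mkQ q) = ψ q := fun q => rfl
  have hφ : Function.Injective φ := (injective_iff_map_eq_zero φ).2 fun x hx => by
    obtain ⟨q, rfl⟩ := P.mkQ_surjective x
    rw [hφmk] at hx
    exact (Submodule.Quotient.mk_eq_zero P).2 ((hP q).2 hx)
  have hMreg : IsSMulRegular M fC := isSMulRegular_iff_right_eq_zero_of_smul.2 fun x hx => hφ <| by
    rw [map_zero]
    have h := congrArg φ hx
    rw [map_smul, map_zero, ← algebraMap_smul Cf] at h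
    exact ((IsLocalization.Away.algebraMap_isUnit (S := Cf) fC).isSMulRegular Qf).right_eq_zero_of_smul h
  haveI : Module.Flat C M := flat_of_valuative hC hMreg φ hφ fun q => by
    obtain ⟨⟨x, ⟨_, k, rfl⟩⟩, hx⟩ := IsLocalizedModule.surj (Submonoid.powers fC) ψ q
    exact ⟨k, P.mkQ x, by rw [hφmk]; exact hx⟩
  let π : (Fin m → AC) →ₗ[AC] M := P.mkQ.comp L.mkQ
  have hπ : Function.Surjective π := P.mkQ_surjective.comp L.mkQ_surjective
  have hπker : ∀ x, π x = 0 → ∃ k : ℕ, algebraMap C AC (fC ^ k) • x ∈ L := fun x hx => by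
    obtain ⟨k, hk⟩ := (Fit14.mem_powTorsion _ _).1 ((Submodule.Quotient.mk_eq_zero P).1 hx)
    refine ⟨k, (Submodule.Quotient.mk_eq_zero L).1 ?_⟩
    rw [map_pow]
    exact hk
  have hLπ : L ≤ LinearMap.ker π := fun x hx => by
    show P.mkQ (L.mkQ x) = 0
    rw [show L.mkQ x = 0 from (Submodule.Quotient.mk_eq_zero L).2 hx, map_zero]
  haveI : Module.FinitePresentation AC M := by
    refine finitePresentation_small (ι := Fin 1) (fun _ => Submonoid.powers fC) (fun c hc => ?_) π hπ
      fun _ => ⟨L, Submodule.fg_span (Set.finite_range _), hLπ, fun x hx => ?_⟩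
    · obtain ⟨_, ⟨k, rfl⟩, hk⟩ := hc 0
      exact (hC.1.pow k).right_eq_zero_of_smul hk
    · obtain ⟨k, hk⟩ := hπker x hx
      exact ⟨fC ^ k, ⟨k, rfl⟩, hk⟩
  obtain ⟨n, kk, hkk⟩ := Submodule.fg_iff_exists_fin_generating_family.1
    (Module.FinitePresentation.fg_ker π hπ)
  choose sj hsj using fun j => hπker (kk j) (LinearMap.mem_ker.1 (hkk ▸ Submodule.subset_span ⟨j, rfl⟩))
  let s := ∑ j, sj j
  refine ⟨n, kk, s, fun j => ?_, Module.Flat.of_linearEquiv
    ((Submodule.quotEquivOfEq _ _ (show L ⊔ Submodule.span AC (Set.range kk) = LinearMap.ker π by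
      rw [hkk, sup_eq_right.2 hLπ])).restrictScalars C ≪≫ₗ (π.quotKerEquivOfSurjective hπ).restrictScalars C)⟩
  have hle : sj j ≤ s := Finset.single_le_sum (f := sj) (fun _ _ => Nat.zero_le _) (Finset.mem_univ j)
  have hf : algebraMap R₀ AC (f₀ ^ s) = algebraMap C AC (fC ^ (s - sj j)) * algebraMap C AC (fC ^ sj j) := by
    rw [← map_mul, ← pow_add, Nat.sub_add_cancel hle, hfC, ← map_pow, ← IsScalarTower.algebraMap_apply]
  rw [hf, mul_smul]
  exact L.smul_mem _ (hsj j)

/-- The generators of the torsion over a stage. -/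
theorem exists_lift_torsion (C : Type u) [CommRing C] [Algebra R₀ C] {n : ℕ} (kk : Fin n → Fin m → C ⊗[R₀] B₀) (s : ℕ)
    (hs : ∀ j, algebraMap R₀ (C ⊗[R₀] B₀) (f₀ ^ s) • kk j ∈ Submodule.span (C ⊗[R₀] B₀) (Set.range fun v => vec C (l v))) :
    ∃ (D : Subalgebra R₀ C) (k' : Fin n → Fin m → D ⊗[R₀] B₀), D.FG ∧ (∀ j i, inclTensor B₀ D (k' j i) = kk j i) ∧
      ∀ j, algebraMap R₀ (D ⊗[R₀] B₀) (f₀ ^ s) • k' j ∈ Submodule.span (D ⊗[R₀] B₀) (Set.range fun v => vec D (l v)) := by
  classical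
  cases nonempty_fintype κ
  choose c hc using fun j => (Submodule.mem_span_range_iff_exists_fun (R := C ⊗[R₀] B₀)).1 (hs j)
  obtain ⟨D₁, hD₁, hlift⟩ := exists_lift (B₀ := B₀) (C := C) fun x : ULift.{u} (Fin n × Fin m) ⊕ ULift.{u} (Fin n) × κ =>
    x.elim (fun p => kk p.down.1 p.down.2) fun p => c p.1.down p.2
  choose z hz using hlift
  let k₁ : Fin n → Fin m → D₁ ⊗[R₀] B₀ := fun j i => z (Sum.inl ⟨(j, i)⟩)
  let c₁ : Fin n → κ → D₁ ⊗[R₀] B₀ := fun j v => z (Sum.inr (⟨j⟩, v))
  have hk₁ : ∀ j i, inclTensor B₀ D₁ (k₁ j i) = kk j i := fun j i => hz (Sum.inl ⟨(j, i)⟩)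
  have hc₁ : ∀ j v, inclTensor B₀ D₁ (c₁ j v) = c j v := fun j v => hz (Sum.inr (⟨j⟩, v))
  let err : ULift.{u} (Fin n × Fin m) → D₁ ⊗[R₀] B₀ := fun p =>
    algebraMap R₀ _ (f₀ ^ s) * k₁ p.down.1 p.down.2 - ∑ v, c₁ p.down.1 v * ((1 : D₁) ⊗ₜ[R₀] l v p.down.2)
  obtain ⟨D, hle, hD, hkill⟩ := exists_kill hD₁ err fun p => by
    have h := congrFun (hc p.down.1) p.down.2
    simp only [Finset.sum_apply, Pi.smul_apply, smul_eq_mul] at h
    simp only [err, map_sub, map_mul, map_sum, AlgHom.commutes, hk₁, hc₁, Algebra.TensorProduct.map_tmul,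
      AlgHom.id_apply, map_one]
    rw [h, sub_self]
  refine ⟨D, fun j i => stageMap hle (k₁ j i), hD, fun j i => by rw [inclTensor_inclusion, hk₁], fun j => ?_⟩
  refine (Submodule.mem_span_range_iff_exists_fun (R := D ⊗[R₀] B₀)).2 ⟨fun v => stageMap hle (c₁ j v), ?_⟩
  funext i
  have h := hkill ⟨(j, i)⟩
  simp only [err, map_sub, map_mul, map_sum, AlgHom.commutes, Algebra.TensorProduct.map_tmul,
    AlgHom.id_apply, map_one, sub_eq_zero] at h
  simp only [Pi.smul_apply, Finset.sum_apply, smul_eq_mul]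
  exact h.symm

/-- Flatness of the strict transform over an algebra over the stage. -/
theorem flat_st_of_stage (D T : Type u) [CommRing D] [Algebra R₀ D] [CommRing T] [Algebra R₀ T] [Algebra D T]
    [IsScalarTower R₀ D T] {n : ℕ} (k' : Fin n → Fin m → D ⊗[R₀] B₀) (s : ℕ)
    (hk : ∀ j, algebraMap R₀ (D ⊗[R₀] B₀) (f₀ ^ s) • k' j ∈ Submodule.span (D ⊗[R₀] B₀) (Set.range fun v => vec D (l v)))
    [Module.Flat T (T ⊗[D] ((Fin m → D ⊗[R₀] B₀) ⧸
      Submodule.span (D ⊗[R₀] B₀) (Set.range fun v => vec D (l v)) ⊔ Submodule.span (D ⊗[R₀] B₀) (Set.range k')))]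
    (hT : IsSMulRegular T (algebraMap R₀ T f₀)) :
    Module.Flat T (ST T (algebraMap R₀ T f₀) (T ⊗[R₀] Pres l)) := by
  let AD := D ⊗[R₀] B₀
  let LD : Submodule AD (Fin m → AD) := Submodule.span AD (Set.range fun v => vec D (l v))
  let L3 : Submodule AD (Fin m → AD) := LD ⊔ Submodule.span AD (Set.range k')
  let N3 := (Fin m → AD) ⧸ L3
  let eD : D ⊗[R₀] Pres l ≃ₗ[D] (Fin m → AD) ⧸ LD := Stage62.quotEquiv (A := D) (B := AD) AlgEquiv.refl l
  let eT : T ⊗[R₀] Pres l ≃ₗ[T] T ⊗[D] ((Fin m → AD) ⧸ LD) :=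
    (AlgebraTensorModule.cancelBaseChange R₀ D T T (Pres l)).symm ≪≫ₗ
      AlgebraTensorModule.congr (LinearEquiv.refl T T) eD
  have hf3 : ∀ x ∈ L3, algebraMap R₀ AD (f₀ ^ s) • x ∈ LD := by
    intro x hx
    obtain ⟨y, hy, z, hz, rfl⟩ := Submodule.mem_sup.1 hx
    rw [smul_add]
    refine add_mem (LD.smul_mem _ hy) ?_
    clear hx
    induction hz using Submodule.span_induction with
    | mem y hy => obtain ⟨j, rfl⟩ := hy; exact hk j
    | zero => rw [smul_zero]; exact zero_mem _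
    | add a b _ _ ha hb => rw [smul_add]; exact add_mem ha hb
    | smul a b _ hb => rw [smul_comm]; exact LD.smul_mem a hb
  let p : ((Fin m → AD) ⧸ LD) →ₗ[D] N3 := (LD.mapQ L3 LinearMap.id le_sup_left).restrictScalars D
  have hp : Function.Surjective p := fun x => by
    obtain ⟨y, rfl⟩ := L3.mkQ_surjective x
    exact ⟨LD.mkQ y, rfl⟩
  let fT := algebraMap R₀ T f₀
  have hkerp : ∀ x, p.baseChange T x = 0 → fT ^ s • x = 0 := by
    intro x hx
    obtain ⟨w, rfl⟩ := ((lTensor_exact T p.exact_subtype_ker_map hp) x).1 hx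
    clear hx
    induction w using TensorProduct.induction_on with
    | zero => simp
    | add a b ha hb => rw [map_add, smul_add, ha, hb, add_zero]
    | tmul t y =>
      rw [LinearMap.lTensor_tmul, ← map_pow, IsScalarTower.algebraMap_apply R₀ D T, algebraMap_smul,
        ← TensorProduct.tmul_smul]
      obtain ⟨y, hy⟩ := y
      obtain ⟨v, rfl⟩ := LD.mkQ_surjective y
      have hv : v ∈ L3 := (Submodule.Quotient.mk_eq_zero L3).1 hy
      have : algebraMap R₀ D (f₀ ^ s) • LD.mkQ v = 0 := by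
        rw [← algebraMap_smul AD (algebraMap R₀ D (f₀ ^ s)), ← IsScalarTower.algebraMap_apply, ← map_smul]
        exact (Submodule.Quotient.mk_eq_zero LD).2 (hf3 v hv)
      show t ⊗ₜ[D] (algebraMap R₀ D (f₀ ^ s) • LD.mkQ v) = 0
      rw [this, TensorProduct.tmul_zero]
  have hreg : IsSMulRegular (T ⊗[D] N3) fT := by
    intro a b hab
    have h : Function.Injective fun x : T => fT * x := hT
    have := Module.Flat.rTensor_preserves_injective_linearMap (M := T ⊗[D] N3) (LinearMap.mulLeft T fT) h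
    apply (TensorProduct.lid T (T ⊗[D] N3)).symm.injective
    apply this
    simp only [TensorProduct.lid_symm_apply, LinearMap.rTensor_tmul, LinearMap.mulLeft_apply, mul_one]
    have hab' : fT • a = fT • b := hab
    calc fT ⊗ₜ[T] a = (1 : T) ⊗ₜ[T] (fT • a) := by rw [← TensorProduct.smul_tmul, smul_eq_mul, mul_one]
      _ = fT ⊗ₜ[T] b := by rw [hab', ← TensorProduct.smul_tmul, smul_eq_mul, mul_one]
  obtain ⟨e⟩ := exists_equiv_st (s := fT) (Y := T ⊗[D] N3) ((p.baseChange T) ∘ₗ eT.toLinearMap)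
    ((LinearMap.lTensor_surjective T hp).comp eT.surjective) (fun x hx => ⟨s, eT.injective <| by
      rw [map_smul, map_zero]; exact hkerp _ hx⟩) hreg
  exact Module.Flat.of_linearEquiv e

/-- Over a valuative algebra the flattening comes from a stage of finite type. -/
theorem exists_stage (C : Type u) [CommRing C] [Algebra R₀ C] [IsLocalRing C]
    (hC : IsValuative C (algebraMap R₀ C f₀))
    (hflat : Module.Flat (Localization.Away (algebraMap R₀ C f₀))
      (Localization.Away (algebraMap R₀ C f₀) ⊗[R₀] Pres l)) :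
    ∃ (E : Type u) (_ : CommRing E) (_ : Algebra R₀ E), Algebra.FiniteType R₀ E ∧ Nonempty (E →ₐ[R₀] C) ∧
      ∀ (T : Type u) [CommRing T] [Algebra R₀ T], (E →ₐ[R₀] T) → IsSMulRegular T (algebraMap R₀ T f₀) →
        Module.Flat T (ST T (algebraMap R₀ T f₀) (T ⊗[R₀] Pres l)) := by
  classical
  obtain ⟨n, kk, s, hs, hflatC⟩ := exists_torsion f₀ l C hC hflat
  obtain ⟨D, k', hD, hk, hk'⟩ := exists_lift_torsion f₀ l C kk s hs
  haveI : Algebra.FiniteType R₀ D := (Subalgebra.fg_iff_finiteType D).1 hD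
  haveI : IsNoetherianRing D := Algebra.FiniteType.isNoetherianRing R₀ D
  let AD := D ⊗[R₀] B₀
  let AC := C ⊗[R₀] B₀
  let g : (κ ⊕ ULift.{u} (Fin n)) → Fin m → AD := Sum.elim (fun v => vec D (l v)) fun j => k' j.down
  let L3 : Submodule AD (Fin m → AD) :=
    Submodule.span AD (Set.range fun v => vec D (l v)) ⊔ Submodule.span AD (Set.range k')
  have hg : Submodule.span AD (Set.range g) = L3 := by
    simp only [L3]
    rw [← Submodule.span_union]
    congr 1
    ext x
    constructor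
    · rintro ⟨v | j, rfl⟩
      · exact Or.inl ⟨v, rfl⟩
      · exact Or.inr ⟨j.down, rfl⟩
    · rintro (⟨v, rfl⟩ | ⟨j, rfl⟩)
      · exact ⟨Sum.inl v, rfl⟩
      · exact ⟨Sum.inr ⟨j⟩, rfl⟩
  let N3 := (Fin m → AD) ⧸ L3
  let e3 : C ⊗[D] AD ≃ₐ[C] AC := Algebra.TensorProduct.cancelBaseChange R₀ D C C B₀
  have he3 : ∀ x : AD, e3 ((1 : C) ⊗ₜ[D] x) = inclTensor B₀ D x := fun x => by
    induction x using TensorProduct.induction_on with
    | zero => simp
    | tmul a b =>
      rw [Algebra.TensorProduct.cancelBaseChange_tmul]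
      show (a • (1 : C)) ⊗ₜ[R₀] b = D.val a ⊗ₜ[R₀] b
      rw [Algebra.smul_def, mul_one]
      rfl
    | add a b ha hb => simp only [TensorProduct.tmul_add, map_add, ha, hb]
  have hspan : Submodule.span AC (Set.range fun x => Stage62.coord e3 (g x)) =
      Submodule.span AC (Set.range fun v => vec C (l v)) ⊔ Submodule.span AC (Set.range kk) := by
    have hl : ∀ v, Stage62.coord e3 (vec D (l v)) = vec C (l v) := fun v => funext fun i => by
      simp [Stage62.coord, he3]
    have hk : ∀ j, Stage62.coord e3 (k' j) = kk j := fun j => funext fun i => by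
      simp only [Stage62.coord, he3, hk]
    rw [← Submodule.span_union]
    congr 1
    ext x
    constructor
    · rintro ⟨v | j, rfl⟩
      · exact Or.inl ⟨v, (hl v).symm⟩
      · exact Or.inr ⟨j.down, (hk j.down).symm⟩
    · rintro (⟨v, rfl⟩ | ⟨j, rfl⟩)
      · exact ⟨Sum.inl v, hl v⟩
      · exact ⟨Sum.inr ⟨j⟩, hk j⟩
  haveI := hflatC
  let eg : N3 ≃ₗ[D] (Fin m → AD) ⧸ Submodule.span AD (Set.range g) :=
    (Submodule.quotEquivOfEq _ _ hg.symm).restrictScalars D
  haveI : Module.Flat C (C ⊗[D] N3) := Module.Flat.of_linearEquiv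
    (AlgebraTensorModule.congr (LinearEquiv.refl C C) eg ≪≫ₗ Stage62.quotEquiv e3 g ≪≫ₗ
      (Submodule.quotEquivOfEq _ _ hspan).restrictScalars C)
  obtain ⟨E, hE, hEflat⟩ := FlatStage64.exists_fg_flat (R := D) (B := AD) (M := N3) (A := C) inferInstance
  haveI : Algebra.FiniteType D E := (Subalgebra.fg_iff_finiteType E).1 hE
  refine ⟨E, inferInstance, inferInstance, Algebra.FiniteType.trans (R := R₀) (S := D) inferInstance inferInstance,
    ⟨E.val.restrictScalars R₀⟩, fun T _ _ ψT hT => ?_⟩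
  letI : Algebra E T := ψT.toRingHom.toAlgebra
  letI : Algebra D T := (ψT.toRingHom.comp (algebraMap D E)).toAlgebra
  haveI : IsScalarTower D E T := IsScalarTower.of_algebraMap_eq fun _ => rfl
  haveI : IsScalarTower R₀ E T := IsScalarTower.of_algebraMap_eq fun r => (ψT.commutes r).symm
  haveI : IsScalarTower R₀ D T := IsScalarTower.of_algebraMap_eq fun r => by
    rw [IsScalarTower.algebraMap_apply R₀ E T, IsScalarTower.algebraMap_apply R₀ D E]
    rfl
  haveI : Module.Flat E (E ⊗[D] N3) := hEflat E le_rfl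
  haveI : Module.Flat T (T ⊗[D] N3) :=
    Module.Flat.of_linearEquiv (AlgebraTensorModule.cancelBaseChange D E T T N3).symm
  exact flat_st_of_stage f₀ l D T k' s hk' hT

end Core

section Main

variable {R A N : Type u} [CommRing R] [CommRing A] [Algebra R A] [Algebra.FinitePresentation R A]
  [AddCommGroup N] [Module A N] [Module R N] [IsScalarTower R A N]

/-- The strict transform of the module is flat on the affine pieces of the blow-up in the ideal, where `f` is
any generator of the centre. -/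
def Flattens (𝔞 : Ideal R) (N : Type u) [AddCommGroup N] [Module R N] (J : Ideal R) : Prop :=
  ∀ (T : Type u) [CommRing T] [Algebra R T] [IsLocalRing T], IsAdapted J T →
    ∀ f ∈ 𝔞, IsSMulRegular T (algebraMap R T f) → (∀ b ∈ 𝔞, algebraMap R T f ∣ algebraMap R T b) →
      Module.Flat T (ST T (algebraMap R T f) (T ⊗[R] N))

theorem powTorsion_mul_unit {T : Type u} [CommRing T] (g : T) {u : T} (hu : IsUnit u) (Q : Type u) [AddCommGroup Q]
    [Module T Q] : FlatCA.powTorsion T (g * u) Q = FlatCA.powTorsion T g Q := by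
  ext q
  simp only [Fit14.mem_powTorsion, mul_pow, mul_comm (g ^ _) (u ^ _), mul_smul]
  exact exists_congr fun k => (hu.pow k).smul_eq_zero

/-- Over one valuative algebra, the strict transform is flat after a finitely presented base change. -/
theorem exists_stage_model (f : R) {A₀ : Type u} [CommRing A₀] [IsNoetherianRing A₀] [Algebra A₀ R]
    {R₀ : Type u} [CommRing R₀] [IsNoetherianRing R₀] [Algebra A₀ R₀] [Algebra R₀ R] [IsScalarTower A₀ R₀ R]
    (f₀ : R₀) (hf₀ : algebraMap R₀ R f₀ = f) {B' : Type u} [CommRing B'] [Algebra A₀ B'] [Algebra.FiniteType A₀ B']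
    {M' : Type u} [AddCommGroup M'] [Module B' M'] [Module A₀ M'] [IsScalarTower A₀ B' M'] [Module.Finite B' M']
    (e' : R ⊗[A₀] M' ≃ₗ[R] N)
    (hflat : Module.Flat (Localization.Away f) (Localization.Away f ⊗[R] N))
    (C : Type u) [CommRing C] [Algebra R C] [IsLocalRing C] (hC : IsValuative C (algebraMap R C f)) :
    ∃ (P₀ : Type u) (_ : CommRing P₀) (_ : Algebra R P₀), Algebra.FinitePresentation R P₀ ∧ Nonempty (P₀ →ₐ[R] C) ∧
      ∀ (T : Type u) [CommRing T] [Algebra R T], IsSMulRegular T (algebraMap R T f) → (P₀ →ₐ[R] T) →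
        Module.Flat T (ST T (algebraMap R T f) (T ⊗[R] N)) := by
  classical
  subst hf₀
  let B₀ := R₀ ⊗[A₀] B'
  haveI : IsNoetherianRing B' := Algebra.FiniteType.isNoetherianRing A₀ B'
  obtain ⟨m, π, hπ⟩ := Module.Finite.exists_fin' B' M'
  obtain ⟨w, hw⟩ := (IsNoetherian.noetherian (LinearMap.ker π) : (LinearMap.ker π).FG)
  let l' : ↥(w : Set (Fin m → B')) → Fin m → B' := Subtype.val
  let eM : M' ≃ₗ[A₀] (Fin m → B') ⧸ Submodule.span B' (Set.range l') :=
    ((Submodule.quotEquivOfEq _ _ (by rw [Subtype.range_coe, hw]) ≪≫ₗ π.quotKerEquivOfSurjective hπ).symm).restrictScalars A₀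
  let l : ↥(w : Set (Fin m → B')) → Fin m → B₀ := fun v => Stage62.coord (AlgEquiv.refl (A₁ := B₀) (R := R₀)) (l' v)
  let eB : R₀ ⊗[A₀] M' ≃ₗ[R₀] Pres l :=
    AlgebraTensorModule.congr (LinearEquiv.refl R₀ R₀) eM ≪≫ₗ Stage62.quotEquiv AlgEquiv.refl l'
  have bc : ∀ (T : Type u) [CommRing T] [Algebra R T] [Algebra R₀ T] [IsScalarTower R₀ R T],
      Nonempty (T ⊗[R₀] Pres l ≃ₗ[T] T ⊗[R] N) := by
    intro T _ _ _ _
    letI : Algebra A₀ T := ((algebraMap R T).comp (algebraMap A₀ R)).toAlgebra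
    haveI : IsScalarTower A₀ R T := IsScalarTower.of_algebraMap_eq fun _ => rfl
    haveI : IsScalarTower A₀ R₀ T := IsScalarTower.of_algebraMap_eq fun a => by
      rw [IsScalarTower.algebraMap_apply R₀ R T, ← IsScalarTower.algebraMap_apply A₀ R₀ R,
        ← IsScalarTower.algebraMap_apply A₀ R T]
    exact ⟨AlgebraTensorModule.congr (LinearEquiv.refl T T) eB.symm ≪≫ₗ
      AlgebraTensorModule.cancelBaseChange A₀ R₀ T T M' ≪≫ₗ
      (AlgebraTensorModule.cancelBaseChange A₀ R T T M').symm ≪≫ₗ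
      AlgebraTensorModule.congr (LinearEquiv.refl T T) e'⟩
  letI : Algebra R₀ C := ((algebraMap R C).comp (algebraMap R₀ R)).toAlgebra
  haveI : IsScalarTower R₀ R C := IsScalarTower.of_algebraMap_eq fun _ => rfl
  haveI : IsScalarTower R₀ R (Localization.Away (algebraMap R₀ C f₀)) := IsScalarTower.of_algebraMap_eq fun r => by
    rw [IsScalarTower.algebraMap_apply R C (Localization.Away (algebraMap R₀ C f₀)), ← IsScalarTower.algebraMap_apply R₀ R C,
      ← IsScalarTower.algebraMap_apply R₀ C (Localization.Away (algebraMap R₀ C f₀))]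
  let Cf := Localization.Away (algebraMap R₀ C f₀)
  letI : Algebra (Localization.Away (algebraMap R₀ R f₀)) Cf := (IsLocalization.Away.lift (algebraMap R₀ R f₀) (g := algebraMap R Cf)
    (by
      rw [IsScalarTower.algebraMap_apply R C Cf]
      exact IsLocalization.Away.algebraMap_isUnit (S := Cf) (algebraMap R₀ C f₀))).toAlgebra
  haveI : IsScalarTower R (Localization.Away (algebraMap R₀ R f₀)) Cf :=
    IsScalarTower.of_algebraMap_eq fun r => (IsLocalization.Away.lift_eq (algebraMap R₀ R f₀) _ r).symm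
  have hCf : Module.Flat Cf (Cf ⊗[R₀] Pres l) := by
    haveI := hflat
    obtain ⟨e⟩ := bc Cf
    exact Module.Flat.of_linearEquiv (e ≪≫ₗ
      (AlgebraTensorModule.cancelBaseChange R (Localization.Away (algebraMap R₀ R f₀)) Cf Cf N).symm)
  obtain ⟨E, _, _, hE, ⟨φ⟩, hflatE⟩ := exists_stage f₀ l C hC hCf
  haveI := hE
  haveI : Algebra.FinitePresentation R₀ E := Algebra.FinitePresentation.of_finiteType.1 hE
  refine ⟨R ⊗[R₀] E, inferInstance, inferInstance, inferInstance,
    ⟨Algebra.TensorProduct.lift (Algebra.ofId R C) φ fun a b => Commute.all _ _⟩, fun T _ _ hT χ => ?_⟩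
  letI : Algebra R₀ T := ((algebraMap R T).comp (algebraMap R₀ R)).toAlgebra
  haveI : IsScalarTower R₀ R T := IsScalarTower.of_algebraMap_eq fun _ => rfl
  have hTflat := hflatE T ((χ.restrictScalars R₀).comp Algebra.TensorProduct.includeRight) hT
  obtain ⟨e⟩ := bc T
  obtain ⟨est⟩ := st_congr (s := algebraMap R T (algebraMap R₀ R f₀)) e
  exact Module.Flat.of_linearEquiv (M := ST T (algebraMap R T (algebraMap R₀ R f₀)) (T ⊗[R₀] Pres l)) est.symm

theorem exists_flattening_fp [Module.FinitePresentation A N] (𝔞 : Ideal R) (h𝔞 : 𝔞.FG)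
    (hflat : ∀ f ∈ 𝔞, Module.Flat (Localization.Away f) (Localization.Away f ⊗[R] N)) :
    ∃ J : Ideal R, J.FG ∧ J.radical = 𝔞.radical ∧ Flattens 𝔞 N J := by
  classical
  obtain ⟨A₀, B', _, _, M', _, _, _, _, e', hA₀, hB', hM'⟩ :=
    Stage62.exists_module_model (A := R) (B := A) (M := N)
  haveI := hA₀; haveI := hB'; haveI := hM'
  refine exists_ideal_of_valuative 𝔞 h𝔞 (fun T _ _ => ∀ f ∈ 𝔞, IsSMulRegular T (algebraMap R T f) →
    (∀ b ∈ 𝔞, algebraMap R T f ∣ algebraMap R T b) → Module.Flat T (ST T (algebraMap R T f) (T ⊗[R] N))) ?_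
  intro C _ _ _ f hf hC _
  let R₀ := Algebra.adjoin A₀ ({f} : Set R)
  haveI : Algebra.FiniteType A₀ R₀ :=
    (Subalgebra.fg_iff_finiteType R₀).1 ⟨{f}, by simp [R₀]⟩
  haveI : IsNoetherianRing R₀ := Algebra.FiniteType.isNoetherianRing A₀ R₀
  obtain ⟨P₀, i1, i2, hP₀, hφ, h⟩ := exists_stage_model f (R₀ := R₀) (B' := B') (M' := M')
    ⟨f, Algebra.self_mem_adjoin_singleton A₀ f⟩ rfl e' (hflat f hf) C hC
  refine ⟨P₀, i1, i2, hP₀, hφ, fun T _ _ _ hfT hdvd χ g hg hgT hgdvd => ?_⟩
  obtain ⟨u, hu⟩ := hdvd g hg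
  obtain ⟨v, hv⟩ := hgdvd f hf
  have hunit : IsUnit u := by
    refine IsUnit.of_mul_eq_one v (hfT ?_)
    simp only [smul_eq_mul, mul_one]
    rw [← mul_assoc, ← hu]
    exact hv.symm
  have heq : FlatCA.powTorsion T (algebraMap R T g) (T ⊗[R] N) = FlatCA.powTorsion T (algebraMap R T f) (T ⊗[R] N) := by
    rw [hu, powTorsion_mul_unit _ hunit]
  haveI := h T hfT χ
  exact Module.Flat.of_linearEquiv (Submodule.quotEquivOfEq _ _ heq)

theorem exists_fp_cover [Module.Finite A N] (𝔞 : Ideal R) (h𝔞 : 𝔞.FG)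
    (hfp : ∀ f ∈ 𝔞, Module.FinitePresentation (Localization.Away (algebraMap R A f))
      (LocalizedModule (Submonoid.powers (algebraMap R A f)) N)) :
    ∃ (N₀ : Type u) (_ : AddCommGroup N₀) (_ : Module A N₀) (π : N₀ →ₗ[A] N),
      Module.FinitePresentation A N₀ ∧ Function.Surjective π ∧
        ∀ x, π x = 0 → ∀ f ∈ 𝔞, ∃ k : ℕ, algebraMap R A f ^ k • x = 0 := by
  classical
  obtain ⟨n, π, hπ⟩ := Module.Finite.exists_fin' A N
  obtain ⟨s, hs⟩ := h𝔞
  have key : ∀ f : ↥(s : Set R), ∃ K : Submodule A (Fin n → A), K.FG ∧ K ≤ LinearMap.ker π ∧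
      ∀ x ∈ LinearMap.ker π, ∃ t ∈ Submonoid.powers (algebraMap R A f.1), t • x ∈ K := fun f => by
    haveI := hfp f.1 (hs ▸ Ideal.subset_span f.2)
    exact exists_fg_le_ker_at π hπ (Submonoid.powers (algebraMap R A f.1))
  choose K hK hle h using key
  refine ⟨(Fin n → A) ⧸ ⨆ f, K f, inferInstance, inferInstance, (⨆ f, K f).liftQ π (iSup_le hle),
    Module.finitePresentation_of_surjective (⨆ f, K f).mkQ (⨆ f, K f).mkQ_surjective
      (by rw [Submodule.ker_mkQ]; exact Submodule.fg_iSup _ hK), fun y => ?_, fun x hx => ?_⟩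
  · obtain ⟨z, rfl⟩ := hπ y
    exact ⟨(⨆ f, K f).mkQ z, rfl⟩
  · obtain ⟨z, rfl⟩ := (⨆ f, K f).mkQ_surjective x
    intro f hf
    let Ann : Ideal R :=
      { carrier := {a | algebraMap R A a • (⨆ f, K f).mkQ z = 0}
        add_mem' := fun {a b} ha hb => by
          show algebraMap R A (a + b) • (⨆ f, K f).mkQ z = 0
          rw [map_add, add_smul, show algebraMap R A a • (⨆ f, K f).mkQ z = 0 from ha,
            show algebraMap R A b • (⨆ f, K f).mkQ z = 0 from hb, add_zero]
        zero_mem' := by show algebraMap R A 0 • _ = 0; rw [map_zero, zero_smul]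
        smul_mem' := fun a b hb => by
          show algebraMap R A (a * b) • _ = 0
          rw [map_mul, mul_smul, show algebraMap R A b • (⨆ f, K f).mkQ z = 0 from hb, smul_zero] }
    have hle' : 𝔞 ≤ Ann.radical := by
      rw [← hs, Ideal.span_le]
      intro a ha
      obtain ⟨_, ⟨k, rfl⟩, hk⟩ := h ⟨a, ha⟩ z hx
      refine ⟨k, ?_⟩
      show algebraMap R A (a ^ k) • (⨆ f, K f).mkQ z = 0
      rw [map_pow, ← map_smul]
      exact (Submodule.Quotient.mk_eq_zero _).2 (Submodule.mem_iSup_of_mem _ hk)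
    obtain ⟨k, hk⟩ := hle' hf
    exact ⟨k, by rw [← map_pow]; exact hk⟩

/-- Flattening by a blow-up. -/
theorem exists_flattening [Module.Finite A N] (𝔞 : Ideal R) (h𝔞 : 𝔞.FG)
    (hfp : ∀ f ∈ 𝔞, Module.FinitePresentation (Localization.Away (algebraMap R A f))
      (LocalizedModule (Submonoid.powers (algebraMap R A f)) N))
    (hflat : ∀ f ∈ 𝔞, Module.Flat (Localization.Away f) (Localization.Away f ⊗[R] N)) :
    ∃ J : Ideal R, J.FG ∧ J.radical = 𝔞.radical ∧ Flattens 𝔞 N J := by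
  obtain ⟨N₀, _, _, π, hN₀, hπ, hker⟩ := exists_fp_cover 𝔞 h𝔞 hfp
  letI : Module R N₀ := Module.compHom N₀ (algebraMap R A)
  haveI : IsScalarTower R A N₀ := IsScalarTower.of_algebraMap_smul fun _ _ => rfl
  haveI := hN₀
  let πR : N₀ →ₗ[R] N := π.restrictScalars R
  have hkill : ∀ f ∈ 𝔞, ∀ (T : Type u) [CommRing T] [Algebra R T] (x : T ⊗[R] N₀), πR.baseChange T x = 0 →
      ∃ k : ℕ, algebraMap R T f ^ k • x = 0 := by
    intro f hf T _ _ x hx
    obtain ⟨w, rfl⟩ := ((lTensor_exact T πR.exact_subtype_ker_map hπ) x).1 hx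
    clear hx
    induction w using TensorProduct.induction_on with
    | zero => exact ⟨0, by simp⟩
    | add a b ha hb =>
      obtain ⟨k, hk⟩ := ha
      obtain ⟨l, hl⟩ := hb
      refine ⟨k + l, ?_⟩
      rw [map_add, smul_add, add_comm k l]
      conv_lhs => arg 1; rw [pow_add, mul_smul, hk, smul_zero]
      rw [add_comm l k, pow_add, mul_smul, hl, smul_zero, add_zero]
    | tmul t y =>
      obtain ⟨k, hk⟩ := hker y.1 y.2 f hf
      refine ⟨k, ?_⟩
      rw [LinearMap.lTensor_tmul, ← map_pow, algebraMap_smul, ← TensorProduct.tmul_smul]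
      have : f ^ k • (y.1 : N₀) = 0 := by
        rw [← algebraMap_smul A (f ^ k), map_pow]; exact hk
      show t ⊗ₜ[R] (f ^ k • (y.1 : N₀)) = 0
      rw [this, TensorProduct.tmul_zero]
  have hflat₀ : ∀ f ∈ 𝔞, Module.Flat (Localization.Away f) (Localization.Away f ⊗[R] N₀) := by
    intro f hf
    haveI := hflat f hf
    refine Module.Flat.of_linearEquiv (LinearEquiv.ofBijective (πR.baseChange (Localization.Away f))
      ⟨(injective_iff_map_eq_zero _).2 fun x hx => ?_, LinearMap.lTensor_surjective _ hπ⟩)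
    obtain ⟨k, hk⟩ := hkill f hf _ x hx
    exact (((IsLocalization.Away.algebraMap_isUnit (S := Localization.Away f) f).pow k).isSMulRegular _).right_eq_zero_of_smul hk
  obtain ⟨J, hJ, hfJ, hJflat⟩ := exists_flattening_fp (A := A) 𝔞 h𝔞 hflat₀
  refine ⟨J, hJ, hfJ, fun T _ _ _ hadapt f hf hT hdvd => ?_⟩
  haveI := hJflat T hadapt f hf hT hdvd
  obtain ⟨e⟩ := st_of_surjective (s := algebraMap R T f) (πR.baseChange T)
    (LinearMap.lTensor_surjective _ hπ) (hkill f hf T)
  exact Module.Flat.of_linearEquiv e.symm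

end Main

end Groth.Agent.FlatCrit65.Blow
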