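import Groth.Agent.FlatCrit65.Blow.StrictBlowUp
import Groth.Agent.FlatCrit65.Blow.GraphClosure
import Groth.Agent.FlatCrit65.Blow.Composite
import Groth.Agent.FlatMor68.QuasiDomGlue
import Groth.Agent.RegImm10.BlowModel
import Groth.Agent.RegImm10.BlowLocal
import Mathlib

/-!
Gluing two separated schemes containing a common open after admissible blow-ups.
-/

set_option autoImplicit false
set_option linter.style.haveILetI false
set_option backward.isDefEq.respectTransparency.types false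

universe u

open CategoryTheory CategoryTheory.Limits AlgebraicGeometry TopologicalSpace

noncomputable section

namespace Groth.Agent.FlatCrit65.Blow

/-- An ideal with empty support is effective Cartier. -/
theorem isEffCartier_comap_of_range_subset {T X : Scheme.{u}} (I : X.IdealSheafData) (g : T ⟶ X)
    (h : ∀ t : T, g t ∉ I.support) : BlowUp.IsEffCartierIdeal (I.comap g) :=
  Div89.isEffCartier_of_support_empty fun t ht => h t (by
    rw [Scheme.IdealSheafData.support_comap] at ht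
    exact ht)

/-- The blow-up making a morphism an open immersion, recorded as a blow-up of the source. -/
theorem exists_openImmersion_model {Z X : Scheme.{u}} [CompactSpace X] [QuasiSeparatedSpace X]
    (p : Z ⟶ X) [IsSeparated p] [LocallyOfFiniteType p] [QuasiCompact p] (R : X.Opens) (hR : IsCompact (R : Set X))
    [IsIso (p ∣_ R)] :
    ∃ (I : X.IdealSheafData) (X' : Scheme.{u}) (b : X' ⟶ X), BlowUp.IsBlowUp b I ∧ BlowUp.IsAdmissibleFor R I ∧
      (I.support : Set X) = (R : Set X)ᶜ ∧ ∃ (W : Scheme.{u}) (w : W ⟶ Z) (o : W ⟶ X'),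
        BlowUp.IsBlowUp w (I.comap p) ∧ IsOpenImmersion o ∧ QuasiCompact o ∧ o ≫ b = w ≫ p := by
  obtain ⟨I, X', b, hb, hadm, hsupp, hstr⟩ := exists_openImmersion_blowUp p R hR
  haveI : IsProper b := RegImm10.BlowModel.isProper_of_isBlowUp hadm.1 hb
  have H := IsPullback.of_hasPullback p b
  have hft : BlowUp.IsFiniteTypeIdeal ((I.comap p).comap (pullback.fst p b)) :=
    Div89.isFiniteTypeIdeal_comap _ (Div89.isFiniteTypeIdeal_comap _ hadm.1)
  let 𝒥 := strictIdeal _ hft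
  obtain ⟨hoi, -⟩ := hstr _ _ _ H 𝒥 (strictIdeal_iff _ hft)
  refine ⟨I, X', b, hb, hadm, hsupp, 𝒥.subscheme, 𝒥.subschemeι ≫ pullback.fst p b,
    𝒥.subschemeι ≫ pullback.snd p b, isBlowUp_strict hb H 𝒥 (strictIdeal_iff _ hft), hoi, inferInstance, ?_⟩
  rw [Category.assoc, Category.assoc, pullback.condition]

/-- One side of the gluing: blow the target up further so that the common blow-up of `Z` sits inside it. -/
theorem exists_side {Z X X' W : Scheme.{u}} [CompactSpace X] [QuasiSeparatedSpace X] (p : Z ⟶ X) (R : X.Opens)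
    (hR : IsCompact (R : Set X)) {I : X.IdealSheafData} {b : X' ⟶ X} (hb : BlowUp.IsBlowUp b I)
    (hI : BlowUp.IsAdmissibleFor R I) {w : W ⟶ Z} (o : W ⟶ X') [IsOpenImmersion o] [QuasiCompact o]
    (hw : BlowUp.IsBlowUp w (I.comap p)) (ho : o ≫ b = w ≫ p)
    (K : Z.IdealSheafData) (hK : BlowUp.IsFiniteTypeIdeal K) (hKR : ∀ z ∈ K.support, p z ∉ R) :
    ∃ (𝓘 : X.IdealSheafData) (X'' : Scheme.{u}) (bb : X'' ⟶ X) (W' : Scheme.{u}) (w' : W' ⟶ Z) (o' : W' ⟶ X''),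
      BlowUp.IsBlowUp bb 𝓘 ∧ BlowUp.IsAdmissibleFor R 𝓘 ∧ BlowUp.IsBlowUp w' (I.comap p * K) ∧
      IsOpenImmersion o' ∧ o' ≫ bb = w' ≫ p := by
  haveI : IsProper b := RegImm10.BlowModel.isProper_of_isBlowUp hI.1 hb
  haveI : CompactSpace X' := QuasiCompact.compactSpace_of_compactSpace b
  haveI : QuasiSeparatedSpace X' := quasiSeparatedSpace_of_quasiSeparated b
  haveI : CompactSpace W := QuasiCompact.compactSpace_of_compactSpace o
  let e := o.isoOpensRange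
  let r : o.opensRange.toScheme ⟶ Z := e.inv ≫ w
  have hr : BlowUp.IsBlowUp r (I.comap p) := RegImm10.BlowLocal.isBlowUp_iso_comp e.symm hw
  have hrp : r ≫ p = o.opensRange.ι ≫ b := by
    simp only [r, Category.assoc, ← ho, e, Scheme.Hom.isoOpensRange_inv_comp_assoc]
  have hadm : BlowUp.IsAdmissibleFor (o.opensRange.ι ⁻¹ᵁ (b ⁻¹ᵁ R)) (K.comap r) := by
    refine ⟨Div89.isFiniteTypeIdeal_comap _ hK, Set.disjoint_left.2 fun x hx hxR => ?_⟩
    rw [Scheme.IdealSheafData.support_comap] at hx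
    refine hKR _ hx ?_
    rw [← Scheme.Hom.comp_apply, hrp]
    exact hxR
  obtain ⟨J, hJ, hJR⟩ := Div89.exists_admissible_extension (b ⁻¹ᵁ R) o.opensRange (b.isCompact_preimage hR)
    (isCompact_range o.continuous) (K.comap r) hadm
  obtain ⟨X'', b'', hb''⟩ := FBlow13.exists_isBlowUp_scheme X' J
  obtain ⟨𝓘, h𝓘b, h𝓘⟩ := exists_admissible_comp hI hb J hJ hb''
  have hres := RegImm10.BlowModel.isBlowUp_morphismRestrict hb'' o.opensRange
  rw [hJR] at hres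
  refine ⟨𝓘, X'', b'' ≫ b, _, (b'' ∣_ o.opensRange) ≫ r, (b'' ⁻¹ᵁ o.opensRange).ι, h𝓘b, h𝓘,
    Div89.isBlowUp_comp hr hres, inferInstance, ?_⟩
  rw [Category.assoc, hrp, morphismRestrict_ι_assoc]

/-- The lift of an open disjoint from the centre to a blow-up, through a given open. -/
theorem lift_unique {T X'' X : Scheme.{u}} {bb : X'' ⟶ X} {𝓘 : X.IdealSheafData} (hb : BlowUp.IsBlowUp bb 𝓘)
    (j : T ⟶ X) (hj : ∀ t : T, j t ∉ 𝓘.support) (a b : T ⟶ X'') (ha : a ≫ bb = j) (hb' : b ≫ bb = j) : a = b :=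
  (hb.2 T j (isEffCartier_comap_of_range_subset 𝓘 j hj)).unique ha hb'

theorem exists_glue_pair {U X₁ X₂ S : Scheme.{u}} [CompactSpace S] [QuasiSeparatedSpace S]
    (gU : U ⟶ S) (g₁ : X₁ ⟶ S) (g₂ : X₂ ⟶ S)
    [IsSeparated gU] [LocallyOfFiniteType gU] [QuasiCompact gU]
    [IsSeparated g₁] [LocallyOfFiniteType g₁] [QuasiCompact g₁]
    [IsSeparated g₂] [LocallyOfFiniteType g₂] [QuasiCompact g₂]
    (j₁ : U ⟶ X₁) (j₂ : U ⟶ X₂) [IsOpenImmersion j₁] [IsOpenImmersion j₂] (hj₁ : j₁ ≫ g₁ = gU) (hj₂ : j₂ ≫ g₂ = gU) :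
    ∃ (X : Scheme.{u}) (q : X ⟶ S) (_ : IsSeparated q) (_ : LocallyOfFiniteType q) (_ : QuasiCompact q)
      (𝓘₁ : X₁.IdealSheafData) (𝓘₂ : X₂.IdealSheafData) (X₁' X₂' : Scheme.{u}) (b₁ : X₁' ⟶ X₁) (b₂ : X₂' ⟶ X₂)
      (o₁ : X₁' ⟶ X) (o₂ : X₂' ⟶ X) (u₁ : U ⟶ X₁') (u₂ : U ⟶ X₂'),
      BlowUp.IsBlowUp b₁ 𝓘₁ ∧ BlowUp.IsAdmissibleFor j₁.opensRange 𝓘₁ ∧
      BlowUp.IsBlowUp b₂ 𝓘₂ ∧ BlowUp.IsAdmissibleFor j₂.opensRange 𝓘₂ ∧
      IsOpenImmersion o₁ ∧ IsOpenImmersion o₂ ∧ o₁ ≫ q = b₁ ≫ g₁ ∧ o₂ ≫ q = b₂ ≫ g₂ ∧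
      u₁ ≫ b₁ = j₁ ∧ u₂ ≫ b₂ = j₂ ∧ u₁ ≫ o₁ = u₂ ≫ o₂ := by
  haveI : CompactSpace U := QuasiCompact.compactSpace_of_compactSpace gU
  haveI : CompactSpace X₁ := QuasiCompact.compactSpace_of_compactSpace g₁
  haveI : CompactSpace X₂ := QuasiCompact.compactSpace_of_compactSpace g₂
  haveI : QuasiSeparatedSpace X₁ := quasiSeparatedSpace_of_quasiSeparated g₁
  haveI : QuasiSeparatedSpace X₂ := quasiSeparatedSpace_of_quasiSeparated g₂
  haveI : QuasiCompact j₁ := quasiCompact_of_compactSpace _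
  haveI : QuasiCompact j₂ := quasiCompact_of_compactSpace _
  let γ : U ⟶ pullback g₁ g₂ := pullback.lift j₁ j₂ (hj₁.trans hj₂.symm)
  have hγ₁ : γ ≫ pullback.fst g₁ g₂ = j₁ := pullback.lift_fst _ _ _
  have hγ₂ : γ ≫ pullback.snd g₁ g₂ = j₂ := pullback.lift_snd _ _ _
  haveI : QuasiCompact (γ ≫ pullback.fst g₁ g₂) := by rw [hγ₁]; infer_instance
  haveI : QuasiCompact γ := QuasiCompact.of_comp γ (pullback.fst g₁ g₂)
  let p₁ := γ.imageι ≫ pullback.fst g₁ g₂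
  let p₂ := γ.imageι ≫ pullback.snd g₁ g₂
  haveI : IsIso (p₁ ∣_ j₁.opensRange) := isIso_image_comp_restrict (pullback.fst g₁ g₂) γ j₁ hγ₁
  haveI : IsIso (p₂ ∣_ j₂.opensRange) := isIso_image_comp_restrict (pullback.snd g₁ g₂) γ j₂ hγ₂
  have ht₁ : γ.toImage ≫ p₁ = j₁ := by rw [Scheme.Hom.toImage_imageι_assoc, hγ₁]
  have ht₂ : γ.toImage ≫ p₂ = j₂ := by rw [Scheme.Hom.toImage_imageι_assoc, hγ₂]
  have hpre : ∀ {X : Scheme.{u}} (p : γ.image ⟶ X) (j : U ⟶ X) [IsOpenImmersion j] [IsIso (p ∣_ j.opensRange)],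
      γ.toImage ≫ p = j → ∀ z, p z ∈ j.opensRange → z ∈ Set.range γ.toImage := by
    intro X p j _ _ hp z hz
    obtain ⟨u, hu⟩ := hz
    have hmem : γ.toImage u ∈ p ⁻¹ᵁ j.opensRange := by
      show p (γ.toImage u) ∈ j.opensRange
      rw [← Scheme.Hom.comp_apply, hp]
      exact ⟨u, rfl⟩
    refine ⟨u, ?_⟩
    have := (p ∣_ j.opensRange).homeomorph.injective (a₁ := ⟨γ.toImage u, hmem⟩) (a₂ := ⟨z, ⟨u, hu⟩⟩)
      (Subtype.ext (by
        show ((p ∣_ j.opensRange) ⟨γ.toImage u, hmem⟩).1 = ((p ∣_ j.opensRange) ⟨z, ⟨u, hu⟩⟩).1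
        rw [morphismRestrict_base_coe, morphismRestrict_base_coe]
        show p (γ.toImage u) = p z
        rw [← Scheme.Hom.comp_apply, hp, hu]))
    exact congrArg Subtype.val this
  obtain ⟨I₁, X₁a, b₁a, hb₁a, hI₁, hs₁, W₁a, w₁a, o₁a, hw₁a, _, _, hsq₁⟩ :=
    exists_openImmersion_model p₁ j₁.opensRange (isCompact_range j₁.continuous)
  obtain ⟨I₂, X₂a, b₂a, hb₂a, hI₂, hs₂, W₂a, w₂a, o₂a, hw₂a, _, _, hsq₂⟩ :=
    exists_openImmersion_model p₂ j₂.opensRange (isCompact_range j₂.continuous)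
  have hK₂ : ∀ z ∈ (I₂.comap p₂).support, p₁ z ∉ j₁.opensRange := by
    intro z hz hzR
    obtain ⟨u, rfl⟩ := hpre p₁ j₁ ht₁ z hzR
    rw [Scheme.IdealSheafData.support_comap] at hz
    have h : p₂ (γ.toImage u) ∈ (I₂.support : Set X₂) := hz
    rw [hs₂, ← Scheme.Hom.comp_apply, ht₂] at h
    exact h ⟨u, rfl⟩
  have hK₁ : ∀ z ∈ (I₁.comap p₁).support, p₂ z ∉ j₂.opensRange := by
    intro z hz hzR
    obtain ⟨u, rfl⟩ := hpre p₂ j₂ ht₂ z hzR
    rw [Scheme.IdealSheafData.support_comap] at hz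
    have h : p₁ (γ.toImage u) ∈ (I₁.support : Set X₁) := hz
    rw [hs₁, ← Scheme.Hom.comp_apply, ht₁] at h
    exact h ⟨u, rfl⟩
  obtain ⟨𝓘₁, X₁', b₁, W, w, o, hb₁, h𝓘₁, hw, _, hsq⟩ := exists_side p₁ j₁.opensRange
    (isCompact_range j₁.continuous) hb₁a hI₁ o₁a hw₁a hsq₁ _ (Div89.isFiniteTypeIdeal_comap p₂ hI₂.1) hK₂
  obtain ⟨𝓘₂, X₂', b₂, W', w', o', hb₂, h𝓘₂, hw', _, hsq'⟩ := exists_side p₂ j₂.opensRange
    (isCompact_range j₂.continuous) hb₂a hI₂ o₂a hw₂a hsq₂ _ (Div89.isFiniteTypeIdeal_comap p₁ hI₁.1) hK₁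
  rw [mul_comm] at hw'
  obtain ⟨e, he⟩ := RegImm10.BlowModel.exists_iso hw hw'
  let c := e.hom ≫ o'
  have hc : c ≫ b₂ = w ≫ p₂ := by simp only [c, Category.assoc, hsq', reassoc_of% he]
  have hS : o ≫ b₁ ≫ g₁ = c ≫ b₂ ≫ g₂ := by
    rw [reassoc_of% hsq, reassoc_of% hc]
    simp only [p₁, p₂, Category.assoc, pullback.condition]
  haveI : IsProper b₁ := RegImm10.BlowModel.isProper_of_isBlowUp h𝓘₁.1 hb₁
  haveI : IsProper b₂ := RegImm10.BlowModel.isProper_of_isBlowUp h𝓘₂.1 hb₂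
  have hft : BlowUp.IsFiniteTypeIdeal (I₁.comap p₁ * I₂.comap p₂) := fun V => by
    rw [Scheme.IdealSheafData.ideal_mul]
    exact (Div89.isFiniteTypeIdeal_comap p₁ hI₁.1 V).mul (Div89.isFiniteTypeIdeal_comap p₂ hI₂.1 V)
  haveI : IsProper w := RegImm10.BlowModel.isProper_of_isBlowUp hft hw
  obtain ⟨X, q, i₁, i₂, hi₁, hi₂, h₁, h₂, hoc, hcov, hr⟩ :=
    FlatMor68.QuasiDomGlue.exists_pushout o c (b₁ ≫ g₁) (b₂ ≫ g₂) hS
  haveI := hi₁
  haveI := hi₂
  have hcl : IsClosed (Set.range (pullback.lift o c hS)) := by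
    let m := pullback.map (b₁ ≫ g₁) (b₂ ≫ g₂) g₁ g₂ b₁ b₂ (𝟙 S) (by simp) (by simp)
    haveI : IsSeparated (m ≫ pullback.fst g₁ g₂ ≫ g₁) := by
      rw [pullback.lift_fst_assoc, Category.assoc]; infer_instance
    haveI : IsSeparated m := IsSeparated.of_comp m (pullback.fst g₁ g₂ ≫ g₁)
    have hm : pullback.lift o c hS ≫ m = w ≫ γ.imageι := pullback.hom_ext
      (by simp only [m, Category.assoc, pullback.lift_fst, pullback.lift_fst_assoc]; exact hsq)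
      (by simp only [m, Category.assoc, pullback.lift_snd, pullback.lift_snd_assoc]; exact hc)
    haveI : IsProper (pullback.lift o c hS ≫ m) := by rw [hm]; infer_instance
    haveI : IsProper (pullback.lift o c hS) := IsProper.of_comp _ m
    exact (pullback.lift o c hS).isClosedMap.isClosed_range
  have hcl' : IsClosed (Set.range (pullback.lift c o hS.symm)) := by
    have e' : pullback.lift c o hS.symm = pullback.lift o c hS ≫ (pullbackSymmetry _ _).hom :=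
      pullback.hom_ext (by simp [pullback.lift_fst, pullback.lift_snd]) (by simp [pullback.lift_fst, pullback.lift_snd])
    rw [e', Scheme.Hom.comp_base, TopCat.coe_comp, Set.range_comp]
    exact (Scheme.Hom.homeomorph (pullbackSymmetry (b₁ ≫ g₁) (b₂ ≫ g₂)).hom).isClosedMap _ hcl
  have hsep : IsSeparated q := FlatMor68.QuasiDomGlue.isSeparated_of_two q i₁ i₂ hcov _ _ h₁ h₂ o c hoc hS
    (fun a ⟨b, hb⟩ => let ⟨x, hx, _⟩ := hr a b hb.symm; ⟨x, hx⟩) hcl c o hoc.symm hS.symm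
    (fun b ⟨a, ha⟩ => let ⟨x, _, hx⟩ := hr a b ha; ⟨x, hx⟩) hcl'
  haveI : LocallyOfFiniteType (i₁ ≫ q) := by rw [h₁]; infer_instance
  haveI : LocallyOfFiniteType (i₂ ≫ q) := by rw [h₂]; infer_instance
  have hlft : LocallyOfFiniteType q := FlatMor68.QuasiDomGlue.locallyOfFiniteType_of_two q i₁ i₂ hcov
  haveI : CompactSpace X₁' := QuasiCompact.compactSpace_of_compactSpace b₁
  haveI : CompactSpace X₂' := QuasiCompact.compactSpace_of_compactSpace b₂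
  haveI : CompactSpace X := by
    refine ⟨?_⟩
    convert (isCompact_range i₁.continuous).union (isCompact_range i₂.continuous)
    exact (Set.eq_univ_of_forall hcov).symm
  have hU₁ : ∀ t, j₁ t ∉ 𝓘₁.support := fun t ht => Set.disjoint_left.1 h𝓘₁.2 ht ⟨t, rfl⟩
  have hU₂ : ∀ t, j₂ t ∉ 𝓘₂.support := fun t ht => Set.disjoint_left.1 h𝓘₂.2 ht ⟨t, rfl⟩
  obtain ⟨uw, huw, -⟩ := hw.2 U γ.toImage (isEffCartier_comap_of_range_subset _ _ fun t ht => by
    rw [Scheme.IdealSheafData.support_mul] at ht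
    rcases ht with h | h
    · refine hK₁ _ h ?_
      rw [← Scheme.Hom.comp_apply, ht₂]
      exact ⟨t, rfl⟩
    · refine hK₂ _ h ?_
      rw [← Scheme.Hom.comp_apply, ht₁]
      exact ⟨t, rfl⟩)
  refine ⟨X, q, hsep, hlft, quasiCompact_of_compactSpace q, 𝓘₁, 𝓘₂, X₁', X₂', b₁, b₂, i₁, i₂, uw ≫ o, uw ≫ c,
    hb₁, h𝓘₁, hb₂, h𝓘₂, hi₁, hi₂, h₁, h₂, ?_, ?_, by simp only [Category.assoc, hoc]⟩
  · rw [Category.assoc, hsq, reassoc_of% huw, ht₁]
  · rw [Category.assoc, hc, reassoc_of% huw, ht₂]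

end Groth.Agent.FlatCrit65.Blow
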