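import Groth.Prelude.Def_BlowUp2
import Groth.Prelude.Def_Coh
import Groth.Agent.MP99.Ops
import Mathlib

/-!
The ideal of functions killed by a power of a finite type ideal sheaf.
-/

set_option autoImplicit false
set_option linter.style.haveILetI false
set_option backward.isDefEq.respectTransparency.types false

universe u

open CategoryTheory CategoryTheory.Limits AlgebraicGeometry TopologicalSpace Opposite

noncomputable section

namespace Groth.Agent.FlatCrit65.Blow

variable {X : Scheme.{u}}

/-- The functions on an affine open killed by a power of the ideal sheaf. -/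
def killedIdeal (E : X.IdealSheafData) (V : X.affineOpens) : Ideal Γ(X, V.1) :=
  ⨆ n : ℕ, Submodule.annihilator ((E ^ n).ideal V)

theorem mem_killedIdeal (E : X.IdealSheafData) (V : X.affineOpens) (a : Γ(X, V.1)) :
    a ∈ killedIdeal E V ↔ ∃ n : ℕ, ∀ c ∈ (E ^ n).ideal V, c * a = 0 := by
  have hdir : Directed (· ≤ ·) fun n : ℕ => Submodule.annihilator ((E ^ n).ideal V) := by
    refine Monotone.directed_le fun m n h => Submodule.annihilator_mono ?_
    rw [Scheme.IdealSheafData.ideal_pow, Scheme.IdealSheafData.ideal_pow, Pi.pow_apply, Pi.pow_apply]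
    exact Ideal.pow_le_pow_right h
  rw [killedIdeal, Submodule.mem_iSup_of_directed _ hdir]
  simp only [Submodule.mem_annihilator, smul_eq_mul, mul_comm a]

theorem mem_killedIdeal_iff (E : X.IdealSheafData) (V : X.affineOpens) (a : Γ(X, V.1)) :
    a ∈ killedIdeal E V ↔ BlowUp.KilledByPowerNear E (Coh.structureModule X) V a :=
  mem_killedIdeal E V a

/-- The quasi-coherent ideal sheaf of functions killed by a power of a finite type ideal sheaf. -/
def strictIdeal (E : X.IdealSheafData) (hE : BlowUp.IsFiniteTypeIdeal E) : X.IdealSheafData where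
  ideal V := killedIdeal E V
  map_ideal_basicOpen V f := by
    let res : Γ(X, V.1) →+* Γ(X, X.basicOpen f) := (X.presheaf.map (homOfLE (X.basicOpen_le f)).op).hom
    have hmap : ∀ n : ℕ, ((E ^ n).ideal V).map res = (E ^ n).ideal (X.affineBasicOpen f) := fun n =>
      (E ^ n).map_ideal_basicOpen V f
    refine le_antisymm (Ideal.map_le_iff_le_comap.2 fun a ha => ?_) fun b hb => ?_
    · rw [mem_killedIdeal] at ha
      obtain ⟨n, hn⟩ := ha
      refine (mem_killedIdeal _ _ _).2 ⟨n, fun c hc => ?_⟩
      rw [← hmap n] at hc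
      have hle : ((E ^ n).ideal V).map res ≤ (Submodule.span Γ(X, X.basicOpen f) {res a}).annihilator := by
        rw [Ideal.map_le_iff_le_comap]
        intro d hd
        show res d ∈ (Submodule.span Γ(X, X.basicOpen f) {res a}).annihilator
        rw [Submodule.mem_annihilator_span_singleton, smul_eq_mul, ← map_mul, hn d hd, map_zero]
      have := hle hc
      rw [Submodule.mem_annihilator_span_singleton, smul_eq_mul] at this
      exact this
    · obtain ⟨n, hn⟩ := (mem_killedIdeal _ _ _).1 hb
      letI : Algebra Γ(X, V.1) Γ(X, X.basicOpen f) := res.toAlgebra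
      haveI : IsLocalization.Away f Γ(X, X.basicOpen f) := V.2.isLocalization_basicOpen f
      obtain ⟨⟨a, ⟨_, k, rfl⟩⟩, hab⟩ := IsLocalization.surj (Submonoid.powers f) b
      obtain ⟨s, hs⟩ : ((E ^ n).ideal V).FG := by
        rw [Scheme.IdealSheafData.ideal_pow, Pi.pow_apply]
        exact (hE V).pow
      have key : ∀ g ∈ s, ∃ j : ℕ, f ^ j * (g * a) = 0 := fun g hg => by
        have hgb : res g * b = 0 := hn _ (hmap n ▸ Ideal.mem_map_of_mem res (hs ▸ Ideal.subset_span hg))
        have h0 : algebraMap Γ(X, V.1) Γ(X, X.basicOpen f) (g * a) = algebraMap Γ(X, V.1) Γ(X, X.basicOpen f) 0 := by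
          rw [map_zero, map_mul, ← hab, ← mul_assoc]
          show res g * b * _ = 0
          rw [hgb, zero_mul]
        obtain ⟨⟨_, j, rfl⟩, hj⟩ := (IsLocalization.eq_iff_exists (Submonoid.powers f) _).1 h0
        exact ⟨j, by simpa using hj⟩
      choose! j hj using key
      let J := s.sup j
      have hmem : f ^ J * a ∈ killedIdeal E V := by
        refine (mem_killedIdeal _ _ _).2 ⟨n, fun c hc => ?_⟩
        rw [← hs] at hc
        induction hc using Submodule.span_induction with
        | mem g hg =>
          rw [← Nat.sub_add_cancel (show j g ≤ J from Finset.le_sup (f := j) (Finset.mem_coe.1 hg)), pow_add]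
          calc g * (f ^ (J - j g) * f ^ j g * a) = f ^ (J - j g) * (f ^ j g * (g * a)) := by ring
            _ = 0 := by rw [hj g hg, mul_zero]
        | zero => rw [zero_mul]
        | add x y _ _ hx hy => rw [add_mul, hx, hy, add_zero]
        | smul r x _ hx => rw [smul_eq_mul, mul_assoc, hx, mul_zero]
      have hu : IsUnit (res (f ^ J) * res (f ^ k)) := by
        rw [← map_mul, ← pow_add, map_pow]
        exact (IsLocalization.Away.algebraMap_isUnit (S := Γ(X, X.basicOpen f)) f).pow _
      obtain ⟨u, hu⟩ := hu
      have hb' : b = (↑u⁻¹ : Γ(X, X.basicOpen f)) * res (f ^ J * a) := by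
        rw [Units.eq_inv_mul_iff_mul_eq, hu, map_mul, show res a = b * res (f ^ k) from hab.symm]
        ring
      rw [hb']
      exact Ideal.mul_mem_left _ _ (Ideal.mem_map_of_mem _ hmem)

theorem strictIdeal_iff (E : X.IdealSheafData) (hE : BlowUp.IsFiniteTypeIdeal E) (V : X.affineOpens) (a : Γ(X, V.1)) :
    a ∈ (strictIdeal E hE).ideal V ↔ BlowUp.KilledByPowerNear E (Coh.structureModule X) V a :=
  mem_killedIdeal_iff E V a

end Groth.Agent.FlatCrit65.Blow
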