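import Groth.Agent.FlatCrit65.Blow.MainScheme
import Groth.Agent.FlatCrit65.Blow.StrictIdeal
import Groth.Agent.H98Strict.Transform
import Groth.Agent.Div89.BlowUp
import Groth.Agent.S10855
import Mathlib

/-!
A separated morphism of finite type which is an isomorphism over an open becomes an open immersion after an
admissible blow-up.
-/

set_option autoImplicit false
set_option linter.style.haveILetI false
set_option backward.isDefEq.respectTransparency.types false

universe u

open CategoryTheory CategoryTheory.Limits AlgebraicGeometry TopologicalSpace Opposite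

noncomputable section

namespace Groth.Agent.FlatCrit65.Blow

/-- A flat separated morphism which is an isomorphism off an effective Cartier divisor of the target is a
monomorphism. -/
theorem mono_of_iso_off_cartier {Z T : Scheme.{u}} (q : Z ⟶ T) [Flat q] [IsSeparated q] (E : T.IdealSheafData)
    (hE : BlowUp.IsEffCartierIdeal E) [IsIso (q ∣_ E.support.compl)] : Mono q := by
  obtain ⟨hdom, haff⟩ := H98Strict.dominant_compl hE
  let O : T.Opens := E.support.compl
  let j := Scheme.Opens.ι O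
  haveI : IsSchemeTheoreticallyDominant j := hdom
  haveI : IsAffineHom j := haff
  rw [← pullback.isIso_diagonal_iff, IsClosedImmersion.isIso_iff_ker_eq_bot]
  let pr : pullback q q ⟶ T := pullback.fst q q ≫ q
  haveI : Flat pr := inferInstanceAs (Flat (pullback.fst q q ≫ q))
  let j' := pullback.snd j pr
  haveI : IsSchemeTheoreticallyDominant j' := inferInstance
  have hsq := isPullback_morphismRestrict q O
  have key : j' ≫ pullback.fst q q = j' ≫ pullback.snd q q := by
    have h1 : (j' ≫ pullback.fst q q) ≫ q = pullback.fst j pr ≫ j := by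
      rw [Category.assoc]; exact pullback.condition.symm
    have h2 : (j' ≫ pullback.snd q q) ≫ q = pullback.fst j pr ≫ j := by
      rw [Category.assoc, ← pullback.condition (f := q) (g := q)]; exact pullback.condition.symm
    let a := hsq.lift (pullback.fst j pr) (j' ≫ pullback.fst q q) h1.symm
    let b := hsq.lift (pullback.fst j pr) (j' ≫ pullback.snd q q) h2.symm
    have hab : a = b := by
      rw [← cancel_mono (q ∣_ O)]
      rw [IsPullback.lift_fst, IsPullback.lift_fst]
    calc j' ≫ pullback.fst q q = a ≫ (q ⁻¹ᵁ O).ι := (hsq.lift_snd _ _ _).symm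
      _ = b ≫ (q ⁻¹ᵁ O).ι := by rw [hab]
      _ = j' ≫ pullback.snd q q := hsq.lift_snd _ _ _
  have hfac : (j' ≫ pullback.fst q q) ≫ pullback.diagonal q = j' := by
    apply pullback.hom_ext
    · rw [Category.assoc, pullback.diagonal_fst, Category.comp_id]
    · rw [Category.assoc, pullback.diagonal_snd, Category.comp_id, key]
  have hle : (pullback.diagonal q).ker ≤ j'.ker := by
    calc (pullback.diagonal q).ker = Scheme.IdealSheafData.map ⊥ (pullback.diagonal q) :=
          (Scheme.IdealSheafData.map_bot _).symm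
      _ ≤ (j' ≫ pullback.fst q q).ker.map (pullback.diagonal q) := Scheme.IdealSheafData.map_mono _ bot_le
      _ = ((j' ≫ pullback.fst q q) ≫ pullback.diagonal q).ker := (Scheme.Hom.ker_comp _ _).symm
      _ = j'.ker := by rw [hfac]
  rw [j'.ker_eq_bot] at hle
  exact le_bot_iff.1 hle

/-- A closed subscheme with zero ideal over an open is everything there. -/
theorem isIso_subschemeι_restrict {X : Scheme.{u}} (𝒥 : X.IdealSheafData) (O : X.Opens)
    (h : ∀ V : X.affineOpens, V.1 ≤ O → 𝒥.ideal V = ⊥) : IsIso (𝒥.subschemeι ∣_ O) := by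
  rw [IsClosedImmersion.isIso_iff_ker_eq_bot]
  refine Scheme.IdealSheafData.ext (funext fun W => ?_)
  rw [Scheme.ker_morphismRestrict_ideal, Scheme.IdealSheafData.ideal_bot, Pi.bot_apply,
    Scheme.IdealSheafData.ker_subschemeι]
  exact h _ (O.ι_image_le _)

/-- The strict transform is an isomorphism over the complement of the exceptional divisor. -/
theorem isIso_strict_off_divisor {X S X' S' : Scheme.{u}} (f : X ⟶ S) (U : S.Opens) [IsIso (f ∣_ U)] (b : S' ⟶ S)
    (𝓘 : S.IdealSheafData) (hsupp : (𝓘.support : Set S) = (U : Set S)ᶜ) {p₁ : X' ⟶ X} {p₂ : X' ⟶ S'}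
    (H : IsPullback p₁ p₂ f b) (𝒥 : X'.IdealSheafData)
    (h𝒥 : ∀ (V : X'.affineOpens) (a : Γ(X', V.1)), a ∈ 𝒥.ideal V ↔
      BlowUp.KilledByPowerNear ((𝓘.comap f).comap p₁) (Coh.structureModule X') V a) :
    IsIso ((𝒥.subschemeι ≫ p₂) ∣_ (𝓘.comap b).support.compl) := by
  let O := (𝓘.comap b).support.compl
  have hO : O = b ⁻¹ᵁ U := by
    ext x
    show x ∈ ((𝓘.comap b).support : Set S')ᶜ ↔ b x ∈ (U : Set S)
    rw [Scheme.IdealSheafData.support_comap]
    show x ∈ (b ⁻¹' (𝓘.support : Set S))ᶜ ↔ _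
    rw [hsupp]
    simp
  haveI h2 : IsIso (p₂ ∣_ O) := by
    rw [hO]
    have sqf := isPullback_morphismRestrict f U
    have sqp := isPullback_morphismRestrict p₂ (b ⁻¹ᵁ U)
    have big : IsPullback ((p₂ ⁻¹ᵁ (b ⁻¹ᵁ U)).ι ≫ p₁) (p₂ ∣_ (b ⁻¹ᵁ U)) f ((b ⁻¹ᵁ U).ι ≫ b) :=
      sqp.flip.paste_horiz H
    rw [show (b ⁻¹ᵁ U).ι ≫ b = (b ∣_ U) ≫ U.ι from (morphismRestrict_ι b U).symm] at big
    have left := IsPullback.of_right' big sqf.flip
    haveI : MorphismProperty.isomorphisms Scheme.{u} (f ∣_ U) := ‹IsIso (f ∣_ U)›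
    exact (MorphismProperty.isomorphisms Scheme.{u}).of_isPullback left ‹_›
  haveI h1 : IsIso (𝒥.subschemeι ∣_ (p₂ ⁻¹ᵁ O)) := by
    refine isIso_subschemeι_restrict 𝒥 _ fun V hV => ?_
    rw [eq_bot_iff]
    intro a ha
    obtain ⟨n, hn⟩ := (h𝒥 V a).1 ha
    have htop : ((𝓘.comap f).comap p₁).ideal V = ⊤ := by
      rw [← Ideal.radical_eq_top, eq_top_iff]
      intro c _
      refine mem_radical_of_disjoint _ (U := V.1) ?_ V.2 (Scheme.basicOpen_le _ c)
      have hexc := exceptional_eq H 𝓘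
      unfold BlowUp.exceptional at hexc
      rw [hexc, Set.disjoint_left]
      intro x hx hxV
      rw [Scheme.IdealSheafData.support_comap] at hx
      exact hV hxV hx
    have h1 := hn 1 (by rw [Scheme.IdealSheafData.ideal_pow, Pi.pow_apply, htop, Ideal.top_pow]; trivial)
    change (1 : Γ(X', V.1)) * a = 0 at h1
    rw [one_mul] at h1
    exact h1
  rw [morphismRestrict_comp]
  exact @IsIso.comp_isIso _ _ _ _ _ _ _ h1 h2

/-- A separated morphism of finite type which is an isomorphism over a quasi-compact open becomes an open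
immersion after an admissible blow-up. -/
theorem exists_openImmersion_blowUp {X S : Scheme.{u}} [CompactSpace S] [QuasiSeparatedSpace S]
    (φ : X ⟶ S) [IsSeparated φ] [LocallyOfFiniteType φ] [QuasiCompact φ] (U : S.Opens) (hU : IsCompact (U : Set S))
    [IsIso (φ ∣_ U)] :
    ∃ (𝓘 : S.IdealSheafData) (S' : Scheme.{u}) (b : S' ⟶ S), BlowUp.IsBlowUp b 𝓘 ∧ BlowUp.IsAdmissibleFor U 𝓘 ∧
      (𝓘.support : Set S) = (U : Set S)ᶜ ∧
      ∀ (X' : Scheme.{u}) (p₁ : X' ⟶ X) (p₂ : X' ⟶ S'), IsPullback p₁ p₂ φ b →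
      ∀ (𝒥 : X'.IdealSheafData),
        (∀ (V : X'.affineOpens) (a : Γ(X', V.1)), a ∈ 𝒥.ideal V ↔
          BlowUp.KilledByPowerNear ((𝓘.comap φ).comap p₁) (Coh.structureModule X') V a) →
        IsOpenImmersion (𝒥.subschemeι ≫ p₂) ∧ IsIso ((𝒥.subschemeι ≫ p₂) ∣_ (𝓘.comap b).support.compl) := by
  obtain ⟨𝓘, S', b, hb, hadm, hsupp, h⟩ := exists_flattening_scheme_exact φ U hU
  refine ⟨𝓘, S', b, hb, hadm, hsupp, fun X' p₁ p₂ H 𝒥 h𝒥 => ?_⟩
  obtain ⟨hflat, hfp, -, -⟩ := h X' p₁ p₂ H 𝒥 h𝒥
  haveI := hflat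
  haveI := hfp
  haveI : IsSeparated p₂ := MorphismProperty.of_isPullback H ‹IsSeparated φ›
  haveI hiso := isIso_strict_off_divisor φ U b 𝓘 hsupp H 𝒥 h𝒥
  haveI := mono_of_iso_off_cartier (𝒥.subschemeι ≫ p₂) (𝓘.comap b) hb.1
  exact ⟨IsOpenImmersion.of_flat_of_mono _, hiso⟩

/-- A proper morphism which is an isomorphism over a quasi-compact open is dominated by an admissible blow-up. -/
theorem exists_dominating_blowUp {X S : Scheme.{u}} [CompactSpace S] [QuasiSeparatedSpace S]
    (φ : X ⟶ S) [IsProper φ] (U : S.Opens) (hU : IsCompact (U : Set S)) [IsIso (φ ∣_ U)] :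
    ∃ (𝓘 : S.IdealSheafData) (S' : Scheme.{u}) (b : S' ⟶ S), BlowUp.IsBlowUp b 𝓘 ∧ BlowUp.IsAdmissibleFor U 𝓘 ∧
      (𝓘.support : Set S) = (U : Set S)ᶜ ∧ ∃ h : S' ⟶ X, h ≫ φ = b := by
  obtain ⟨𝓘, S', b, hb, hadm, hsupp, h⟩ := exists_openImmersion_blowUp φ U hU
  refine ⟨𝓘, S', b, hb, hadm, hsupp, ?_⟩
  have H := IsPullback.of_hasPullback φ b
  have hft : BlowUp.IsFiniteTypeIdeal ((𝓘.comap φ).comap (pullback.fst φ b)) :=
    Div89.isFiniteTypeIdeal_comap _ (Div89.isFiniteTypeIdeal_comap _ hadm.1)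
  let 𝒥 := strictIdeal _ hft
  obtain ⟨hoi, hiso⟩ := h _ _ _ H 𝒥 (strictIdeal_iff _ hft)
  let q := 𝒥.subschemeι ≫ pullback.snd φ b
  haveI : IsOpenImmersion q := hoi
  haveI : IsProper (pullback.snd φ b) := inferInstance
  haveI : IsProper q := inferInstanceAs (IsProper (𝒥.subschemeι ≫ pullback.snd φ b))
  haveI hIsoO : IsIso (q ∣_ (𝓘.comap b).support.compl) := hiso
  haveI : Surjective q := ⟨fun y => by
    obtain ⟨hdom, haff⟩ := H98Strict.dominant_compl hb.1
    let O : S'.Opens := (𝓘.comap b).support.compl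
    haveI : IsSchemeTheoreticallyDominant O.ι := hdom
    haveI : IsAffineHom O.ι := haff
    have hclosed : IsClosed (Set.range q) := q.isClosedMap.isClosed_range
    have hsub : (O : Set S') ⊆ Set.range q := fun x hx => by
      obtain ⟨z, hz⟩ := (q ∣_ O).homeomorph.surjective ⟨x, hx⟩
      exact ⟨(q ⁻¹ᵁ O).ι z, by
        rw [← Scheme.Hom.comp_apply, ← morphismRestrict_ι q O, Scheme.Hom.comp_apply]
        exact congrArg Subtype.val hz⟩
    have hdense : Dense (O : Set S') := by
      have := (inferInstance : IsDominant O.ι).1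
      rwa [DenseRange, Scheme.Opens.range_ι] at this
    have : Set.range q = Set.univ := by
      rw [← hclosed.closure_eq]
      exact Set.univ_subset_iff.1 (hdense.closure_eq ▸ closure_mono hsub)
    exact Set.range_eq_univ.1 this y⟩
  haveI : IsIso q := IsOpenImmersion.isIso q
  refine ⟨inv q ≫ 𝒥.subschemeι ≫ pullback.fst φ b, ?_⟩
  rw [Category.assoc, Category.assoc, IsIso.inv_comp_eq, pullback.condition, ← Category.assoc]

end Groth.Agent.FlatCrit65.Blow
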