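import Groth.Agent.H98Strict.Separate
import Groth.Agent.H98Strict.Admissible
import Groth.Agent.FlatCrit65.Blow.OpenImm
import Groth.Agent.Div89.BlowUp
import Mathlib

/-!
Separating two closed constructible subsets of an open by an admissible blow-up.
-/

set_option autoImplicit false
set_option linter.style.haveILetI false
set_option backward.isDefEq.respectTransparency.types false

universe u

open CategoryTheory CategoryTheory.Limits AlgebraicGeometry TopologicalSpace Topology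

noncomputable section

namespace Groth.Agent.FlatCrit65.Blow

theorem isCompact_of_isConstructible' {Y : Scheme.{u}} [CompactSpace Y] [QuasiSeparatedSpace Y] {s : Set Y}
    (hs : IsConstructible s) : IsCompact s := by
  haveI : Nonempty Y.affineOpens := ⟨⟨⊥, isAffineOpen_bot Y⟩⟩
  refine IsConstructible.induction_of_isTopologicalBasis (fun W : Y.affineOpens => (W.1 : Set Y)) ?_
    (fun W => W.2.isCompact) ?_ (fun s _ t _ h₁ h₂ => h₁.union h₂) s hs
  · have h := Y.isBasis_affineOpens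
    unfold Opens.IsBasis at h
    rwa [show Set.range (fun W : Y.affineOpens => (W.1 : Set Y)) = SetLike.coe '' Y.affineOpens from
      Set.ext fun _ => ⟨fun ⟨W, hW⟩ => ⟨W.1, W.2, hW⟩, fun ⟨W, hW, he⟩ => ⟨⟨W, hW⟩, he⟩⟩]
  · intro W t _
    exact IsCompact.diff W.2.isCompact (isOpen_biUnion fun j _ => j.1.2)

theorem exists_separating_blowUp {X : Scheme.{u}} [CompactSpace X] [QuasiSeparatedSpace X]
    (U : X.Opens) (hU : IsCompact (U : Set X)) (T₁ T₂ : Set U)
    (h₁ : IsClosed T₁) (h₂ : IsClosed T₂) (c₁ : IsConstructible T₁) (c₂ : IsConstructible T₂) (hd : Disjoint T₁ T₂) :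
    ∃ (𝓘 : X.IdealSheafData) (X' : Scheme.{u}) (b : X' ⟶ X), BlowUp.IsBlowUp b 𝓘 ∧ BlowUp.IsAdmissibleFor U 𝓘 ∧
      Disjoint (closure (b.base ⁻¹' (Subtype.val '' T₁))) (closure (b.base ⁻¹' (Subtype.val '' T₂))) := by
  haveI : CompactSpace U.toScheme := isCompact_iff_compactSpace.1 hU
  haveI : QuasiSeparatedSpace U.toScheme := quasiSeparatedSpace_of_quasiSeparated U.ι
  have key : ∀ T : Set U, IsClosed T → IsConstructible T → ∃ J : X.IdealSheafData,
      BlowUp.IsFiniteTypeIdeal J ∧ (J.support : Set X) = (U : Set X)ᶜ ∪ Subtype.val '' T := by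
    intro T hT hTc
    have hc : IsCompact (Tᶜ) := isCompact_of_isConstructible' (Y := U.toScheme) hTc.compl
    let O : X.Opens := ⟨Subtype.val '' Tᶜ, U.2.isOpenMap_subtype_val _ hT.isOpen_compl⟩
    obtain ⟨J, hJ, hJs⟩ := H98Strict.exists_ideal_support O (hc.image continuous_subtype_val)
    refine ⟨J, hJ, hJs.trans ?_⟩
    ext x
    show ¬ (∃ y : U, y ∈ Tᶜ ∧ y.1 = x) ↔ x ∈ (U : Set X)ᶜ ∪ Subtype.val '' T
    by_cases hx : x ∈ U
    · constructor
      · intro h
        refine Or.inr ⟨⟨x, hx⟩, ?_, rfl⟩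
        by_contra hxT
        exact h ⟨⟨x, hx⟩, hxT, rfl⟩
      · rintro (h | ⟨y, hy, rfl⟩)
        · exact absurd hx h
        · rintro ⟨z, hz, hzy⟩
          exact hz (Subtype.ext hzy ▸ hy)
    · refine iff_of_true ?_ (Or.inl hx)
      rintro ⟨y, -, rfl⟩
      exact hx y.2
  obtain ⟨J₁, hJ₁, hs₁⟩ := key T₁ h₁ c₁
  obtain ⟨J₂, hJ₂, hs₂⟩ := key T₂ h₂ c₂
  have hadm : BlowUp.IsAdmissibleFor U (J₁ ⊔ J₂) := by
    refine ⟨fun W => ?_, ?_⟩
    · rw [Scheme.IdealSheafData.ideal_sup, Pi.sup_apply]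
      exact Submodule.FG.sup (hJ₁ W) (hJ₂ W)
    · rw [Scheme.IdealSheafData.support_sup, Set.disjoint_left]
      rintro x ⟨hx1, hx2⟩ hxU
      rw [hs₁] at hx1
      rw [hs₂] at hx2
      rcases hx1 with h | ⟨y, hy, rfl⟩
      · exact h hxU
      rcases hx2 with h | ⟨z, hz, hzy⟩
      · exact h hxU
      exact Set.disjoint_left.1 hd hy (Subtype.ext hzy ▸ hz)
  obtain ⟨X', b, hb⟩ := FBlow13.exists_isBlowUp_scheme X (J₁ ⊔ J₂)
  refine ⟨J₁ ⊔ J₂, X', b, hb, hadm, ?_⟩
  have hnot : ∀ (T : Set U) (w : X'), b w ∈ Subtype.val '' T → b w ∉ (J₁ ⊔ J₂).support := by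
    rintro T w ⟨y, -, hy⟩ h
    exact Set.disjoint_left.1 hadm.2 h (hy ▸ y.2)
  have h := H98Strict.inter_closure_eq_empty (𝟙 X) b (𝟙 X') b (by simp) (J₁ ⊔ J₂) J₁ J₂ le_sup_left
    (by simp only [Scheme.IdealSheafData.comap_id]; exact le_refl _) hb.1
    (b.base ⁻¹' (Subtype.val '' T₁))
    (fun w hw => ⟨hs₁.ge (Or.inr hw), hnot T₁ w hw⟩)
    (b.base ⁻¹' (Subtype.val '' T₂))
    (fun w hw => ⟨hs₂.ge (Or.inr hw), hnot T₂ w hw⟩)
  rw [Set.disjoint_iff_inter_eq_empty]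
  simpa using h

end Groth.Agent.FlatCrit65.Blow
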