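import Groth.Agent.FlatCrit65.Blow.StrictClosure
import Groth.Agent.FlatCrit65.Blow.Composite
import Groth.Agent.FlatCrit65.Blow.Separate
import Groth.Agent.Div89.IdealExtend
import Mathlib

/-!
A proper morphism which is an isomorphism near a closed subset of an open becomes an isomorphism near its closure
after an admissible blow-up.
-/

set_option autoImplicit false
set_option linter.style.haveILetI false
set_option backward.isDefEq.respectTransparency.types false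

universe u

open CategoryTheory CategoryTheory.Limits AlgebraicGeometry TopologicalSpace Topology

noncomputable section

namespace Groth.Agent.FlatCrit65.Blow

/-- Between a compact set and an open containing it there is a quasi-compact open. -/
theorem exists_isCompact_between {Y : Scheme.{u}} {K : Set Y} (hK : IsCompact K) {O : Y.Opens} (h : K ⊆ O) :
    ∃ Q : Y.Opens, K ⊆ Q ∧ Q ≤ O ∧ IsCompact (Q : Set Y) := by
  classical
  choose A hA hAO using fun x : K => MP99.exists_affine_le x.1 (W := O) (h x.2)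
  obtain ⟨t, ht⟩ := hK.elim_finite_subcover (fun x : K => ((A x).1 : Set Y)) (fun x => (A x).1.2)
    fun x hx => Set.mem_iUnion.2 ⟨⟨x, hx⟩, hA _⟩
  refine ⟨⨆ x ∈ t, (A x).1, fun x hx => ?_, iSup₂_le fun x _ => hAO x, ?_⟩
  · obtain ⟨i, hi, hxi⟩ := Set.mem_iUnion₂.1 (ht hx)
    exact Opens.mem_iSup.2 ⟨i, Opens.mem_iSup.2 ⟨hi, hxi⟩⟩
  · simp only [Opens.coe_iSup]
    exact t.finite_toSet.isCompact_biUnion fun x _ => (A x).2.isCompact

/-- A closed subscheme with zero ideal over an open, restricted twice. -/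
theorem isIso_subschemeι_restrict_of_restrict {X : Scheme.{u}} (𝒥 : X.IdealSheafData) (O : X.Opens)
    (O' : O.toScheme.Opens) (h : ∀ D : X.affineOpens, D.1 ≤ O.ι ''ᵁ O' → 𝒥.ideal D = ⊥) :
    IsIso ((𝒥.subschemeι ∣_ O) ∣_ O') := by
  haveI := isIso_subschemeι_restrict 𝒥 (O.ι ''ᵁ O') h
  exact ((MorphismProperty.isomorphisms Scheme.{u}).arrow_mk_iso_iff
    (morphismRestrictRestrict 𝒥.subschemeι O O')).2 (show IsIso _ from inferInstance)

/-- The blown up base: an open around the closure of `T` with a section of the pullback of `f`. -/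
theorem exists_blowUp_section {X Y : Scheme.{u}} [CompactSpace Y] [QuasiSeparatedSpace Y]
    (f : X ⟶ Y) [IsProper f] (V : Y.Opens) (hV : IsCompact (V : Set Y)) (T : Set Y) (hTV : T ⊆ V)
    (hT : IsClosed (Subtype.val ⁻¹' T : Set V)) (W : Y.Opens) (hTW : T ⊆ W) [IsIso (f ∣_ W)] :
    ∃ (𝓘 : Y.IdealSheafData) (Y' : Scheme.{u}) (b : Y' ⟶ Y), BlowUp.IsBlowUp b 𝓘 ∧ BlowUp.IsAdmissibleFor V 𝓘 ∧
      (𝓘.support : Set Y) = (V : Set Y)ᶜ ∧
      ∃ W' : Y'.Opens, closure (b.base ⁻¹' T) ⊆ W' ∧ (∀ y ∈ W', b y ∈ V → b y ∈ W) ∧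
        ∃ t : W'.toScheme ⟶ X, t ≫ f = W'.ι ≫ b := by
  haveI : CompactSpace V.toScheme := isCompact_iff_compactSpace.1 hV
  haveI : QuasiSeparatedSpace V.toScheme := quasiSeparatedSpace_of_quasiSeparated V.ι
  have hTc : IsCompact T := by
    have h : IsCompact (Subtype.val '' (Subtype.val ⁻¹' T : Set V)) :=
      (IsClosed.isCompact (X := V.toScheme) hT).image continuous_subtype_val
    have e : Subtype.val '' (Subtype.val ⁻¹' T : Set V) = T :=
      Set.ext fun y => ⟨fun ⟨z, hz, hzy⟩ => hzy ▸ hz, fun hy => ⟨⟨y, hTV hy⟩, hy, rfl⟩⟩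
    exact e ▸ h
  obtain ⟨Wq, hTWq, hWqW, hWqc⟩ := exists_isCompact_between hTc hTW
  have hVW : IsCompact ((V : Set Y) \ (Wq : Set Y)) := IsCompact.diff hV Wq.2
  let NT : Y.Opens := ⟨Subtype.val '' (Subtype.val ⁻¹' T : Set V)ᶜ, V.2.isOpenMap_subtype_val _ hT.isOpen_compl⟩
  obtain ⟨Q, hQ, hQNT, hQc⟩ := exists_isCompact_between hVW (O := NT) fun y hy =>
    ⟨⟨y, hy.1⟩, fun h => hy.2 (hTWq h), rfl⟩
  have hcons : ∀ O : Y.Opens, IsCompact (O : Set Y) → IsConstructible ((Subtype.val ⁻¹' (O : Set Y))ᶜ : Set V) := by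
    intro O hO
    refine IsConstructible.compl (IsCompact.isConstructible (X := V.toScheme) ?_ (O.2.preimage continuous_subtype_val))
    refine V.ι.isOpenEmbedding.isEmbedding.isCompact_iff.2 ?_
    change IsCompact (V.ι '' (V.ι ⁻¹' (O : Set Y)))
    rw [Set.image_preimage_eq_inter_range, Scheme.Opens.range_ι]
    exact hO.inter_of_isOpen hV O.2 V.2
  obtain ⟨I₁, Y₁, b₁, hb₁, hI₁, hdisj⟩ := exists_separating_blowUp V hV (Subtype.val ⁻¹' (Q : Set Y))ᶜ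
    (Subtype.val ⁻¹' (Wq : Set Y))ᶜ (Q.2.preimage continuous_subtype_val).isClosed_compl
    (Wq.2.preimage continuous_subtype_val).isClosed_compl (hcons Q hQc) (hcons Wq hWqc)
    (Set.disjoint_left.2 fun x hxQ hxW => hxQ (hQ ⟨x.2, hxW⟩))
  set C₁ := closure (b₁.base ⁻¹' (Subtype.val '' ((Subtype.val ⁻¹' (Q : Set Y))ᶜ : Set V))) with hC₁
  set C₂ := closure (b₁.base ⁻¹' (Subtype.val '' ((Subtype.val ⁻¹' (Wq : Set Y))ᶜ : Set V))) with hC₂
  haveI : IsProper b₁ := RegImm10.BlowModel.isProper_of_isBlowUp hI₁.1 hb₁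
  haveI : CompactSpace Y₁ := QuasiCompact.compactSpace_of_compactSpace b₁
  haveI : QuasiSeparatedSpace Y₁ := quasiSeparatedSpace_of_quasiSeparated b₁
  obtain ⟨W₁, hC₁W, hW₁C, hW₁c⟩ := exists_isCompact_between (K := C₁) isClosed_closure.isCompact
    (O := ⟨C₂ᶜ, isClosed_closure.isOpen_compl⟩) fun y hy h => Set.disjoint_left.1 hdisj hy h
  have hW₁V : ∀ y ∈ W₁, b₁ y ∈ V → b₁ y ∈ Wq := fun y hy hyV => by
    by_contra h
    exact hW₁C hy (subset_closure ⟨⟨b₁ y, hyV⟩, h, rfl⟩)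
  haveI : CompactSpace W₁.toScheme := isCompact_iff_compactSpace.1 hW₁c
  haveI : QuasiSeparatedSpace W₁.toScheme := quasiSeparatedSpace_of_quasiSeparated W₁.ι
  let O₁ : W₁.toScheme.Opens := W₁.ι ⁻¹ᵁ (b₁ ⁻¹ᵁ V)
  have hO₁ : IsCompact (O₁ : Set W₁.toScheme) := by
    rw [W₁.ι.isOpenEmbedding.isEmbedding.isCompact_iff]
    change IsCompact (W₁.ι '' (W₁.ι ⁻¹' (b₁ ⁻¹ᵁ V : Y₁.Opens)))
    rw [Set.image_preimage_eq_inter_range, Scheme.Opens.range_ι]
    exact (b₁.isCompact_preimage hV).inter_of_isOpen hW₁c (b₁ ⁻¹ᵁ V).2 W₁.2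
  let f₁ := pullback.snd f (W₁.ι ≫ b₁)
  haveI : IsIso (f₁ ∣_ O₁) :=
    isIso_baseChange_restrict (U := W) (IsPullback.of_hasPullback f (W₁.ι ≫ b₁)) fun y hy => hWqW (hW₁V y.1 y.2 hy)
  obtain ⟨I₂', W₂, bW, hbW, hI₂', -, σ, hσ⟩ := exists_dominating_blowUp f₁ O₁ hO₁
  obtain ⟨I₂, hI₂, hI₂W⟩ := Div89.exists_admissible_extension (b₁ ⁻¹ᵁ V) W₁ (b₁.isCompact_preimage hV) hW₁c I₂' hI₂'
  obtain ⟨Y₂, b₂, hb₂⟩ := FBlow13.exists_isBlowUp_scheme Y₁ I₂
  have hb₂W := RegImm10.BlowModel.isBlowUp_morphismRestrict hb₂ W₁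
  rw [hI₂W] at hb₂W
  obtain ⟨k, hk, -⟩ := hbW.2 _ (b₂ ∣_ W₁) hb₂W.1
  obtain ⟨K₀, hK₀b, hK₀⟩ := exists_admissible_comp hI₁ hb₁ I₂ hI₂ hb₂
  obtain ⟨A, hA, hAs⟩ := H98Strict.exists_ideal_support V hV
  obtain ⟨Y₃, b₃, hb₃⟩ := FBlow13.exists_isBlowUp_scheme Y₂ (A.comap (b₂ ≫ b₁))
  have hsupp : ((K₀ * A).support : Set Y) = (V : Set Y)ᶜ := by
    rw [Scheme.IdealSheafData.support_mul, Closeds.coe_sup, hAs, Set.union_eq_right]
    exact fun y hy hyV => Set.disjoint_left.1 hK₀.2 hy hyV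
  let c := b₃ ≫ b₂
  refine ⟨K₀ * A, Y₃, b₃ ≫ b₂ ≫ b₁, Div89.isBlowUp_comp hK₀b hb₃, ⟨fun O => ?_, ?_⟩, hsupp, c ⁻¹ᵁ W₁, ?_, ?_, ?_⟩
  · rw [Scheme.IdealSheafData.ideal_mul]; exact (hK₀.1 O).mul (hA O)
  · rw [hsupp]; exact Set.disjoint_left.2 fun y hy hyV => hy hyV
  · refine subset_trans ?_ (show c ⁻¹' C₁ ⊆ _ from fun y hy => hC₁W hy)
    refine closure_minimal (fun y hy => ?_) (isClosed_closure.preimage c.continuous)
    refine subset_closure ⟨⟨_, hTV hy⟩, fun hQy => ?_, ?_⟩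
    · obtain ⟨z, hz, hzy⟩ := hQNT hQy
      exact hz (show z.1 ∈ T from hzy ▸ hy)
    · simp [c]
  · intro y hy hyV
    exact hWqW (hW₁V (c y) hy (by simpa [c] using hyV))
  · refine ⟨(b₃ ∣_ (b₂ ⁻¹ᵁ W₁)) ≫ k ≫ σ ≫ pullback.fst f (W₁.ι ≫ b₁), ?_⟩
    simp only [Category.assoc, pullback.condition]
    rw [reassoc_of% hσ, reassoc_of% hk, morphismRestrict_ι_assoc]
    exact morphismRestrict_ι_assoc b₃ (b₂ ⁻¹ᵁ W₁) (b₂ ≫ b₁)

/-- A proper morphism which is an isomorphism near `T` becomes an isomorphism near its closure. -/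
theorem exists_iso_near_closure {X Y : Scheme.{u}} [CompactSpace Y] [QuasiSeparatedSpace Y]
    (f : X ⟶ Y) [IsProper f] (V : Y.Opens) (hV : IsCompact (V : Set Y)) (T : Set Y) (hTV : T ⊆ V)
    (hT : IsClosed (Subtype.val ⁻¹' T : Set V)) (W : Y.Opens) (hTW : T ⊆ W) [IsIso (f ∣_ W)] :
    ∃ (𝓘 : Y.IdealSheafData) (Y' : Scheme.{u}) (b : Y' ⟶ Y), BlowUp.IsBlowUp b 𝓘 ∧ BlowUp.IsAdmissibleFor V 𝓘 ∧
      ∀ (X' : Scheme.{u}) (p₁ : X' ⟶ X) (p₂ : X' ⟶ Y'), IsPullback p₁ p₂ f b →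
      ∀ (𝒥 : X'.IdealSheafData),
        (∀ (W : X'.affineOpens) (a : Γ(X', W.1)), a ∈ 𝒥.ideal W ↔
          BlowUp.KilledByPowerNear ((𝓘.comap f).comap p₁) (Coh.structureModule X') W a) →
        ∃ W' : Y'.Opens, closure (b.base ⁻¹' T) ⊆ W' ∧ IsIso ((𝒥.subschemeι ≫ p₂) ∣_ W') := by
  obtain ⟨𝓘, Y', b, hb, hadm, hsupp, W', hW', hWW, t, ht⟩ := exists_blowUp_section f V hV T hTV hT W hTW
  refine ⟨𝓘, Y', b, hb, hadm, fun X' p₁ p₂ H 𝒥 h𝒥 => ⟨W', hW', ?_⟩⟩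
  haveI : IsSeparated p₂ := MorphismProperty.of_isPullback H (inferInstanceAs (IsSeparated f))
  have hexc : (𝓘.comap f).comap p₁ = (𝓘.comap b).comap p₂ := by
    rw [← Scheme.IdealSheafData.comap_comp, H.w, Scheme.IdealSheafData.comap_comp]
  rw [hexc] at h𝒥
  let q := 𝒥.subschemeι ≫ p₂
  let E := (𝓘.comap b).comap W'.ι
  have hE : BlowUp.IsEffCartierIdeal E := MP99.isEffCartier_comap_isOpenImmersion hb.1 W'.ι
  have hO : E.support.compl ≤ (W'.ι ≫ b) ⁻¹ᵁ W := fun y hy => by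
    refine hWW _ y.2 ?_
    by_contra h
    refine hy ?_
    rw [Scheme.IdealSheafData.support_comap, Scheme.IdealSheafData.support_comap]
    show b y.1 ∈ (𝓘.support : Set Y)
    rw [hsupp]
    exact h
  have HW : IsPullback ((p₂ ⁻¹ᵁ W').ι ≫ p₁) (p₂ ∣_ W') f (W'.ι ≫ b) :=
    (isPullback_morphismRestrict p₂ W').flip.paste_horiz H
  haveI := isIso_baseChange_restrict (U := W) HW hO
  let ι' := 𝒥.subschemeι ∣_ (p₂ ⁻¹ᵁ W')
  have hq : q ∣_ W' = ι' ≫ (p₂ ∣_ W') := morphismRestrict_comp _ _ _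
  have hEZ0 : BlowUp.IsEffCartierIdeal (E.comap (q ∣_ W')) := by
    rw [← Scheme.IdealSheafData.comap_comp, morphismRestrict_ι, Scheme.IdealSheafData.comap_comp]
    exact MP99.isEffCartier_comap_isOpenImmersion (isEffCartier_comap_strict p₂ _ hb.1 𝒥 h𝒥) _
  have hEZ : BlowUp.IsEffCartierIdeal (E.comap (ι' ≫ (p₂ ∣_ W'))) := by
    rw [← hq]
    exact hEZ0
  haveI h2 : IsIso ((ι' ≫ (p₂ ∣_ W')) ∣_ E.support.compl) := by
    haveI h1 : IsIso (ι' ∣_ ((p₂ ∣_ W') ⁻¹ᵁ E.support.compl)) := by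
      refine isIso_subschemeι_restrict_of_restrict 𝒥 (p₂ ⁻¹ᵁ W') _ fun D hD => ?_
      rw [eq_bot_iff]
      intro a ha
      obtain ⟨n, hn⟩ := (h𝒥 D a).1 ha
      have htop : ((𝓘.comap b).comap p₂).ideal D = ⊤ := by
        rw [← Ideal.radical_eq_top, eq_top_iff]
        intro c _
        refine mem_radical_of_disjoint _ (U := D.1) ?_ D.2 (Scheme.basicOpen_le _ c)
        rw [Set.disjoint_left]
        intro x hx hxD
        obtain ⟨w, hw, hwx⟩ := hD hxD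
        refine hw ?_
        rw [Scheme.IdealSheafData.support_comap] at hx
        show (p₂ ∣_ W') w ∈ E.support
        rw [Scheme.IdealSheafData.support_comap]
        show W'.ι ((p₂ ∣_ W') w) ∈ (𝓘.comap b).support
        rw [← Scheme.Hom.comp_apply, morphismRestrict_ι, Scheme.Hom.comp_apply]
        subst hwx
        exact hx
      have h1 := hn 1 (by rw [Scheme.IdealSheafData.ideal_pow, Pi.pow_apply, htop, Ideal.top_pow]; trivial)
      change (1 : Γ(X', D.1)) * a = 0 at h1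
      rw [one_mul] at h1
      exact h1
    rw [morphismRestrict_comp]
    exact @IsIso.comp_isIso _ _ _ _ _ _ _ h1 ‹_›
  rw [hq]
  exact isIso_of_section ι' (p₂ ∣_ W') E hE hEZ (HW.lift t (𝟙 _) (by rw [ht, Category.id_comp])) (HW.lift_snd _ _ _)

end Groth.Agent.FlatCrit65.Blow
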