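import Groth.Agent.FlatCrit65.Blow.Main
import Groth.Agent.FlatCrit65.Blow.AlgebraChart
import Groth.Agent.H98Strict.Admissible
import Mathlib

/-!
Flattening the strict transform of a scheme by an admissible blow-up.
-/

set_option autoImplicit false
set_option linter.style.haveILetI false
set_option backward.isDefEq.respectTransparency.types false

universe u

open CategoryTheory CategoryTheory.Limits AlgebraicGeometry TopologicalSpace Opposite TensorProduct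

noncomputable section

namespace Groth.Agent.FlatCrit65.Blow

variable {X S : Scheme.{u}} (f : X ⟶ S) (U : S.Opens)

/-- Over the open the chart algebras are flat and finitely presented. -/
theorem flat_fp_appLE [Flat (f ∣_ U)] [LocallyOfFinitePresentation (f ∣_ U)] {V : S.Opens} (hV : IsAffineOpen V)
    {D : X.Opens} (hD : IsAffineOpen D) (hDV : D ≤ f ⁻¹ᵁ V) (hle : D ≤ f ⁻¹ᵁ U) :
    (f.appLE V D hDV).hom.Flat ∧ (f.appLE V D hDV).hom.FinitePresentation := by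
  let ι := (f ⁻¹ᵁ U).ι
  let h := ι ≫ f
  haveI : Flat h := by
    rw [show h = (f ∣_ U) ≫ U.ι from (morphismRestrict_ι f U).symm]
    infer_instance
  haveI : LocallyOfFinitePresentation h := by
    rw [show h = (f ∣_ U) ≫ U.ι from (morphismRestrict_ι f U).symm]
    infer_instance
  have hr : D ≤ ι.opensRange := by rw [(f ⁻¹ᵁ U).opensRange_ι]; exact hle
  let D' := ι ⁻¹ᵁ D
  have hD' : IsAffineOpen D' := hD.preimage_of_isOpenImmersion ι hr
  have e : D' ≤ h ⁻¹ᵁ V := fun x hx => hDV hx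
  haveI : IsIso (ι.app D) := ι.isIso_app D hr
  haveI : IsIso (ι.appLE D D' le_rfl) := by rw [Scheme.Hom.appLE_eq_app]; infer_instance
  have heq : h.appLE V D' e = f.appLE V D hDV ≫ ι.appLE D D' le_rfl := by
    rw [Scheme.Hom.appLE_comp_appLE]
  have h1 := h.flat_appLE hV hD' e
  have h2 := h.finitePresentation_appLE hV hD' e
  rw [heq] at h1 h2
  exact ⟨(RingHom.Flat.respectsIso.cancel_right_isIso _ _).1 h1,
    (RingHom.finitePresentation_respectsIso.cancel_right_isIso _ _).1 h2⟩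

/-- The ideal of a chart of a morphism of finite type. -/
theorem exists_chart_algebra [LocallyOfFiniteType f] [Flat (f ∣_ U)] [LocallyOfFinitePresentation (f ∣_ U)]
    {V : S.Opens} (hV : IsAffineOpen V) {W : X.Opens} (hW : IsAffineOpen W) (hWV : W ≤ f ⁻¹ᵁ V)
    (𝔞 : Ideal Γ(S, V)) (h𝔞 : 𝔞.FG) (h𝔞U : ∀ g ∈ 𝔞, S.basicOpen g ≤ U) :
    ∃ J : Ideal Γ(S, V), J.FG ∧ J.radical = 𝔞.radical ∧ ∀ L : Ideal Γ(S, V), L.FG → (J * L).radical = 𝔞.radical →
      letI : Algebra Γ(S, V) Γ(X, W) := (f.appLE V W hWV).hom.toAlgebra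
      ∀ (T B : Type u) [CommRing T] [CommRing B] [Algebra Γ(S, V) T] [Algebra T B] [Algebra Γ(S, V) B]
        [Algebra Γ(X, W) B] [IsScalarTower Γ(S, V) T B] [IsScalarTower Γ(S, V) Γ(X, W) B]
        [Algebra.IsPushout Γ(S, V) T Γ(X, W) B] (g : T),
        IsSMulRegular T g → (J * L).map (algebraMap Γ(S, V) T) = Ideal.span {g} →
          Module.Flat T (B ⧸ FlatCA.powTorsion B (algebraMap T B g) B) ∧
          Algebra.FinitePresentation T (B ⧸ FlatCA.powTorsion B (algebraMap T B g) B) := by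
  letI : Algebra Γ(S, V) Γ(X, W) := (f.appLE V W hWV).hom.toAlgebra
  haveI : Algebra.FiniteType Γ(S, V) Γ(X, W) := f.finiteType_appLE hV hW hWV
  refine exists_flattening_algebra 𝔞 h𝔞 fun g hg => ?_
  let a : Γ(X, W) := (f.appLE V W hWV).hom g
  have hle : X.basicOpen a ≤ f ⁻¹ᵁ U := by
    rw [Scheme.basicOpen_appLE]
    exact inf_le_right.trans fun x hx => h𝔞U g hg hx
  letI := Props58.LocFree.resAlg (X.basicOpen_le a)
  obtain ⟨h1, h2⟩ := flat_fp_appLE f U hV (hW.basicOpen a) ((X.basicOpen_le a).trans hWV) hle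
  rw [← f.appLE_map hWV (homOfLE (X.basicOpen_le a)).op, CommRingCat.hom_comp] at h1 h2
  exact ⟨Γ(X, X.basicOpen a), inferInstance, inferInstance, Props58.LocFree.isLocalization_resAlg hW a, h2, h1⟩

/-- The closed subscheme on a chart. -/
theorem subscheme_chart {X' S' : Scheme.{u}} (p₂ : X' ⟶ S') (𝒥 : X'.IdealSheafData) {V' : S'.Opens} {W' : X'.Opens}
    (hW' : IsAffineOpen W') (e : W' ≤ p₂ ⁻¹ᵁ V')
    (e' : 𝒥.subschemeι ⁻¹ᵁ W' ≤ (𝒥.subschemeι ≫ p₂) ⁻¹ᵁ V') :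
    ∃ φ : Γ(X', W') ⧸ 𝒥.ideal ⟨W', hW'⟩ ≃+* Γ(𝒥.subscheme, 𝒥.subschemeι ⁻¹ᵁ W'),
      ((𝒥.subschemeι ≫ p₂).appLE V' (𝒥.subschemeι ⁻¹ᵁ W') e').hom =
        φ.toRingHom.comp ((Ideal.Quotient.mk _).comp (p₂.appLE V' W' e).hom) := by
  refine ⟨(𝒥.subschemeObjIso ⟨W', hW'⟩).commRingCatIsoToRingEquiv.symm, ?_⟩
  rw [← Scheme.Hom.appLE_comp_appLE 𝒥.subschemeι p₂ V' W' (𝒥.subschemeι ⁻¹ᵁ W') e le_rfl, Scheme.Hom.appLE_eq_app,
    𝒥.subschemeι_app ⟨W', hW'⟩]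
  rfl

/-- Flattening the strict transform of a scheme by a blow-up whose centre has support exactly the complement of
the open. -/
theorem exists_flattening_scheme_exact_flat [CompactSpace S] [QuasiSeparatedSpace S]
    [LocallyOfFiniteType f] [QuasiCompact f] (hU : IsCompact (U : Set S))
    [Flat (f ∣_ U)] [LocallyOfFinitePresentation (f ∣_ U)] :
    ∃ (𝓘 : S.IdealSheafData) (S' : Scheme.{u}) (b : S' ⟶ S), BlowUp.IsBlowUp b 𝓘 ∧ BlowUp.IsAdmissibleFor U 𝓘 ∧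
      (𝓘.support : Set S) = (U : Set S)ᶜ ∧
      ∀ (X' : Scheme.{u}) (p₁ : X' ⟶ X) (p₂ : X' ⟶ S'), IsPullback p₁ p₂ f b →
      ∀ (𝒥 : X'.IdealSheafData),
        (∀ (V : X'.affineOpens) (a : Γ(X', V.1)), a ∈ 𝒥.ideal V ↔
          BlowUp.KilledByPowerNear ((𝓘.comap f).comap p₁) (Coh.structureModule X') V a) →
        Flat (𝒥.subschemeι ≫ p₂) ∧ LocallyOfFinitePresentation (𝒥.subschemeι ≫ p₂) := by
  classical
  haveI : CompactSpace X := QuasiCompact.compactSpace_of_compactSpace f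
  have hpair : ∀ x : X, ∃ (V : S.affineOpens) (W : X.affineOpens), x ∈ W.1 ∧ W.1 ≤ f ⁻¹ᵁ V.1 := fun x => by
    obtain ⟨V, hV, hxV, -⟩ := exists_isAffineOpen_mem_and_subset (show f x ∈ (⊤ : S.Opens) from trivial)
    obtain ⟨W, hW, hxW, hWle⟩ := exists_isAffineOpen_mem_and_subset (show x ∈ f ⁻¹ᵁ V from hxV)
    exact ⟨⟨V, hV⟩, ⟨W, hW⟩, hxW, hWle⟩
  choose Vx Wx hxW hWV using hpair
  obtain ⟨t, ht⟩ := isCompact_univ.elim_finite_subcover (fun x => ((Wx x).1 : Set X)) (fun x => (Wx x).1.isOpen)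
    fun x _ => Set.mem_iUnion.2 ⟨x, hxW x⟩
  choose 𝔞 h𝔞 h𝔞U h𝔞cov using fun x : ↥(t : Set X) => exists_centre U hU (Vx x.1).2
  choose J hJ hJrad hkey using fun x : ↥(t : Set X) =>
    exists_chart_algebra f U (Vx x.1).2 (Wx x.1).2 (hWV x.1) (𝔞 x) (h𝔞 x) (h𝔞U x)
  have hJcov : ∀ x : ↥(t : Set X), ∀ y ∈ (Vx x.1).1, y ∈ U → ∃ g ∈ J x, y ∈ S.basicOpen g := by
    intro x y hyV hyU
    obtain ⟨g, hg, hyg⟩ := h𝔞cov x y hyV hyU
    obtain ⟨n, hn⟩ := (show g ∈ (J x).radical from hJrad x ▸ Ideal.le_radical hg)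
    refine ⟨g ^ n, hn, (Scheme.mem_basicOpen _ _ _ hyV).2 ?_⟩
    rw [map_pow]
    exact ((Scheme.mem_basicOpen _ _ _ hyV).1 hyg).pow n
  obtain ⟨𝓙₀, hadm₀, hfac₀⟩ := exists_common_centre U hU (fun x : ↥(t : Set X) => (Vx x.1).1) (fun x => (Vx x.1).2)
    J hJ hJcov
  obtain ⟨𝓚, h𝓚, h𝓚supp⟩ := H98Strict.exists_ideal_support U hU
  let 𝓙 := 𝓙₀ * 𝓚
  have hsupp : (𝓙.support : Set S) = (U : Set S)ᶜ := by
    rw [Scheme.IdealSheafData.support_mul, Closeds.coe_sup, h𝓚supp]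
    exact Set.union_eq_right.2 hadm₀.2.subset_compl_right
  have hadm : BlowUp.IsAdmissibleFor U 𝓙 := ⟨fun W => by
    rw [Scheme.IdealSheafData.ideal_mul, Pi.mul_apply]
    exact (hadm₀.1 W).mul (h𝓚 W), by rw [hsupp]; exact disjoint_compl_left⟩
  have hfac : ∀ i : ↥(t : Set X), ∃ L : Ideal Γ(S, (Vx i.1).1), L.FG ∧ 𝓙.ideal (Vx i.1) = J i * L := fun i => by
    obtain ⟨L, hL, heq⟩ := hfac₀ i
    refine ⟨L * 𝓚.ideal (Vx i.1), hL.mul (h𝓚 _), ?_⟩
    rw [← mul_assoc, ← heq, Scheme.IdealSheafData.ideal_mul, Pi.mul_apply]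
  obtain ⟨S', b, hb⟩ := FBlow13.exists_isBlowUp_scheme S 𝓙
  refine ⟨𝓙, S', b, hb, hadm, hsupp, fun X' p₁ p₂ H 𝒥 h𝒥 => ?_⟩
  let q := 𝒥.subschemeι ≫ p₂
  have chart : ∀ z : 𝒥.subscheme, ∃ (V' : S'.affineOpens) (Z : (𝒥.subscheme).affineOpens) (_ : z ∈ Z.1)
      (e : Z.1 ≤ q ⁻¹ᵁ V'.1), (q.appLE V'.1 Z.1 e).hom.Flat ∧ (q.appLE V'.1 Z.1 e).hom.FinitePresentation := by
    intro z
    let x' := 𝒥.subschemeι z
    obtain ⟨x, hx, hxW'⟩ := Set.mem_iUnion₂.1 (ht (Set.mem_univ (p₁ x')))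
    have hxV : p₂ x' ∈ b ⁻¹ᵁ (Vx x).1 := by
      show b (p₂ x') ∈ (Vx x).1
      rw [← Scheme.Hom.comp_apply, ← H.w, Scheme.Hom.comp_apply]
      exact hWV x hxW'
    obtain ⟨V', hxV', hV'le, g, hgreg, hg⟩ := MP99.exists_nzd_le hb.1 (p₂ x') hxV
    let i : ↥(t : Set X) := ⟨x, hx⟩
    obtain ⟨L, hL, heq⟩ := hfac i
    have hrad : (J i * L).radical = (𝔞 i).radical := by
      refine le_antisymm ?_ (Ideal.radical_le_radical_iff.2 fun a ha => ?_)
      · rw [← hJrad i]; exact Ideal.radical_mono Ideal.mul_le_left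
      · exact heq ▸ mem_radical_of_disjoint 𝓙 hadm.2 (Vx x).2 (h𝔞U i a ha)
    let W' := p₁ ⁻¹ᵁ (Wx x).1 ⊓ p₂ ⁻¹ᵁ V'.1
    have hW' : IsAffineOpen W' := isAffineOpen_chart H (Vx x).2 (Wx x).2 (hWV x) V'.2 hV'le
    have hpo := isPushout_chart H (Vx x).2 (Wx x).2 (hWV x) V'.2 hV'le
    letI : Algebra Γ(S, (Vx x).1) Γ(X, (Wx x).1) := (f.appLE _ _ (hWV x)).hom.toAlgebra
    letI : Algebra Γ(S, (Vx x).1) Γ(S', V'.1) := (b.appLE (Vx x).1 V'.1 hV'le).hom.toAlgebra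
    letI : Algebra Γ(S', V'.1) Γ(X', W') := (p₂.appLE V'.1 W' inf_le_right).hom.toAlgebra
    letI : Algebra Γ(X, (Wx x).1) Γ(X', W') := (p₁.appLE (Wx x).1 W' inf_le_left).hom.toAlgebra
    letI : Algebra Γ(S, (Vx x).1) Γ(X', W') :=
      (f.appLE _ _ (hWV x) ≫ p₁.appLE (Wx x).1 W' inf_le_left).hom.toAlgebra
    haveI : IsScalarTower Γ(S, (Vx x).1) Γ(X, (Wx x).1) Γ(X', W') := .of_algebraMap_eq' rfl
    haveI : IsScalarTower Γ(S, (Vx x).1) Γ(S', V'.1) Γ(X', W') :=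
      .of_algebraMap_eq' (congrArg CommRingCat.Hom.hom hpo.w)
    haveI : Algebra.IsPushout Γ(S, (Vx x).1) Γ(S', V'.1) Γ(X, (Wx x).1) Γ(X', W') :=
      (CommRingCat.isPushout_iff_isPushout).1 hpo.flip
    have hmap : (J i * L).map (algebraMap Γ(S, (Vx x).1) Γ(S', V'.1)) = Ideal.span {g} := by
      rw [← heq, ← hg, MP99.ideal_comap 𝓙 b (Vx x) V' hV'le]
      rfl
    have hreg : IsSMulRegular Γ(S', V'.1) g := isSMulRegular_iff_right_eq_zero_of_smul.2 fun y hy =>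
      (mul_right_mem_nonZeroDivisors_eq_zero_iff hgreg).1 (by rw [mul_comm]; exact hy)
    obtain ⟨hflat, hfp⟩ := hkey i L hL hrad Γ(S', V'.1) Γ(X', W') g hreg hmap
    let gB : Γ(X', W') := algebraMap Γ(S', V'.1) Γ(X', W') g
    have hideal : ((𝓙.comap f).comap p₁).ideal ⟨W', hW'⟩ = Ideal.span {gB} :=
      exceptional_ideal_chart H 𝓙 V'.2 hW' hg
    have hJeq : 𝒥.ideal ⟨W', hW'⟩ = FlatCA.powTorsion Γ(X', W') gB Γ(X', W') := by
      ext a
      rw [h𝒥, Fit14.mem_powTorsion]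
      refine exists_congr fun n => ?_
      rw [Scheme.IdealSheafData.ideal_pow, Pi.pow_apply, hideal, Ideal.span_singleton_pow]
      exact ⟨fun h => h _ (Ideal.mem_span_singleton_self _), fun h c hc => by
        obtain ⟨d, rfl⟩ := Ideal.mem_span_singleton'.1 hc
        show (d * gB ^ n) * a = 0
        rw [mul_assoc, show gB ^ n * a = 0 from h, mul_zero]⟩
    let Z : 𝒥.subscheme.Opens := 𝒥.subschemeι ⁻¹ᵁ W'
    have hZ : IsAffineOpen Z := hW'.preimage 𝒥.subschemeι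
    have e : Z ≤ q ⁻¹ᵁ V'.1 := fun y hy => hy.2
    obtain ⟨φ, hφ⟩ := subscheme_chart p₂ 𝒥 hW' (inf_le_right : W' ≤ p₂ ⁻¹ᵁ V'.1) e
    rw [← hJeq] at hflat hfp
    refine ⟨V', ⟨Z, hZ⟩, ⟨hxW', hxV'⟩, e, ?_, ?_⟩
    · show (q.appLE V'.1 Z e).hom.Flat
      rw [hφ]
      exact RingHom.Flat.comp (R := Γ(S', V'.1)) (hflat : RingHom.Flat (algebraMap Γ(S', V'.1) _))
        (RingHom.Flat.of_bijective φ.bijective)
    · show (q.appLE V'.1 Z e).hom.FinitePresentation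
      rw [hφ]
      exact RingHom.finitePresentation_respectsIso.1 _ φ (RingHom.finitePresentation_algebraMap.2 hfp)
  refine ⟨?_, ?_⟩
  · refine (HasRingHomProperty.iff_exists_appLE (P := @Flat) (Q := RingHom.Flat) ?_).2 fun z => ?_
    · exact (RingHom.Flat.stableUnderComposition.stableUnderCompositionWithLocalizationAway
        RingHom.Flat.holdsForLocalizationAway).1
    · obtain ⟨V', Z, hz, e, h1, -⟩ := chart z
      exact ⟨V', Z, hz, e, h1⟩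
  · refine (HasRingHomProperty.iff_exists_appLE (P := @LocallyOfFinitePresentation) (Q := RingHom.FinitePresentation)
      (RingHom.finitePresentation_stableUnderComposition.stableUnderCompositionWithLocalizationAway
        RingHom.finitePresentation_holdsForLocalizationAway).1).2 fun z => ?_
    obtain ⟨V', Z, hz, e, -, h2⟩ := chart z
    exact ⟨V', Z, hz, e, h2⟩

/-- Flattening the strict transform of a scheme by a blow-up whose centre has support exactly the complement of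
the open. -/
theorem exists_flattening_scheme_exact [CompactSpace S] [QuasiSeparatedSpace S]
    [LocallyOfFiniteType f] [QuasiCompact f] [QuasiSeparated f] (hU : IsCompact (U : Set S))
    [Flat (f ∣_ U)] [LocallyOfFinitePresentation (f ∣_ U)] :
    ∃ (𝓘 : S.IdealSheafData) (S' : Scheme.{u}) (b : S' ⟶ S), BlowUp.IsBlowUp b 𝓘 ∧ BlowUp.IsAdmissibleFor U 𝓘 ∧
      (𝓘.support : Set S) = (U : Set S)ᶜ ∧
      ∀ (X' : Scheme.{u}) (p₁ : X' ⟶ X) (p₂ : X' ⟶ S'), IsPullback p₁ p₂ f b →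
      ∀ (𝒥 : X'.IdealSheafData),
        (∀ (V : X'.affineOpens) (a : Γ(X', V.1)), a ∈ 𝒥.ideal V ↔
          BlowUp.KilledByPowerNear ((𝓘.comap f).comap p₁) (Coh.structureModule X') V a) →
        Flat (𝒥.subschemeι ≫ p₂) ∧ LocallyOfFinitePresentation (𝒥.subschemeι ≫ p₂) ∧
          QuasiCompact (𝒥.subschemeι ≫ p₂) ∧ QuasiSeparated (𝒥.subschemeι ≫ p₂) := by
  obtain ⟨𝓙, S', b, hb, hadm, hsupp, h⟩ := exists_flattening_scheme_exact_flat f U hU
  refine ⟨𝓙, S', b, hb, hadm, hsupp, fun X' p₁ p₂ H 𝒥 h𝒥 => ?_⟩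
  haveI : QuasiCompact p₂ := MorphismProperty.of_isPullback H ‹_›
  haveI : QuasiSeparated p₂ := MorphismProperty.of_isPullback H ‹_›
  exact ⟨(h X' p₁ p₂ H 𝒥 h𝒥).1, (h X' p₁ p₂ H 𝒥 h𝒥).2, inferInstance, inferInstance⟩

/-- Flattening the strict transform of a scheme by an admissible blow-up. -/
theorem exists_flattening_scheme [CompactSpace S] [QuasiSeparatedSpace S]
    [LocallyOfFiniteType f] [QuasiCompact f] [QuasiSeparated f] (hU : IsCompact (U : Set S))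
    [Flat (f ∣_ U)] [LocallyOfFinitePresentation (f ∣_ U)] :
    ∃ (𝓘 : S.IdealSheafData) (S' : Scheme.{u}) (b : S' ⟶ S), BlowUp.IsBlowUp b 𝓘 ∧ BlowUp.IsAdmissibleFor U 𝓘 ∧
      ∀ (X' : Scheme.{u}) (p₁ : X' ⟶ X) (p₂ : X' ⟶ S'), IsPullback p₁ p₂ f b →
      ∀ (𝒥 : X'.IdealSheafData),
        (∀ (V : X'.affineOpens) (a : Γ(X', V.1)), a ∈ 𝒥.ideal V ↔
          BlowUp.KilledByPowerNear ((𝓘.comap f).comap p₁) (Coh.structureModule X') V a) →
        Flat (𝒥.subschemeι ≫ p₂) ∧ LocallyOfFinitePresentation (𝒥.subschemeι ≫ p₂) ∧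
          QuasiCompact (𝒥.subschemeι ≫ p₂) ∧ QuasiSeparated (𝒥.subschemeι ≫ p₂) := by
  obtain ⟨𝓘, S', b, h1, h2, -, h3⟩ := exists_flattening_scheme_exact f U hU
  exact ⟨𝓘, S', b, h1, h2, h3⟩

end Groth.Agent.FlatCrit65.Blow
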