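import Groth.Prelude.Def_FlatCA
import Groth.Agent.Fit14.Tors
import Groth.Agent.Fit14.Props
import Groth.Agent.CAlg5.WeakAss
import Groth.Agent.CAlg6.FiberMod
import Groth.Agent.FlatMor67.PurePush
import Groth.Agent.S1192
import Mathlib

/-!
Relations after inverting an element, primes of the form `pS`, and freeness from Fitting ideals.
-/

set_option autoImplicit false
set_option linter.style.haveILetI false
set_option linter.unusedSectionVars false

universe u

open TensorProduct Matrix
open Groth.Agent.Fit14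

namespace Groth.Agent.FlatCrit65.Blow

section Generic

variable {R S : Type u} [CommRing R] [CommRing S] [Algebra R S]

/-- The kernel of the map to a fibre ring of a flat algebra. -/
theorem ker_toFibre [Module.Flat R S] (p : Ideal R) [p.IsPrime] :
    RingHom.ker (Algebra.TensorProduct.includeRight (R := R) (A := p.ResidueField) (B := S)).toRingHom =
      p.map (algebraMap R S) := by
  let ι := (Algebra.TensorProduct.includeRight (R := R) (A := p.ResidueField) (B := S))
  refine le_antisymm (fun b hb => ?_) (Ideal.map_le_iff_le_comap.2 fun r hr => ?_)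
  · let q : (R ⧸ p) →ₗ[R] p.ResidueField := (IsScalarTower.toAlgHom R (R ⧸ p) p.ResidueField).toLinearMap
    have hq : Function.Injective q := IsFractionRing.injective (R ⧸ p) p.ResidueField
    have h3 : TensorProduct.tmul R (1 : R ⧸ p) b = 0 := by
      apply Module.Flat.rTensor_preserves_injective_linearMap (M := S) q hq
      rw [map_zero, LinearMap.rTensor_tmul]
      simpa [q] using hb
    have h4 := congrArg (Algebra.TensorProduct.quotIdealMapEquivQuotTensor S p).symm h3
    rw [map_zero] at h4
    rw [← Ideal.Quotient.eq_zero_iff_mem, ← h4]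
    symm
    rw [AlgEquiv.symm_apply_eq]
    exact (Algebra.TensorProduct.quotIdealMapEquivQuotTensor_mk S p b).symm
  · show ι (algebraMap R S r) = 0
    rw [AlgHom.commutes, IsScalarTower.algebraMap_apply R p.ResidueField (p.Fiber S),
      Ideal.algebraMap_residueField_eq_zero.2 hr, map_zero]

/-- With an integral fibre, the extended prime is prime. -/
theorem isPrime_map [Module.Flat R S] (p : Ideal R) [p.IsPrime] [IsDomain (p.Fiber S)] :
    (p.map (algebraMap R S)).IsPrime := by
  rw [← ker_toFibre p]
  exact RingHom.ker_isPrime _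

/-- With an integral fibre, the extended prime lies over the prime. -/
theorem under_map [Module.Flat R S] (p : Ideal R) [p.IsPrime] [IsDomain (p.Fiber S)] :
    (p.map (algebraMap R S)).comap (algebraMap R S) = p := by
  rw [← ker_toFibre p, RingHom.comap_ker]
  ext r
  simp only [RingHom.mem_ker, RingHom.comp_apply]
  show (Algebra.TensorProduct.includeRight (R := R) (A := p.ResidueField) (B := S)) (algebraMap R S r) = 0 ↔ r ∈ p
  rw [AlgHom.commutes, IsScalarTower.algebraMap_apply R p.ResidueField (p.Fiber S),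
    map_eq_zero_iff _ (algebraMap p.ResidueField (p.Fiber S)).injective, Ideal.algebraMap_residueField_eq_zero]

/-- The only associated point of an integral fibre is the extended prime. -/
theorem eq_map_of_ass [Module.Flat R S] (p : Ideal R) [p.IsPrime] [IsDomain (p.Fiber S)] (P : Ideal S) [P.IsPrime]
    [hP : P.LiesOver p] (h : FlatCA.fiberIdeal p P ∈ associatedPrimes (p.Fiber S) (FlatCA.fiberMod p S S)) :
    P = p.map (algebraMap R S) := by
  refine le_antisymm (fun b hb => ?_) (Ideal.map_le_iff_le_comap.2 hP.over.le)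
  obtain ⟨y, hy⟩ := (FlatMor67.PurePush.ass_fiber_iff p P).1 h
  let Φ : S ⊗[R] p.ResidueField →ₗ[R] p.Fiber S := (TensorProduct.comm R S p.ResidueField).toLinearMap
  have hΦ : ∀ (b : S) z, Φ (b • z) = Algebra.TensorProduct.includeRight b * Φ z := by
    intro b z
    induction z using TensorProduct.induction_on with
    | zero => simp
    | add u v hu hv => simp only [smul_add, map_add, mul_add, hu, hv]
    | tmul n x => simp [Φ, TensorProduct.smul_tmul']
  have hy0 : Φ y ≠ 0 := fun h0 => Ideal.IsPrime.ne_top ‹P.IsPrime›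
    ((Ideal.eq_top_iff_one P).2 ((hy 1).2 ⟨0, by
      rw [pow_zero, one_smul]; exact (TensorProduct.comm R S p.ResidueField).injective (h0.trans (map_zero _).symm)⟩))
  obtain ⟨k, hk⟩ := (hy b).1 hb
  rw [← ker_toFibre p, RingHom.mem_ker]
  have h2 := hΦ (b ^ k) y
  rw [hk, map_zero, eq_comm, mul_eq_zero, or_iff_left hy0, map_pow] at h2
  exact eq_zero_of_pow_eq_zero h2

/-- Detection of torsion at the extended primes. -/
theorem pow_mul_eq_zero_of_forall [Algebra.FinitePresentation R S] [Module.Flat R S]
    (hdom : ∀ (p : Ideal R) [p.IsPrime], IsDomain (p.Fiber S)) (f : R) (ξ : S)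
    (h : ∀ (p : Ideal R) [p.IsPrime], f ∉ p → ∃ v ∉ p.map (algebraMap R S), v * ξ = 0) :
    ∃ k : ℕ, algebraMap R S f ^ k * ξ = 0 := by
  by_contra hne
  push Not at hne
  let J := (Submodule.span S {ξ}).annihilator
  have hJ : ∀ v, v ∈ J ↔ v * ξ = 0 := fun v => by rw [Submodule.mem_annihilator_span_singleton, smul_eq_mul]
  have hd : Disjoint (J : Set S) (Submonoid.powers (algebraMap R S f) : Set S) := by
    rw [Set.disjoint_left]
    rintro _ hx ⟨k, rfl⟩
    exact hne k ((hJ _).1 hx)
  obtain ⟨P₀, hP₀, hJP₀, hP₀d⟩ := Ideal.exists_le_prime_disjoint _ _ hd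
  obtain ⟨P, hP, hPP₀⟩ := Ideal.exists_minimalPrimes_le hJP₀
  haveI := hP.1.1
  let p := P.under R
  haveI : P.LiesOver p := ⟨rfl⟩
  haveI : IsDomain (p.Fiber S) := hdom p
  have hfp : f ∉ p := fun hf => Set.disjoint_left.1 hP₀d (hPP₀ hf) ⟨1, pow_one _⟩
  have hw : P ∈ FlatCA.weakAss S S := ⟨ξ, hP⟩
  have hw' : P ∈ FlatCA.weakAss S (S ⊗[R] R) :=
    CAlg5.weakAss_subset_of_injective (TensorProduct.AlgebraTensorModule.rid R S S).symm.toLinearMap
      (TensorProduct.AlgebraTensorModule.rid R S S).symm.injective hw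
  have hPp := eq_map_of_ass p P (S1192.result S R p P |>.1 hw').2
  obtain ⟨v, hv, hvξ⟩ := h p hfp
  exact hv (hPp ▸ hP.1.2 ((hJ v).2 hvξ))

variable {M : Type u} [AddCommGroup M] [Module S M]

/-- Finitely many relations generate after inverting `f`. -/
theorem exists_rels_finset {n : ℕ} (x : Fin n → M) (hx : Submodule.span S (Set.range x) = ⊤) (f : S)
    (hfp : Module.FinitePresentation (Localization.Away f) (LocalizedModule (Submonoid.powers f) M)) :
    ∃ G : Finset (Fin n → S), (G : Set (Fin n → S)) ⊆ rels (R := S) x ∧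
      ∀ v ∈ rels (R := S) x, ∃ k : ℕ, f ^ k • v ∈ Submodule.span S (G : Set (Fin n → S)) := by
  classical
  let Sf := Localization.Away f
  haveI : Module.FinitePresentation Sf (Sf ⊗[S] M) :=
    Module.FinitePresentation.of_equiv (LocalizedModule.equivTensorProduct (Submonoid.powers f) M)
  let x' : Fin n → Sf ⊗[S] M := fun i => (1 : Sf) ⊗ₜ[S] x i
  have hx' : Submodule.span Sf (Set.range x') = ⊤ := span_range_one_tmul Sf x hx
  have hfg : (rels (R := Sf) x').FG := by
    refine Module.FinitePresentation.fg_ker (Fintype.linearCombination Sf x') ?_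
    rw [← LinearMap.range_eq_top, Fintype.range_linearCombination, hx']
  rw [← rels_baseChange Sf x hx] at hfg
  obtain ⟨G', hG', hG'eq⟩ := (Submodule.fg_span_iff_fg_span_finset_subset _).1 hfg
  choose g hg hgG using fun y : G' => hG' y.2
  let G := Finset.univ.image g
  refine ⟨G, fun y hy => ?_, fun v hv => ?_⟩
  · obtain ⟨y, -, rfl⟩ := Finset.mem_image.1 (Finset.mem_coe.1 hy)
    exact hg y
  let j : (Fin n → S) → (Fin n → Sf) := fun v => algebraMap S Sf ∘ v
  have key : ∀ w ∈ Submodule.span Sf (G' : Set (Fin n → Sf)), ∃ k : ℕ, ∃ z ∈ Submodule.span S (G : Set (Fin n → S)),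
      j z = algebraMap S Sf (f ^ k) • w := by
    intro w hw
    induction hw using Submodule.span_induction with
    | mem y hy =>
      exact ⟨0, g ⟨y, hy⟩, Submodule.subset_span (Finset.mem_coe.2 (Finset.mem_image_of_mem g (Finset.mem_univ _))),
        by simpa [j] using hgG ⟨y, hy⟩⟩
    | zero => exact ⟨0, 0, Submodule.zero_mem _, by funext i; simp [j]⟩
    | add a b _ _ ha hb =>
      obtain ⟨k, z, hz, hjz⟩ := ha
      obtain ⟨l, w, hw, hjw⟩ := hb
      refine ⟨k + l, f ^ l • z + f ^ k • w, add_mem (Submodule.smul_mem _ _ hz) (Submodule.smul_mem _ _ hw), ?_⟩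
      funext i
      have h1 := congrFun hjz i
      have h2 := congrFun hjw i
      simp only [j, Function.comp_apply, Pi.smul_apply, smul_eq_mul] at h1 h2 ⊢
      simp only [Pi.add_apply, Pi.smul_apply, smul_eq_mul, map_add, map_mul, h1, h2, pow_add]
      ring
    | smul c a _ ha =>
      obtain ⟨k, z, hz, hjz⟩ := ha
      obtain ⟨c, ⟨_, l, rfl⟩, rfl⟩ := IsLocalization.exists_mk'_eq (Submonoid.powers f) c
      refine ⟨l + k, c • z, Submodule.smul_mem _ _ hz, ?_⟩
      funext i
      have h1 := congrFun hjz i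
      simp only [j, Function.comp_apply, Pi.smul_apply, smul_eq_mul] at h1 ⊢
      have h2 : IsLocalization.mk' Sf c (⟨f ^ l, Submonoid.pow_mem _ (Submonoid.mem_powers f) l⟩ : Submonoid.powers f) *
          algebraMap S Sf (f ^ l) = algebraMap S Sf c := IsLocalization.mk'_spec Sf c _
      rw [map_mul, h1, pow_add, map_mul, ← h2]
      show _ = algebraMap S Sf (f ^ l) * algebraMap S Sf (f ^ k) *
        (IsLocalization.mk' Sf c (⟨f ^ l, _⟩ : Submonoid.powers f) * a i)
      ring
  obtain ⟨k, z, hz, hjz⟩ := key (j v) (hG'eq.le (Submodule.subset_span ⟨v, hv, rfl⟩))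
  have hmix : ∀ i, ∃ l : ℕ, f ^ l * z i = f ^ l * (f ^ k * v i) := fun i => by
    have h1 : algebraMap S Sf (z i) = algebraMap S Sf (f ^ k * v i) := by
      rw [map_mul]; simpa [j] using congrFun hjz i
    obtain ⟨⟨_, l, rfl⟩, hl⟩ := IsLocalization.exists_of_eq (M := Submonoid.powers f) h1
    exact ⟨l, hl⟩
  choose l hl using hmix
  let L := Finset.univ.sup l
  refine ⟨L + k, ?_⟩
  have : f ^ (L + k) • v = f ^ L • z := funext fun i => by
    obtain ⟨d, hd⟩ := Nat.exists_eq_add_of_le (Finset.le_sup (f := l) (Finset.mem_univ i))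
    simp only [Pi.smul_apply, smul_eq_mul, L]
    rw [hd, show f ^ (l i + d + k) * v i = f ^ d * (f ^ l i * (f ^ k * v i)) by ring, ← hl i]
    ring
  rw [this]
  exact Submodule.smul_mem _ _ hz

/-- Minors of all relations against minors of generators after inverting `f`. -/
theorem exists_pow_mul_mem_minors {n p : ℕ} {x : Fin n → M} (f : S) {G : Set (Fin n → S)}
    (hG : ∀ v ∈ rels (R := S) x, ∃ k : ℕ, f ^ k • v ∈ Submodule.span S G) {d : S}
    (hd : d ∈ minors (rels (R := S) x : Set (Fin n → S)) p) : ∃ k : ℕ, f ^ k * d ∈ minors G p := by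
  induction hd using Submodule.span_induction with
  | mem d hd =>
    obtain ⟨z, e, hz, rfl⟩ := hd
    choose k hk using fun b => hG (z b) (hz b)
    refine ⟨∑ b, k b, ?_⟩
    rw [← minors_span G p]
    refine Ideal.subset_span ⟨fun b => f ^ k b • z b, e, hk, ?_⟩
    rw [← Finset.prod_pow_eq_pow_sum]
    exact (det_mul_row (fun b => f ^ k b) (Matrix.of fun a b => z b (e a))).symm
  | zero => exact ⟨0, by simp⟩
  | add a b _ _ ha hb =>
    obtain ⟨k, hk⟩ := ha
    obtain ⟨l, hl⟩ := hb
    refine ⟨k + l, ?_⟩
    rw [show f ^ (k + l) * (a + b) = f ^ l * (f ^ k * a) + f ^ k * (f ^ l * b) by ring]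
    exact add_mem (Ideal.mul_mem_left _ _ hk) (Ideal.mul_mem_left _ _ hl)
  | smul c a _ ha =>
    obtain ⟨k, hk⟩ := ha
    refine ⟨k, ?_⟩
    rw [smul_eq_mul, mul_left_comm]
    exact Ideal.mul_mem_left _ _ hk

end Generic

section Free

variable {T Q : Type u} [CommRing T] [AddCommGroup Q] [Module T Q]

/-- Fitting ideals give freeness near a prime. -/
theorem free_away_of_fitting [Module.Finite T Q] {n : ℕ} (r : ℕ) (hrn : r ≤ n) (x : Fin n → Q)
    (hx : Submodule.span T (Set.range x) = ⊤) (q : Ideal T) [q.IsPrime]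
    (D : T) (hD : D ∈ minors (rels (R := T) x : Set (Fin n → T)) (n - r)) (hDq : D ∉ q)
    (h0 : ∀ j < r, Fitt.ideal T Q j = ⊥) :
    ∃ g : T, g ∉ q ∧ Module.Free (Localization.Away g) (LocalizedModule (Submonoid.powers g) Q) ∧
      Module.rank (Localization.Away g) (LocalizedModule (Submonoid.powers g) Q) = r := by
  classical
  obtain ⟨z, e, hz, hg⟩ : ∃ (z : Fin (n - r) → (Fin n → T)) (e : Fin (n - r) → Fin n),
      (∀ b, z b ∈ rels (R := T) x) ∧ (Matrix.of fun a b => z b (e a)).det ∉ q := by
    by_contra hne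
    push Not at hne
    exact hDq (Ideal.span_le.2 (by rintro _ ⟨z, e, hz, rfl⟩; exact hne z e hz) hD)
  set g := (Matrix.of fun a b => z b (e a)).det with hgdef
  have he : Function.Injective e := by
    by_contra h
    obtain ⟨i, j, hij, hne⟩ := Function.not_injective_iff.1 h
    exact hg (by rw [hgdef, det_zero_of_row_eq hne (funext fun b => by simp [hij])]; exact q.zero_mem)
  refine ⟨g, hg, ?_⟩
  let Tg := Localization.Away g
  haveI : Nontrivial Tg := by
    refine not_subsingleton_iff_nontrivial.1 fun hs => ?_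
    have h01 : (algebraMap T Tg) 1 = (algebraMap T Tg) 0 := Subsingleton.elim _ _
    obtain ⟨⟨_, k, rfl⟩, hk⟩ := IsLocalization.exists_of_eq (M := Submonoid.powers g) h01
    rw [mul_one, mul_zero] at hk
    exact hg ((inferInstance : q.IsPrime).mem_of_pow_mem k (by rw [show g ^ k = 0 from hk]; exact q.zero_mem))
  let E := Tg ⊗[T] Q
  let x' : Fin n → E := fun i => (1 : Tg) ⊗ₜ[T] x i
  have hx' : Submodule.span Tg (Set.range x') = ⊤ := span_range_one_tmul Tg x hx
  let ι := {i : Fin n // ∀ a, e a ≠ i}
  let y : ι → E := fun i => x' i.1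
  have hin : ∀ a, x' (e a) ∈ Submodule.span Tg (Set.range y) := by
    intro a
    let w : Fin n → T := ∑ b, (Matrix.of fun a b => z b (e a)).adjugate b a • z b
    have hw : w ∈ rels (R := T) x := Submodule.sum_mem _ fun b _ => Submodule.smul_mem _ _ (hz b)
    have hwj : ∀ j, w j = (Matrix.of fun a' b => z b (Function.update e a j a')).det := fun j => by
      rw [← adjComb]
      simp [w, mul_comm]
    have hwe : ∀ a', w (e a') = if a = a' then g else 0 := fun a' => by
      rw [hwj]
      rcases eq_or_ne a a' with rfl | hne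
      · rw [if_pos rfl, Function.update_eq_self]
      · rw [if_neg hne, det_zero_of_row_eq hne]
        funext c
        simp [Function.update_of_ne hne.symm]
    have hsum : ∑ i, w i • x' i = 0 := by
      have := congrArg (fun v => (1 : Tg) ⊗ₜ[T] v) (mem_rels.1 hw)
      simpa [TensorProduct.tmul_sum, TensorProduct.tmul_smul, x'] using this
    rw [← Finset.add_sum_erase _ _ (Finset.mem_univ (e a)), hwe, if_pos rfl, add_eq_zero_iff_eq_neg] at hsum
    have hgu : IsUnit (algebraMap T Tg g) := IsLocalization.Away.algebraMap_isUnit g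
    have hmem : algebraMap T Tg g • x' (e a) ∈ Submodule.span Tg (Set.range y) := by
      rw [algebraMap_smul, hsum]
      refine neg_mem (Submodule.sum_mem _ fun i hi => ?_)
      by_cases h : ∃ a', e a' = i
      · obtain ⟨a', rfl⟩ := h
        rw [hwe, if_neg (fun h => (Finset.mem_erase.1 hi).1 (by rw [h])), zero_smul]
        exact Submodule.zero_mem _
      · push Not at h
        exact Submodule.smul_of_tower_mem _ _ (Submodule.subset_span ⟨⟨i, h⟩, rfl⟩)
    exact (Submodule.smul_mem_iff_of_isUnit _ hgu).1 hmem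
  have hy : Submodule.span Tg (Set.range y) = ⊤ := by
    refine top_le_iff.1 (hx'.ge.trans (Submodule.span_le.2 ?_))
    rintro _ ⟨i, rfl⟩
    by_cases h : ∃ a', e a' = i
    · obtain ⟨a', rfl⟩ := h
      exact hin a'
    · push Not at h
      exact Submodule.subset_span ⟨⟨i, h⟩, rfl⟩
  have hcard : Fintype.card ι = r := by
    have h1 : Fintype.card ι = Fintype.card {i : Fin n // ¬ ∃ a, e a = i} :=
      Fintype.card_congr (Equiv.subtypeEquivRight fun i => by simp)
    have h2 : Fintype.card {i : Fin n // ∃ a, e a = i} = n - r := by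
      refine Eq.trans (Fintype.card_congr ?_) (Fintype.card_fin (n - r))
      exact ((Equiv.ofInjective e he).trans (Equiv.subtypeEquivRight fun i => Iff.rfl)).symm
      
    rw [h1, Fintype.card_subtype_compl, h2, Fintype.card_fin]
    omega
  let σ : Fin r ≃ ι := (Fintype.equivFinOfCardEq hcard).symm
  have hy' : Submodule.span Tg (Set.range (y ∘ σ)) = ⊤ := by rw [σ.surjective.range_comp, hy]
  have hind : LinearIndependent Tg (y ∘ σ) := by
    rw [Fintype.linearIndependent_iff]
    intro c hc i
    have h1 : Fitt.ideal Tg E (r - 1) = ⊥ := by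
      rw [ideal_baseChange, h0 _ (by have := i.2; omega), Ideal.map_bot]
    rw [← Ideal.mem_bot, ← h1, ideal_eq_fitOf _ hy', fitOf, show r - (r - 1) = 1 from by have := i.2; omega]
    exact Ideal.subset_span ⟨fun _ => c, fun _ => i, fun _ => mem_rels.2 hc, by rw [Matrix.det_unique]; rfl⟩
  let b : Module.Basis (Fin r) Tg E := Module.Basis.mk hind hy'.ge
  let b' : Module.Basis (Fin r) Tg (LocalizedModule (Submonoid.powers g) Q) :=
    b.map (LocalizedModule.equivTensorProduct (Submonoid.powers g) Q).symm
  refine ⟨Module.Free.of_basis b', ?_⟩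
  rw [rank_eq_card_basis b', Fintype.card_fin]

end Free

end Groth.Agent.FlatCrit65.Blow
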