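import Groth.Agent.FBlow13.Chart
import Groth.Agent.FBlow13.Exist
import Groth.Agent.RegImm10.BlowModel
import Groth.Agent.Div89.BlowUp
import Groth.Agent.Div89.FTIdeal
import Groth.Agent.Div89.IdealExtend
import Mathlib

/-!
On a blow-up of an affine scheme, an ideal of finite type times a high power of the exceptional ideal comes from
the base.
-/

set_option autoImplicit false
set_option linter.style.haveILetI false
set_option backward.isDefEq.respectTransparency.types false

universe u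

open CategoryTheory CategoryTheory.Limits AlgebraicGeometry TopologicalSpace

noncomputable section

namespace Groth.Agent.FlatCrit65.Blow

theorem mul_mono' {P : Scheme.{u}} {I I' J J' : P.IdealSheafData} (h : I ≤ I') (h' : J ≤ J') : I * J ≤ I' * J' :=
  fun W => by
    simp only [Scheme.IdealSheafData.ideal_mul, Pi.mul_apply]
    exact Ideal.mul_mono (h W) (h' W)

theorem pow_mono' {P : Scheme.{u}} {I J : P.IdealSheafData} (h : I ≤ J) (n : ℕ) : I ^ n ≤ J ^ n := fun W => by
  simp only [Scheme.IdealSheafData.ideal_pow, Pi.pow_apply]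
  exact Ideal.pow_right_mono (h W) n

/-- An inclusion of ideals on a chart extends to the whole space after multiplying by a power. -/
theorem exists_pow_mul_le_pow_mul {P : Scheme.{u}} [CompactSpace P] {E F H C : P.IdealSheafData}
    (hE : BlowUp.IsEffCartierIdeal E) (hF : MP99.IsLocPrincipal F) (hFE : F ≤ E)
    (hH : BlowUp.IsFiniteTypeIdeal H) (hle : H.comap (MP99.maxLE E F).ι ≤ C.comap (MP99.maxLE E F).ι) :
    ∃ l₀ : ℕ, ∀ l, l₀ ≤ l → F ^ l * H ≤ E ^ l * C := by
  classical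
  have loc : ∀ p : P, ∃ V : P.affineOpens, p ∈ V.1 ∧ ∃ l₀ : ℕ, ∀ l, l₀ ≤ l → (F ^ l * H).ideal V ≤ (E ^ l * C).ideal V := by
    intro p
    obtain ⟨U, hpU, e₀, -, he₀⟩ := hE p
    obtain ⟨V, hpV, hVU, d, hd⟩ := MP99.exists_principal_le hF p hpU
    obtain ⟨e, he⟩ : ∃ e, E.ideal V = Ideal.span {e} := ⟨_, MP99.ideal_restrict E (show V ≤ U from hVU) he₀⟩
    obtain ⟨f, hf⟩ : ∃ f, f * e = d :=
      Ideal.mem_span_singleton'.1 (he.le (hFE V (hd.ge (Ideal.mem_span_singleton_self d))))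
    let Df := P.affineBasicOpen f
    have hDV : Df ≤ V := P.basicOpen_le f
    have hDle : Df.1 ≤ MP99.maxLE E F := by
      refine MP99.le_maxLE (MP99.comap_le_of_ideal_le fun y hy => ⟨Df, hy, le_rfl, ?_⟩)
      rw [MP99.ideal_restrict E hDV he, MP99.ideal_restrict F hDV hd, ← hf, map_mul]
      exact (Ideal.span_singleton_mul_left_unit (RingedSpace.isUnit_res_basicOpen _ f) _).symm.le
    have hHC : H.ideal Df ≤ C.ideal Df := MP99.ideal_le_of_comap_le hle hDle
    obtain ⟨t, ht⟩ := hH V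
    have hpow : ∀ h : t, ∃ l : ℕ, f ^ l * h.1 ∈ C.ideal V := by
      intro h
      let res := (P.presheaf.map (homOfLE (P.basicOpen_le f)).op).hom
      have h1 : res h.1 ∈ C.ideal Df := hHC (by
        rw [← H.map_ideal_basicOpen V f]
        exact Ideal.mem_map_of_mem _ (ht.le (Submodule.subset_span h.2)))
      rw [← C.map_ideal_basicOpen V f] at h1
      letI := res.toAlgebra
      have hloc := V.2.isLocalization_of_eq_basicOpen f (homOfLE (P.basicOpen_le f)) rfl
      obtain ⟨_, ⟨n, rfl⟩, hn⟩ :=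
        (IsLocalization.algebraMap_mem_map_algebraMap_iff (Submonoid.powers f) Γ(P, P.basicOpen f) _ _).1 h1
      exact ⟨n, hn⟩
    choose k hk using hpow
    refine ⟨V, hpV, Finset.univ.sup k, fun l hl => ?_⟩
    rw [Scheme.IdealSheafData.ideal_mul, Pi.mul_apply, Scheme.IdealSheafData.ideal_pow, Pi.pow_apply,
      Scheme.IdealSheafData.ideal_mul, Pi.mul_apply, Scheme.IdealSheafData.ideal_pow, Pi.pow_apply, hd, he,
      Ideal.span_singleton_pow, Ideal.span_singleton_pow, ← ht, ← hf, mul_pow]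
    refine Ideal.mul_le.2 fun a ha b hb => ?_
    obtain ⟨c, rfl⟩ := Ideal.mem_span_singleton'.1 ha
    suffices hb' : f ^ l * b ∈ C.ideal V by
      rw [show c * (f ^ l * e ^ l) * b = e ^ l * (c * (f ^ l * b)) by ring]
      exact Ideal.mul_mem_mul (Ideal.mem_span_singleton_self _) (Ideal.mul_mem_left _ _ hb')
    induction hb using Submodule.span_induction with
    | mem x hx =>
      obtain ⟨m, hm⟩ := Nat.exists_eq_add_of_le ((Finset.le_sup (Finset.mem_univ ⟨x, hx⟩)).trans hl)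
      rw [hm, pow_add, mul_comm (f ^ k ⟨x, hx⟩) (f ^ m), mul_assoc]
      exact Ideal.mul_mem_left _ _ (hk ⟨x, hx⟩)
    | zero => rw [mul_zero]; exact zero_mem _
    | add x y _ _ hx hy => rw [mul_add]; exact add_mem hx hy
    | smul r x _ hx => rw [smul_eq_mul, mul_left_comm]; exact Ideal.mul_mem_left _ _ hx
  choose V hpV l₀ hl₀ using loc
  obtain ⟨t, ht⟩ := isCompact_univ.elim_finite_subcover (fun p : P => ((V p).1 : Set P)) (fun p => (V p).1.2)
    fun p _ => Set.mem_iUnion.2 ⟨p, hpV p⟩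
  refine ⟨t.sup l₀, fun l hl => MP99.le_of_local fun p => ?_⟩
  obtain ⟨q, hq, hpq⟩ := Set.mem_iUnion₂.1 (ht (Set.mem_univ p))
  exact ⟨V q, hpq, hl₀ q l ((Finset.le_sup hq).trans hl)⟩

variable {A : Type u} [CommRing A] {𝔞 : Ideal A} {P : Scheme.{u}} (π : P ⟶ Spec (CommRingCat.of A))

theorem le_iff_toIdeal_le {R : CommRingCat.{u}} (I J : (Spec R).IdealSheafData) :
    I ≤ J ↔ An92.FSch.toIdeal I ≤ An92.FSch.toIdeal J := by
  rw [An92.FSch.toIdeal_eq_comap, An92.FSch.toIdeal_eq_comap]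
  refine ⟨fun h => Ideal.comap_mono (h _), fun h => Scheme.IdealSheafData.le_of_isAffine ?_⟩
  refine (Ideal.comap_le_comap_iff_of_surjective _ ?_ _ _).1 h
  exact (ConcreteCategory.bijective_of_isIso (Scheme.ΓSpecIso R).inv).2

theorem idealSpec_mul (K L : Ideal A) : FSch.idealSpec A (K * L) = FSch.idealSpec A K * FSch.idealSpec A L :=
  An92.FSch.toIdeal_injective <| by
    rw [An92.FSch.toIdeal_mul, An92.FSch.toIdeal_idealSpec, An92.FSch.toIdeal_idealSpec,
      An92.FSch.toIdeal_idealSpec]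

/-- On the chart of `a`, some `E^k * B` comes from finitely many elements of the base. -/
theorem exists_chart_push (hπ : BlowUp.IsBlowUp π (FSch.idealSpec A 𝔞)) {a : A} (ha : a ∈ 𝔞)
    (B : P.IdealSheafData) (hB : BlowUp.IsFiniteTypeIdeal B) :
    ∃ (k : ℕ) (R : Ideal A), R.FG ∧ ((FSch.idealSpec A R).comap π).comap (FBlow13.chartOpen π 𝔞 a).ι =
      (((FSch.idealSpec A 𝔞).comap π) ^ k * B).comap (FBlow13.chartOpen π 𝔞 a).ι := by
  classical
  obtain ⟨e, he⟩ := FBlow13.exists_iso_chartOpen π hπ ha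
  let C := BlowUp.affineAlgebra A 𝔞 a
  let j := e.hom ≫ (FBlow13.chartOpen π 𝔞 a).ι
  obtain ⟨g, hg⟩ := (show (An92.FSch.toIdeal (B.comap j)).FG by
    rw [An92.FSch.toIdeal_eq_comap]
    exact Div89.fg_comap_of_bijective _ (ConcreteCategory.bijective_of_isIso (Scheme.ΓSpecIso _).inv)
      (Div89.isFiniteTypeIdeal_comap j hB ⟨⊤, isAffineOpen_top _⟩))
  have hden : ∀ x : g, ∃ (k : ℕ) (r : A), algebraMap A C a ^ k * x.1 = algebraMap A C r := fun x => by
    obtain ⟨⟨r, ⟨_, n, rfl⟩⟩, hr⟩ := IsLocalization.surj (Submonoid.powers a) (x.1 : C).val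
    refine ⟨n, r, Subtype.ext ?_⟩
    rw [mul_comm]
    change (x.1 : C).val * (algebraMap A (Localization.Away a) a) ^ n = _
    rw [← map_pow]
    exact hr
  choose k r hr using hden
  let K := Finset.univ.sup k
  refine ⟨K, Ideal.span (Set.range fun x : g => a ^ (K - k x) * r x),
    Submodule.fg_span (Set.finite_range _), ?_⟩
  have hj : j ≫ π = FBlow13.chartMor A 𝔞 a := by rw [← he, Category.assoc]
  have hiso : ∀ I J : P.IdealSheafData, I.comap j = J.comap j →
      I.comap (FBlow13.chartOpen π 𝔞 a).ι = J.comap (FBlow13.chartOpen π 𝔞 a).ι := fun I J h => by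
    have h' := congrArg (fun T => Scheme.IdealSheafData.comap T e.inv) h
    simpa only [← Scheme.IdealSheafData.comap_comp, j, Iso.inv_hom_id_assoc] using h'
  refine hiso _ _ ?_
  rw [MP99.comap_mul, An92.FSch.comap_pow]
  simp only [← Scheme.IdealSheafData.comap_comp, hj]
  apply An92.FSch.toIdeal_injective
  rw [An92.FSch.toIdeal_mul, An92.FSch.toIdeal_pow, An92.FSch.toIdeal_comap, An92.FSch.toIdeal_comap,
    An92.FSch.toIdeal_idealSpec, An92.FSch.toIdeal_idealSpec, ← hg]
  have h𝔞 : 𝔞.map (algebraMap A C) = Ideal.span {algebraMap A C a} := by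
    refine le_antisymm (Ideal.map_le_iff_le_comap.2 fun x hx => ?_)
      ((Ideal.span_singleton_le_iff_mem _).2 (Ideal.mem_map_of_mem _ ha))
    obtain ⟨c, hc⟩ := FBlow13.affineAlgebra_div (a := a) hx
    exact Ideal.mem_span_singleton'.2 ⟨c, hc.symm⟩
  have key : ∀ x : g, algebraMap A C (a ^ (K - k x) * r x) = algebraMap A C a ^ K * x.1 := fun x => by
    rw [map_mul, map_pow, ← hr, ← mul_assoc, ← pow_add, Nat.sub_add_cancel (Finset.le_sup (Finset.mem_univ x))]
  change Ideal.map (algebraMap A C) _ = Ideal.map (algebraMap A C) 𝔞 ^ K * Ideal.span (g : Set C)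
  rw [h𝔞, Ideal.map_span, Ideal.span_singleton_pow, Ideal.span_mul_span', Set.singleton_mul,
    ← Set.range_comp]
  congr 1
  ext y
  constructor
  · rintro ⟨x, rfl⟩
    exact ⟨x.1, x.2, (key x).symm⟩
  · rintro ⟨x, hx, rfl⟩
    exact ⟨⟨x, hx⟩, key ⟨x, hx⟩⟩

/-- An ideal of finite type times a high power of the exceptional ideal comes from the base. -/
theorem exists_push_affine [CompactSpace P] (hπ : BlowUp.IsBlowUp π (FSch.idealSpec A 𝔞))
    (B : P.IdealSheafData) (hB : BlowUp.IsFiniteTypeIdeal B) :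
    ∃ n₀ : ℕ, ∀ n, n₀ ≤ n → ∃ 𝔠 : Ideal A, 𝔠.FG ∧
      (FSch.idealSpec A 𝔠).comap π = ((FSch.idealSpec A 𝔞).comap π) ^ n * B := by
  classical
  set E := (FSch.idealSpec A 𝔞).comap π with hEdef
  have hcov : ∀ p : P, ∃ a : 𝔞, p ∈ FBlow13.chartOpen π 𝔞 a.1 := fun p => by
    obtain ⟨a, ha, hp⟩ := FBlow13.exists_mem_chartOpen π hπ.1 p
    exact ⟨⟨a, ha⟩, hp⟩
  obtain ⟨t, ht⟩ := isCompact_univ.elim_finite_subcover
    (fun a : 𝔞 => (FBlow13.chartOpen π 𝔞 a.1 : Set P)) (fun a => (FBlow13.chartOpen π 𝔞 a.1).2)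
    fun p _ => Set.mem_iUnion.2 (hcov p)
  choose k R hR hkR using fun a : 𝔞 => exists_chart_push π hπ a.2 B hB
  let F : A → P.IdealSheafData := fun a => (FSch.idealSpec A (Ideal.span {a})).comap π
  have hft : ∀ {K : Ideal A}, K.FG → BlowUp.IsFiniteTypeIdeal (FSch.idealSpec A K) := fun {K} hK =>
    fun V => by
      rw [← (FSch.idealSpec A K).map_ideal (U := V) (V := ⟨⊤, isAffineOpen_top _⟩) (fun _ _ => trivial),
        FBlow13.idealSpec_ideal_top]
      exact (hK.map _).map _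
  have hpow : ∀ a : 𝔞, ∃ l₀ : ℕ, ∀ l, l₀ ≤ l →
      F a.1 ^ l * (FSch.idealSpec A (R a)).comap π ≤ E ^ l * (E ^ k a * B) := fun a =>
    exists_pow_mul_le_pow_mul hπ.1 (MP99.isLocPrincipal_comap (FBlow13.isLocPrincipal_idealSpec a.1) π)
      (Scheme.IdealSheafData.comap_mono _ (FBlow13.idealSpec_mono ((Ideal.span_singleton_le_iff_mem _).2 a.2)))
      (Div89.isFiniteTypeIdeal_comap π (hft (hR a))) (hkR a).le
  choose l hl using hpow
  refine ⟨t.sup fun a => k a + l a, fun n hn => ?_⟩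
  have hkn : ∀ a ∈ t, k a + l a ≤ n := fun a ha =>
    (Finset.le_sup (f := fun a => k a + l a) ha).trans hn
  let s : 𝔞 → Ideal A := fun a => Ideal.span {a.1} ^ (n - k a) * R a
  refine ⟨⨆ a ∈ t, s a, Submodule.fg_biSup t s fun a _ => ?_, ?_⟩
  · exact ((Submodule.fg_span_singleton a.1).pow _).mul (hR a)
  have hs : ∀ a, (FSch.idealSpec A (s a)).comap π = F a.1 ^ (n - k a) * (FSch.idealSpec A (R a)).comap π := fun a => by
    rw [idealSpec_mul, FBlow13.idealSpec_pow, MP99.comap_mul, An92.FSch.comap_pow]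
  refine le_antisymm ?_ ?_
  · rw [← Scheme.IdealSheafData.le_map_iff_comap_le, le_iff_toIdeal_le, An92.FSch.toIdeal_idealSpec]
    refine iSup₂_le fun a ha => ?_
    rw [← An92.FSch.toIdeal_idealSpec A (s a), ← le_iff_toIdeal_le, Scheme.IdealSheafData.le_map_iff_comap_le, hs]
    refine (hl a _ (Nat.le_sub_of_add_le ((add_comm _ _).le.trans (hkn a ha)))).trans_eq ?_
    rw [← mul_assoc, ← pow_add, Nat.sub_add_cancel (le_of_add_le_left (hkn a ha))]
  · refine MP99.le_of_local fun p => ?_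
    obtain ⟨a, ha, hp⟩ := Set.mem_iUnion₂.1 (ht (Set.mem_univ p))
    obtain ⟨V, hpV, hV⟩ := MP99.exists_affine_le p hp
    refine ⟨V, hpV, MP99.ideal_le_of_comap_le (W := FBlow13.chartOpen π 𝔞 a.1) ?_ hV⟩
    let ι := (FBlow13.chartOpen π 𝔞 a.1).ι
    have hFE : (F a.1).comap ι = E.comap ι :=
      le_antisymm (Scheme.IdealSheafData.comap_mono ι (Scheme.IdealSheafData.comap_mono _
        (FBlow13.idealSpec_mono ((Ideal.span_singleton_le_iff_mem _).2 a.2)))) (MP99.comap_maxLE _ _)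
    calc (E ^ n * B).comap ι = ((FSch.idealSpec A (s a)).comap π).comap ι := by
          rw [hs, MP99.comap_mul, MP99.comap_mul, An92.FSch.comap_pow, An92.FSch.comap_pow, hFE, hkR a, MP99.comap_mul,
            An92.FSch.comap_pow, ← mul_assoc, ← pow_add, Nat.sub_add_cancel (le_of_add_le_left (hkn a ha))]
      _ ≤ _ := Scheme.IdealSheafData.comap_mono ι (Scheme.IdealSheafData.comap_mono π
          (FBlow13.idealSpec_mono (le_iSup₂ (f := fun a _ => s a) a ha)))

end Groth.Agent.FlatCrit65.Blow
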