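import Groth.Agent.FlatCrit65.Blow.Rank
import Mathlib

/-!
Freeness of the strict transform wherever the rank ideal is invertible.
-/

set_option autoImplicit false
set_option linter.style.haveILetI false
set_option linter.unusedSectionVars false

universe u

open TensorProduct Matrix
open Groth.Agent.Fit14

namespace Groth.Agent.FlatCrit65.Blow

variable {R S : Type u} [CommRing R] [CommRing S] [Algebra R S] [Algebra.FinitePresentation R S] [Module.Flat R S]
  (hgi : FlatCA.GeomIntegralFibres R S) (f : R) (r : ℕ) (M : Type u) [AddCommGroup M] [Module S M] [Module.Finite S M]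

include hgi in
set_option maxHeartbeats 1600000 in
/-- The ideal whose inverse images, once invertible, make the module free near the fibres. -/
theorem exists_rank_ideal_general
    (hfp : Module.FinitePresentation (Localization.Away (algebraMap R S f)) (LocalizedModule (Submonoid.powers (algebraMap R S f)) M))
    (hfree : ∀ (p : Ideal R) [p.IsPrime] [(p.map (algebraMap R S)).IsPrime], f ∉ p →
      Module.Free (Localization.AtPrime (p.map (algebraMap R S))) (LocalizedModule (p.map (algebraMap R S)).primeCompl M) ∧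
      Module.rank (Localization.AtPrime (p.map (algebraMap R S))) (LocalizedModule (p.map (algebraMap R S)).primeCompl M) = r) :
    ∃ I : Ideal R, I.FG ∧ I.radical = (Ideal.span {f}).radical ∧
      ∀ (R' S' M' : Type u) [CommRing R'] [CommRing S'] [Algebra R R'] [Algebra S S'] [Algebra R' S'] [Algebra R S']
        [IsScalarTower R S S'] [IsScalarTower R R' S'] [Algebra.IsPushout R S R' S']
        [AddCommGroup M'] [Module S' M'] [Module S M'] [IsScalarTower S S' M']
        (φ : M →ₗ[S] M'), IsBaseChange S' φ →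
        ∀ (γ : R'), IsSMulRegular R' γ → I.map (algebraMap R R') = Ideal.span {γ} →
        ∀ (p' : Ideal R') [p'.IsPrime],
          ∃ g : S', g ∉ p'.map (algebraMap R' S') ∧
            Module.Free (Localization.Away g)
              (LocalizedModule (Submonoid.powers g) (M' ⧸ FlatCA.powTorsion S' (algebraMap R' S' γ) M')) ∧
            Module.rank (Localization.Away g)
              (LocalizedModule (Submonoid.powers g) (M' ⧸ FlatCA.powTorsion S' (algebraMap R' S' γ) M')) = r := by
  classical
  haveI : Module.Projective R S := RG29.projective_of_geomIntegral hgi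
  obtain ⟨s, hs⟩ := Module.projective_def'.1 (inferInstance : Module.Projective R S)
  have hdec : ∀ ξ : S, ξ = (s ξ).sum fun j c => c • j := fun ξ => by
    conv_lhs => rw [show ξ = Finsupp.linearCombination R id (s ξ) from (LinearMap.congr_fun hs ξ).symm]
    rw [Finsupp.linearCombination_apply]
    rfl
  obtain ⟨n₀, x₀, hx₀⟩ := Fit14.exists_gens S M
  let n := n₀ + r
  let x : Fin n → M := Fin.append x₀ 0
  have hx : Submodule.span S (Set.range x) = ⊤ := by
    refine top_le_iff.1 (hx₀.ge.trans (Submodule.span_mono ?_))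
    rintro _ ⟨i, rfl⟩
    exact ⟨Fin.castAdd r i, Fin.append_left x₀ 0 i⟩
  let fS := algebraMap R S f
  obtain ⟨G, hGx, hG⟩ := exists_rels_finset x hx fS hfp
  let ι := (Fin (n - r) → G) × (Fin (n - r) → Fin n)
  let d : ι → S := fun i => (Matrix.of fun a b => (i.1 b : Fin n → S) (i.2 a)).det
  have hminors : minors (G : Set (Fin n → S)) (n - r) = Ideal.span (Set.range d) := by
    refine le_antisymm (Ideal.span_le.2 ?_) (Ideal.span_le.2 ?_)
    · rintro _ ⟨z, e, hz, rfl⟩
      exact Ideal.subset_span ⟨⟨fun b => ⟨z b, hz b⟩, e⟩, rfl⟩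
    · rintro _ ⟨i, rfl⟩
      exact Ideal.subset_span ⟨fun b => (i.1 b : Fin n → S), i.2, fun b => (i.1 b).2, rfl⟩
  let I₀ : Ideal R := Ideal.span (↑(Finset.univ.biUnion fun i => (s (d i)).support.image fun j => s (d i) j) : Set R)
  have hcoord : ∀ i j, s (d i) j ∈ I₀ := fun i j => by
    by_cases hj : j ∈ (s (d i)).support
    · exact Ideal.subset_span (Finset.mem_coe.2 (Finset.mem_biUnion.2 ⟨i, Finset.mem_univ _, Finset.mem_image.2 ⟨j, hj, rfl⟩⟩))
    · rw [Finsupp.notMem_support_iff.1 hj]; exact I₀.zero_mem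
  have hfpS : ∀ (p : Ideal R) [p.IsPrime], f ∉ p → fS ∉ p.map (algebraMap R S) := fun p _ hfp h => by
    haveI := isDomain_fiber hgi p
    exact hfp ((under_map (S := S) p).le h)
  have hI₀ : f ∈ I₀.radical := by
    rw [Ideal.radical_eq_sInf, Ideal.mem_sInf]
    rintro p ⟨hI₀p, hp⟩
    by_contra hfp'
    haveI := hp
    haveI := isDomain_fiber hgi p
    haveI := isPrime_map (S := S) p
    obtain ⟨-, δ, hδ, hδq⟩ := fitting_of_free r M (p.map (algebraMap R S)) (hfree p hfp')
    rw [ideal_eq_fitOf x hx, fitOf] at hδ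
    obtain ⟨k, hk⟩ := exists_pow_mul_mem_minors fS hG hδ
    rw [hminors] at hk
    refine hδq (((inferInstance : (p.map (algebraMap R S)).IsPrime).mem_or_mem ?_).resolve_left
      fun h => hfpS p hfp' ((inferInstance : (p.map (algebraMap R S)).IsPrime).mem_of_pow_mem k h))
    refine Ideal.span_le.2 ?_ hk
    rintro _ ⟨i, rfl⟩
    rw [SetLike.mem_coe, hdec (d i), Finsupp.sum]
    refine Ideal.sum_mem _ fun j _ => ?_
    rw [Algebra.smul_def]
    exact Ideal.mul_mem_right _ _ (Ideal.mem_map_of_mem _ (hI₀p (hcoord i j)))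
  let I := Ideal.span {f} * I₀
  refine ⟨I, Submodule.FG.mul ⟨{f}, by simp⟩ ⟨_, rfl⟩, ?_, ?_⟩
  · refine le_antisymm (Ideal.radical_mono Ideal.mul_le_left) (Ideal.radical_le_radical_iff.2 ?_)
    rw [Ideal.span_le, Set.singleton_subset_iff, SetLike.mem_coe]
    obtain ⟨k, hk⟩ := hI₀
    exact ⟨k + 1, by rw [pow_succ']; exact Ideal.mul_mem_mul (Ideal.mem_span_singleton_self f) hk⟩
  intro R' S' M' _ _ _ _ _ _ _ _ _ _ _ _ _ φ hφ γ hγ hIγ p' _
  -- the invertible ideal
  let fR := algebraMap R R' f
  have hmap : Ideal.span {fR} * I₀.map (algebraMap R R') = Ideal.span {γ} := by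
    rw [← hIγ, Ideal.map_mul,
      show (Ideal.span {f}).map (algebraMap R R') = Ideal.span {fR} by rw [Ideal.map_span, Set.image_singleton]]
  obtain ⟨c, hc, hcγ⟩ := Ideal.mem_span_singleton_mul.1 (hmap.ge (Ideal.mem_span_singleton_self γ))
  have hanzd : ∀ z : R', γ * z = 0 → z = 0 := fun z hz => hγ.right_eq_zero_of_smul hz
  have haR : γ = fR * c := hcγ.symm
  have hfnzd : ∀ z : R', fR * z = 0 → z = 0 := fun z hz => hanzd z (by rw [haR, mul_right_comm, hz, zero_mul])
  have hcnzd : ∀ z : R', c * z = 0 → z = 0 := fun z hz => hanzd z (by rw [haR, mul_assoc, hz, mul_zero])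
  have hdiv : ∀ i ∈ I₀, ∃ u : R', algebraMap R R' i = c * u := fun i hi => by
    obtain ⟨u, hu⟩ := Ideal.mem_span_singleton'.1
      (hmap.le (Ideal.mul_mem_mul (Ideal.mem_span_singleton_self fR) (Ideal.mem_map_of_mem _ hi)))
    refine ⟨u, (sub_eq_zero.1 (hfnzd _ ?_)).symm⟩
    rw [mul_sub, ← hu, haR]
    ring
  haveI : Algebra.IsPushout R R' S S' := Algebra.IsPushout.symm inferInstance
  have hS' : IsBaseChange R' (IsScalarTower.toAlgHom R S S').toLinearMap :=
    Algebra.IsPushout.out (R := R) (S := R') (R' := S) (S' := S')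
  haveI : Module.Flat R' S' := Module.Flat.isBaseChange R R' S S' hS'
  haveI : IsDomain (p'.Fiber S') := isDomain_fiber_pushout hgi p'
  let q' := p'.map (algebraMap R' S')
  haveI : q'.IsPrime := isPrime_map p'
  choose u hu using fun i j => hdiv _ (hcoord i j)
  let g : ι → S' := fun i => ∑ j ∈ (s (d i)).support, u i j • algebraMap S S' j
  have hg : ∀ i, algebraMap S S' (d i) = algebraMap R' S' c * g i := fun i => by
    conv_lhs => rw [hdec (d i)]
    rw [Finsupp.sum, map_sum, Finset.mul_sum]
    refine Finset.sum_congr rfl fun j _ => ?_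
    rw [Algebra.smul_def, map_mul, ← IsScalarTower.algebraMap_apply, IsScalarTower.algebraMap_apply R R' S', hu,
      map_mul, Algebra.smul_def, mul_assoc]
  -- some divided minor avoids the point
  obtain ⟨i, hi⟩ : ∃ i, g i ∉ q' := by
    by_contra hne
    push Not at hne
    have hfun : ∀ j (z : S'), z ∈ q' → hS'.lift (Algebra.linearMap R R' ∘ₗ Finsupp.lapply j ∘ₗ s) z ∈ p' := by
      intro j z hz
      have hz' : z ∈ (p' • ⊤ : Submodule R' S') := by
        rw [Ideal.smul_top_eq_map]
        exact hz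
      refine Submodule.smul_induction_on hz' (fun b hb w _ => ?_) fun v w hv hw => ?_
      · rw [map_smul, smul_eq_mul]
        exact p'.mul_mem_right _ hb
      · rw [map_add]
        exact p'.add_mem hv hw
    have hval : ∀ i j, algebraMap R R' (s (d i) j) =
        c * hS'.lift (Algebra.linearMap R R' ∘ₗ Finsupp.lapply j ∘ₗ s) (g i) := fun i j => by
      rw [← smul_eq_mul, ← map_smul, Algebra.smul_def, ← hg i]
      exact (hS'.lift_eq (Algebra.linearMap R R' ∘ₗ Finsupp.lapply j ∘ₗ s) (d i)).symm
    have hle : I₀.map (algebraMap R R') ≤ Ideal.span {c} * p' := by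
      rw [Ideal.map_le_iff_le_comap, Ideal.span_le]
      intro b hb
      obtain ⟨i, -, hb⟩ := Finset.mem_biUnion.1 (Finset.mem_coe.1 hb)
      obtain ⟨j, -, rfl⟩ := Finset.mem_image.1 hb
      rw [SetLike.mem_coe, Ideal.mem_comap, hval]
      exact Ideal.mul_mem_mul (Ideal.mem_span_singleton_self c) (hfun j _ (hne i))
    obtain ⟨y, hy, hcy⟩ := Ideal.mem_span_singleton_mul.1 (hle hc)
    have : y = 1 := sub_eq_zero.1 (hcnzd _ (by rw [mul_sub, mul_one, hcy, sub_self]))
    exact Ideal.IsPrime.ne_top ‹p'.IsPrime› ((Ideal.eq_top_iff_one p').2 (this ▸ hy))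
  -- the base change of the module
  haveI : Module.Finite S' M' := Module.Finite.equiv hφ.equiv
  let x' : Fin n → M' := φ ∘ x
  have hx' : Submodule.span S' (Set.range x') = ⊤ := by
    have h1 := congrArg (Submodule.map hφ.equiv.toLinearMap) (span_range_one_tmul S' x hx)
    rw [Submodule.map_span, Submodule.map_top, LinearEquiv.range, ← Set.range_comp] at h1
    convert h1 using 3
    funext k
    simp [x', IsBaseChange.equiv_tmul]
  let a' := algebraMap R' S' γ
  let T := FlatCA.powTorsion S' a' M'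
  have hT : ∀ m, m ∈ T ↔ ∃ k : ℕ, a' ^ k • m = 0 := fun m => by
    rw [show T = ⨆ k : ℕ, Submodule.torsionBy S' M' (a' ^ k) from rfl, Submodule.mem_iSup_of_directed]
    · simp [Submodule.mem_torsionBy_iff]
    · refine Monotone.directed_le fun k l hkl m hm => ?_
      rw [Submodule.mem_torsionBy_iff] at hm ⊢
      rw [← Nat.sub_add_cancel hkl, pow_add, mul_smul, hm, smul_zero]
  have hnzd : ∀ {b : R'}, (∀ z : R', b * z = 0 → z = 0) → algebraMap R' S' b ∈ nonZeroDivisors S' := by
    intro b hb
    rw [mem_nonZeroDivisors_iff_right]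
    intro z hz
    refine Module.Flat.isSMulRegular_of_nonZeroDivisors (M := S') ((mem_nonZeroDivisors_iff_left).2 hb) ?_
    show b • z = b • (0 : S')
    rw [smul_zero, Algebra.smul_def, mul_comm, hz]
  have ha' : a' = algebraMap R S' f * algebraMap R' S' c := by
    rw [show a' = algebraMap R' S' γ from rfl, haR, map_mul, IsScalarTower.algebraMap_apply R R' S' f]
  have haS' : a' ∈ nonZeroDivisors S' := hnzd hanzd
  -- lower Fitting ideals
  have hlow : ∀ j < r, Fitt.ideal S' (M' ⧸ T) j = ⊥ := fun j hj => by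
    refine ideal_eq_bot_of_torsion j a' haS' T.mkQ (Submodule.mkQ_surjective _)
      (fun m hm => (hT m).1 ((Submodule.Quotient.mk_eq_zero _).1 hm)) ?_
    rw [← ideal_congr hφ.equiv, ideal_baseChange, Ideal.map_eq_bot_iff_le_ker]
    intro ξ hξ
    obtain ⟨k, hk⟩ := pow_mul_eq_zero_of_forall (fun p _ => isDomain_fiber hgi p) f ξ fun p _ hfp' => by
      haveI := isDomain_fiber hgi p
      haveI := isPrime_map (S := S) p
      exact (fitting_of_free r M (p.map (algebraMap R S)) (hfree p hfp')).1 j hj ξ hξ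
    have h1 := congrArg (algebraMap S S') hk
    rw [map_mul, map_pow, map_zero, ← IsScalarTower.algebraMap_apply, IsScalarTower.algebraMap_apply R R' S'] at h1
    exact (mem_nonZeroDivisors_iff_left.1 (pow_mem (hnzd hfnzd) k)) _ h1
  -- the Fitting ideal of rank `r`
  let Gim : Set (Fin n → S') := (fun v => algebraMap S S' ∘ v) '' (G : Set (Fin n → S))
  have hGim : Gim ⊆ rels (R := S') x' := by
    rintro _ ⟨v, hv, rfl⟩
    have := congrArg φ (mem_rels.1 (hGx hv))
    rw [map_sum, map_zero] at this
    rw [SetLike.mem_coe, mem_rels, ← this]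
    exact Finset.sum_congr rfl fun k _ => by
      show algebraMap S S' (v k) • φ (x k) = φ (v k • x k)
      rw [map_smul, algebraMap_smul]
  have hmin : minors Gim (n - r) ≤ Ideal.span {algebraMap R' S' c} := by
    rw [minors_image, hminors, Ideal.map_span, Ideal.span_le]
    rintro _ ⟨_, ⟨i, rfl⟩, rfl⟩
    rw [SetLike.mem_coe, hg i]
    exact Ideal.mul_mem_right _ _ (Ideal.mem_span_singleton_self _)
  have he : Function.Injective i.2 := by
    by_contra h
    obtain ⟨k, l, hkl, hne⟩ := Function.not_injective_iff.1 h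
    have h0 : d i = 0 := det_zero_of_row_eq hne (funext fun b => by simp [hkl])
    have := hg i
    rw [h0, map_zero] at this
    exact hi ((mem_nonZeroDivisors_iff_left.1 (hnzd hcnzd)) _ this.symm ▸ q'.zero_mem)
  have hD : g i ^ (n - r) ∈ minors (rels (R := S') (T.mkQ ∘ x') : Set (Fin n → S')) (n - r) := by
    refine pow_mem_minors_of_quotient x' Gim hGim (algebraMap R' S' c) hmin T.mkQ (fun m hm => ?_)
      (fun b => algebraMap S S' ∘ (i.1 b : Fin n → S)) (fun b => ⟨_, (i.1 b).2, rfl⟩) i.2 he (g i) ?_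
    · refine (Submodule.Quotient.mk_eq_zero _).2 ((hT m).2 ⟨1, ?_⟩)
      rw [pow_one, ha', mul_smul, hm, smul_zero]
    · rw [← hg i, RingHom.map_det]
      rfl
  obtain ⟨g', hg', h⟩ := free_away_of_fitting r (Nat.le_add_left r n₀) (T.mkQ ∘ x')
    (by rw [Set.range_comp, ← Submodule.map_span, hx', Submodule.map_top, Submodule.range_mkQ]) q'
    _ hD (fun h => hi ((inferInstance : q'.IsPrime).mem_of_pow_mem _ h)) hlow
  exact ⟨g', hg', h⟩

end Groth.Agent.FlatCrit65.Blow
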