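import Groth.Agent.FlatCrit65.Blow.StrictClosure
import Mathlib

/-!
The strict transform is the blow-up of the pulled back centre.
-/

set_option autoImplicit false
set_option linter.style.haveILetI false
set_option backward.isDefEq.respectTransparency.types false

universe u

open CategoryTheory CategoryTheory.Limits AlgebraicGeometry TopologicalSpace

noncomputable section

namespace Groth.Agent.FlatCrit65.Blow

/-- A morphism pulling the exceptional ideal back to an effective Cartier ideal lands in the strict transform. -/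
theorem comap_strict_eq_bot {X' T : Scheme.{u}} (E : X'.IdealSheafData) (𝒥 : X'.IdealSheafData)
    (h𝒥 : ∀ (V : X'.affineOpens) (a : Γ(X', V.1)), a ∈ 𝒥.ideal V ↔
      BlowUp.KilledByPowerNear E (Coh.structureModule X') V a)
    (k : T ⟶ X') (hk : BlowUp.IsEffCartierIdeal (E.comap k)) : 𝒥.comap k = ⊥ := by
  refine le_bot_iff.1 (MP99.le_of_local fun t => ?_)
  obtain ⟨V, hV, -⟩ := MP99.exists_affine_le (k t) (W := ⊤) trivial
  obtain ⟨W, hW, hWV, g, hg0, hg⟩ := MP99.exists_nzd_le hk t (W := k ⁻¹ᵁ V.1) hV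
  refine ⟨W, hW, ?_⟩
  rw [MP99.ideal_comap _ k V W hWV, Scheme.IdealSheafData.ideal_bot, Pi.bot_apply, Ideal.map_le_iff_le_comap]
  intro a ha
  obtain ⟨n, hn⟩ := (h𝒥 V a).1 ha
  let φ := (k.appLE V.1 W.1 hWV).hom
  have hle : ((E ^ n).ideal V).map φ ≤ (Submodule.span Γ(T, W.1) {φ a}).annihilator := by
    rw [Ideal.map_le_iff_le_comap]
    intro c hc
    show φ c ∈ (Submodule.span Γ(T, W.1) {φ a}).annihilator
    rw [Submodule.mem_annihilator_span_singleton, smul_eq_mul, ← map_mul]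
    exact (congrArg φ (hn c hc)).trans (map_zero φ)
  have hgn : g ^ n ∈ ((E ^ n).ideal V).map φ := by
    rw [← MP99.ideal_comap _ k V W hWV, An92.FSch.comap_pow, Scheme.IdealSheafData.ideal_pow, Pi.pow_apply, hg,
      Ideal.span_singleton_pow]
    exact Ideal.mem_span_singleton_self _
  have h0 := hle hgn
  rw [Submodule.mem_annihilator_span_singleton, smul_eq_mul] at h0
  show φ a ∈ (⊥ : Ideal Γ(T, W.1))
  exact (Ideal.mem_bot).2 ((mem_nonZeroDivisors_iff_right.1 (pow_mem hg0 n)) _ (by rw [mul_comm]; exact h0))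

/-- The strict transform of a base change of a blow-up is the blow-up of the pulled back centre. -/
theorem isBlowUp_strict {X S X' S' : Scheme.{u}} {f : X ⟶ S} {b : S' ⟶ S} {𝓘 : S.IdealSheafData}
    (hb : BlowUp.IsBlowUp b 𝓘) {p₁ : X' ⟶ X} {p₂ : X' ⟶ S'} (H : IsPullback p₁ p₂ f b) (𝒥 : X'.IdealSheafData)
    (h𝒥 : ∀ (V : X'.affineOpens) (a : Γ(X', V.1)), a ∈ 𝒥.ideal V ↔
      BlowUp.KilledByPowerNear ((𝓘.comap f).comap p₁) (Coh.structureModule X') V a) :
    BlowUp.IsBlowUp (𝒥.subschemeι ≫ p₁) (𝓘.comap f) := by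
  have hexc : (𝓘.comap f).comap p₁ = (𝓘.comap b).comap p₂ := by
    rw [← Scheme.IdealSheafData.comap_comp, H.w, Scheme.IdealSheafData.comap_comp]
  refine ⟨?_, fun T g hg => ?_⟩
  · rw [Scheme.IdealSheafData.comap_comp, hexc, ← Scheme.IdealSheafData.comap_comp]
    exact isEffCartier_comap_strict p₂ _ hb.1 𝒥 (hexc ▸ h𝒥)
  · have hg' : BlowUp.IsEffCartierIdeal (𝓘.comap (g ≫ f)) := by
      rw [Scheme.IdealSheafData.comap_comp]; exact hg
    obtain ⟨k, hk, hku⟩ := hb.2 T (g ≫ f) hg'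
    let l : T ⟶ X' := H.lift g k hk.symm
    have hl : 𝒥 ≤ l.ker := by
      rw [← Scheme.IdealSheafData.map_bot, Scheme.IdealSheafData.le_map_iff_comap_le,
        comap_strict_eq_bot _ 𝒥 h𝒥 l (by rw [← Scheme.IdealSheafData.comap_comp, H.lift_fst]; exact hg)]
    refine ⟨IsClosedImmersion.lift 𝒥.subschemeι l (by simpa using hl), ?_, fun m hm => ?_⟩
    · show _ ≫ _ ≫ p₁ = g
      rw [IsClosedImmersion.lift_fac_assoc, H.lift_fst]
    · rw [← cancel_mono 𝒥.subschemeι, IsClosedImmersion.lift_fac]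
      have hm1 : (m ≫ 𝒥.subschemeι) ≫ p₁ = g := (Category.assoc _ _ _).trans hm
      refine H.hom_ext (by rw [H.lift_fst, hm1]) ?_
      rw [H.lift_snd]
      exact hku _ (show ((m ≫ 𝒥.subschemeι) ≫ p₂) ≫ b = g ≫ f by rw [Category.assoc, ← H.w, ← Category.assoc, hm1])

end Groth.Agent.FlatCrit65.Blow
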