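import Groth.Agent.FlatCrit65.Blow.OpenImm
import Mathlib

/-!
The strict transform is the scheme-theoretic closure of the part off the exceptional divisor; a section identifies
it with the base.
-/

set_option autoImplicit false
set_option linter.style.haveILetI false
set_option backward.isDefEq.respectTransparency.types false

universe u

open CategoryTheory CategoryTheory.Limits AlgebraicGeometry TopologicalSpace Opposite

noncomputable section

namespace Groth.Agent.FlatCrit65.Blow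

/-- The exceptional ideal stays invertible on the strict transform. -/
theorem isEffCartier_comap_strict {X' T : Scheme.{u}} (p : X' ⟶ T) (E : T.IdealSheafData)
    (hE : BlowUp.IsEffCartierIdeal E) (𝒥 : X'.IdealSheafData)
    (h𝒥 : ∀ (V : X'.affineOpens) (a : Γ(X', V.1)), a ∈ 𝒥.ideal V ↔
      BlowUp.KilledByPowerNear (E.comap p) (Coh.structureModule X') V a) :
    BlowUp.IsEffCartierIdeal (E.comap (𝒥.subschemeι ≫ p)) := by
  intro z
  have hloc : MP99.IsLocPrincipal (E.comap p) :=
    MP99.isLocPrincipal_comap (MP99.isLocPrincipal_of_isEffCartier hE) p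
  obtain ⟨V, hV, -, g, hg⟩ := MP99.exists_principal_le hloc (𝒥.subschemeι z) (W := ⊤) trivial
  let W : 𝒥.subscheme.affineOpens := ⟨𝒥.subschemeι ⁻¹ᵁ V.1, V.2.preimage 𝒥.subschemeι⟩
  refine ⟨W, hV, (𝒥.subschemeι.app V.1).hom g, ?_, ?_⟩
  · rw [mem_nonZeroDivisors_iff_right]
    intro a ha
    obtain ⟨a', rfl⟩ := 𝒥.subschemeι.app_surjective (U := V.1) V.2 a
    have hker : ∀ c : Γ(X', V.1), (𝒥.subschemeι.app V.1).hom c = 0 ↔ c ∈ 𝒥.ideal V := fun c => by
      rw [← RingHom.mem_ker, ← Scheme.Hom.ker_apply _ V, Scheme.IdealSheafData.ker_subschemeι]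
    rw [← map_mul] at ha
    obtain ⟨n, hn⟩ := (h𝒥 V _).1 ((hker _).1 ha)
    refine (hker a').2 ((h𝒥 V a').2 ⟨n + 1, fun c hc => ?_⟩)
    rw [Scheme.IdealSheafData.ideal_pow, Pi.pow_apply, hg, Ideal.span_singleton_pow,
      Ideal.mem_span_singleton'] at hc
    obtain ⟨d, rfl⟩ := hc
    have h1 : g ^ n * (a' * g) = 0 := hn (g ^ n) (by
      rw [Scheme.IdealSheafData.ideal_pow, Pi.pow_apply, hg, Ideal.span_singleton_pow]
      exact Ideal.mem_span_singleton_self _)
    change d * g ^ (n + 1) * a' = 0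
    calc d * g ^ (n + 1) * a' = d * (g ^ n * (a' * g)) := by ring
      _ = 0 := by rw [h1, mul_zero]
  · rw [Scheme.IdealSheafData.comap_comp, MP99.ideal_comap _ 𝒥.subschemeι V W le_rfl, hg, Ideal.map_span,
      Set.image_singleton, Scheme.Hom.app_eq_appLE]

/-- Two morphisms to a separated scheme agreeing on a scheme-theoretically dense source agree. -/
theorem ext_of_dominant {W Z P T : Scheme.{u}} (j : W ⟶ Z) [IsSchemeTheoreticallyDominant j] [QuasiCompact j]
    (p : P ⟶ T) [IsSeparated p] (a b : Z ⟶ P) (hp : a ≫ p = b ≫ p) (h : j ≫ a = j ≫ b) : a = b := by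
  let k := pullback.fst (pullback.lift a b hp) (pullback.diagonal p)
  haveI : IsClosedImmersion k := inferInstance
  let l : W ⟶ pullback (pullback.lift a b hp) (pullback.diagonal p) := pullback.lift j (j ≫ a) (by
    apply pullback.hom_ext
    · rw [Category.assoc, pullback.lift_fst, Category.assoc, pullback.diagonal_fst, Category.comp_id]
    · rw [Category.assoc, pullback.lift_snd, Category.assoc, pullback.diagonal_snd, Category.comp_id, h])
  have hl : l ≫ k = j := pullback.lift_fst _ _ _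
  haveI : IsIso k := by
    rw [IsClosedImmersion.isIso_iff_ker_eq_bot]
    refine le_bot_iff.1 ?_
    calc k.ker ≤ (l ≫ k).ker := Scheme.Hom.le_ker_comp _ _
      _ = ⊥ := by rw [hl]; exact j.ker_eq_bot
  rw [← cancel_epi k]
  have e1 := congrArg (fun t => t ≫ pullback.fst p p)
    (pullback.condition (f := pullback.lift a b hp) (g := pullback.diagonal p))
  have e2 := congrArg (fun t => t ≫ pullback.snd p p)
    (pullback.condition (f := pullback.lift a b hp) (g := pullback.diagonal p))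
  simp only [Category.assoc, pullback.lift_fst, pullback.lift_snd, pullback.diagonal_fst, pullback.diagonal_snd,
    Category.comp_id] at e1 e2
  exact e1.trans e2.symm

/-- Isomorphisms over an open are stable under base change. -/
theorem isIso_baseChange_restrict {X S X' S' : Scheme.{u}} {f : X ⟶ S} {U : S.Opens} [IsIso (f ∣_ U)]
    {b : S' ⟶ S} {p₁ : X' ⟶ X} {p₂ : X' ⟶ S'} (H : IsPullback p₁ p₂ f b) {O : S'.Opens} (hO : O ≤ b ⁻¹ᵁ U) :
    IsIso (p₂ ∣_ O) := by
  have sqf := isPullback_morphismRestrict f U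
  have big : IsPullback ((p₂ ⁻¹ᵁ O).ι ≫ p₁) (p₂ ∣_ O) f (O.ι ≫ b) :=
    (isPullback_morphismRestrict p₂ O).flip.paste_horiz H
  rw [show O.ι ≫ b = (S'.homOfLE hO ≫ (b ∣_ U)) ≫ U.ι from by
    rw [Category.assoc, morphismRestrict_ι, Scheme.homOfLE_ι_assoc]] at big
  haveI : MorphismProperty.isomorphisms Scheme.{u} (f ∣_ U) := ‹IsIso (f ∣_ U)›
  exact (MorphismProperty.isomorphisms Scheme.{u}).of_isPullback (IsPullback.of_right' big sqf.flip) ‹_›

/-- With a section, the strict transform is isomorphic to the base. -/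
theorem isIso_of_section {Z P T : Scheme.{u}} (ι : Z ⟶ P) [IsClosedImmersion ι] (p : P ⟶ T) [IsSeparated p]
    (E : T.IdealSheafData) (hE : BlowUp.IsEffCartierIdeal E) (hEZ : BlowUp.IsEffCartierIdeal (E.comap (ι ≫ p)))
    [IsIso (p ∣_ E.support.compl)] [IsIso ((ι ≫ p) ∣_ E.support.compl)] (σ : T ⟶ P) (hσ : σ ≫ p = 𝟙 T) :
    IsIso (ι ≫ p) := by
  let O : T.Opens := E.support.compl
  let q := ι ≫ p
  obtain ⟨hdT, haT⟩ := H98Strict.dominant_compl hE
  obtain ⟨hdZ, haZ⟩ := H98Strict.dominant_compl hEZ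
  rw [show (E.comap (ι ≫ p)).support.compl = q ⁻¹ᵁ O from by
    rw [Scheme.IdealSheafData.support_comap]; rfl] at hdZ haZ
  haveI : IsSchemeTheoreticallyDominant (q ⁻¹ᵁ O).ι := hdZ
  haveI : IsAffineHom (q ⁻¹ᵁ O).ι := haZ
  have hfac : ι = q ≫ σ := by
    refine ext_of_dominant (q ⁻¹ᵁ O).ι p ι (q ≫ σ) (by rw [Category.assoc, hσ, Category.comp_id]) ?_
    have sq := isPullback_morphismRestrict p O
    have h1 : ((q ⁻¹ᵁ O).ι ≫ ι) ≫ p = (q ∣_ O) ≫ O.ι := by rw [Category.assoc, morphismRestrict_ι]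
    have h2 : ((q ⁻¹ᵁ O).ι ≫ q ≫ σ) ≫ p = (q ∣_ O) ≫ O.ι := by
      simp only [Category.assoc, hσ, Category.comp_id, morphismRestrict_ι]
    let a := sq.lift _ _ h1.symm
    let b := sq.lift _ _ h2.symm
    have hab : a = b := by rw [← cancel_mono (p ∣_ O), IsPullback.lift_fst, IsPullback.lift_fst]
    exact ((sq.lift_snd _ _ _).symm.trans (congrArg (· ≫ _) hab)).trans (sq.lift_snd _ _ _)
  haveI : IsSeparated σ := by
    haveI : Mono σ := mono_of_mono_fac hσ
    infer_instance
  haveI : IsClosedImmersion (q ≫ σ) := by rw [← hfac]; infer_instance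
  haveI : IsClosedImmersion q := IsClosedImmersion.of_comp q σ
  rw [IsClosedImmersion.isIso_iff_ker_eq_bot]
  refine le_bot_iff.1 ?_
  haveI : IsSchemeTheoreticallyDominant O.ι := hdT
  calc (ι ≫ p).ker ≤ ((inv (q ∣_ O) ≫ (q ⁻¹ᵁ O).ι) ≫ q).ker := Scheme.Hom.le_ker_comp _ _
    _ = O.ι.ker := by rw [Category.assoc, ← morphismRestrict_ι, IsIso.inv_hom_id_assoc]
    _ = ⊥ := O.ι.ker_eq_bot

end Groth.Agent.FlatCrit65.Blow
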