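import Mathlib

/-!
Rings in which finitely generated ideals containing a power of a given element are principal, and the
compactness principle producing an ideal of blow-up from a property of these rings.
-/

set_option autoImplicit false
set_option linter.style.haveILetI false
set_option linter.unusedSectionVars false

universe u

open TensorProduct

namespace Groth.Agent.FlatCrit65.Blow

/-- The element is regular and the finitely generated ideals containing one of its powers are principal. -/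
def IsValuative (S : Type u) [CommRing S] (f : S) : Prop :=
  IsSMulRegular S f ∧ ∀ I : Ideal S, I.FG → (∃ k : ℕ, f ^ k ∈ I) → ∃ g : S, I = Ideal.span {g}

/-- The ideal becomes principal, generated by one of its elements, which is regular. -/
def IsAdapted {R : Type u} [CommRing R] (J : Ideal R) (T : Type u) [CommRing T] [Algebra R T] : Prop :=
  ∃ j ∈ J, IsSMulRegular T (algebraMap R T j) ∧ ∀ b ∈ J, algebraMap R T j ∣ algebraMap R T b

theorem regular_of_dvd_pow {S : Type u} [CommRing S] {f g : S} {k : ℕ} (hf : IsSMulRegular S f) (h : g ∣ f ^ k) :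
    IsSMulRegular S g := by
  obtain ⟨w, hw⟩ := h
  intro a b hab
  refine hf.pow k ?_
  simp only [smul_eq_mul] at hab ⊢
  rw [hw, mul_comm g w, mul_assoc, hab, mul_assoc]

section Flat

variable {S : Type u} [CommRing S] [IsLocalRing S] {f : S} {M : Type u} [AddCommGroup M] [Module S M]

theorem exists_unit_coord (hS : IsValuative S f) {l : ℕ} (x a : Fin l → S) (s : ℕ)
    (hxa : ∑ i, x i * a i = 0) (ha : ¬ ∀ i, f ^ s ∣ a i) :
    ∃ (k : Fin l) (b : Fin l → S), b k = 1 ∧ ∑ i, x i * b i = 0 := by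
  classical
  let I : Ideal S := Ideal.span (Set.range a) ⊔ Ideal.span {f ^ s}
  obtain ⟨g, hg⟩ := hS.2 I ((Submodule.fg_span (Set.finite_range a)).sup (Submodule.fg_span_singleton _))
    ⟨s, Ideal.mem_sup_right (Ideal.mem_span_singleton_self _)⟩
  have hmem : ∀ y ∈ I, g ∣ y := fun y hy => Ideal.mem_span_singleton.1 (hg ▸ hy)
  obtain ⟨w, hw⟩ := hmem (f ^ s) (Ideal.mem_sup_right (Ideal.mem_span_singleton_self _))
  choose v hv using fun i => hmem (a i) (Ideal.mem_sup_left (Ideal.subset_span ⟨i, rfl⟩))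
  have hgreg : IsSMulRegular S g := regular_of_dvd_pow hS.1 ⟨w, hw⟩
  by_cases hk : ∃ k, IsUnit (v k)
  · obtain ⟨k, u, hu⟩ := hk
    refine ⟨k, fun i => v i * (↑u⁻¹ : S), by simp [← hu], ?_⟩
    have : ∑ i, x i * v i = 0 := hgreg.right_eq_zero_of_smul <| by
      rw [smul_eq_mul, Finset.mul_sum, ← hxa]
      refine Finset.sum_congr rfl fun i _ => ?_
      rw [hv i]; ring
    simp only [← mul_assoc, ← Finset.sum_mul, this, zero_mul]
  · push Not at hk
    obtain ⟨y, hy, z, hz, hyz⟩ := Submodule.mem_sup.1 (show g ∈ I from hg ▸ Ideal.mem_span_singleton_self g)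
    obtain ⟨c, rfl⟩ := Ideal.mem_span_singleton.1 hz
    obtain ⟨u, rfl⟩ := (Ideal.mem_span_range_iff_exists_fun).1 hy
    have h1 : (∑ i, u i * v i) + w * c = 1 := hgreg <| by
      simp only [smul_eq_mul, mul_one]
      refine Eq.trans ?_ hyz
      rw [mul_add, Finset.mul_sum]
      congr 1
      · exact Finset.sum_congr rfl fun i _ => by rw [hv i]; ring
      · rw [hw]; ring
    have hm : (∑ i, u i * v i) ∈ IsLocalRing.maximalIdeal S :=
      Ideal.sum_mem _ fun i _ => Ideal.mul_mem_left _ _ (hk i)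
    have hwu : IsUnit w := by
      rcases IsLocalRing.isUnit_or_isUnit_one_sub_self (∑ i, u i * v i) with h | h
      · exact absurd h hm
      · rw [← h1, add_sub_cancel_left] at h
        exact isUnit_of_mul_isUnit_left h
    obtain ⟨w', rfl⟩ := hwu
    exact absurd (fun i => ⟨v i * (↑w'⁻¹ : S), by rw [hv i, hw, mul_assoc, mul_left_comm (w' : S), Units.mul_inv, mul_one]⟩) ha

/-- Flatness over a valuative ring of a module without torsion is tested after inverting the element. -/
theorem flat_of_valuative (hS : IsValuative S f) (hM : IsSMulRegular M f) {Q : Type u} [AddCommGroup Q] [Module S Q]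
    [Module.Flat S Q] (φ : M →ₗ[S] Q) (hφ : Function.Injective φ)
    (hsurj : ∀ q : Q, ∃ (n : ℕ) (m : M), f ^ n • q = φ m) : Module.Flat S M := by
  classical
  rw [Module.Flat.iff_forall_isTrivialRelation]
  intro l
  induction l with
  | zero => intro x m _; exact ⟨0, fun i => i.elim0, Fin.elim0, fun i => i.elim0, fun j => j.elim0⟩
  | succ l ih =>
    intro x m hxm
    obtain ⟨k, a, y, hy, hxa⟩ := Module.Flat.isTrivialRelation_of_sum_smul_eq_zero (M := Q) (f := x)
      (x := fun i => φ (m i)) (by rw [← φ.map_zero, ← hxm, map_sum]; simp)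
    choose n y' hy' using fun j => hsurj (y j)
    let s := ∑ j, n j
    have hn : ∀ j, n j ≤ s := fun j => Finset.single_le_sum (f := n) (fun _ _ => Nat.zero_le _) (Finset.mem_univ j)
    let z : Fin k → M := fun j => f ^ (s - n j) • y' j
    have hz : ∀ j, f ^ s • y j = φ (z j) := fun j => by
      rw [map_smul, ← hy', smul_smul, ← pow_add, Nat.sub_add_cancel (hn j)]
    have hm : ∀ i, f ^ s • m i = ∑ j, a i j • z j := fun i => hφ <| by
      rw [map_smul, show φ (m i) = ∑ j, a i j • y j from hy i, Finset.smul_sum, map_sum]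
      refine Finset.sum_congr rfl fun j _ => ?_
      rw [smul_comm, hz j, ← φ.map_smul]
    by_cases hall : ∀ i j, f ^ s ∣ a i j
    · choose a' ha' using hall
      refine ⟨k, a', z, fun i => hM.pow s ?_, fun j => (hS.1.pow s).right_eq_zero_of_smul ?_⟩
      · simp only [hm i, Finset.smul_sum, smul_smul, ← ha']
      · rw [smul_eq_mul, Finset.mul_sum, ← hxa j]
        refine Finset.sum_congr rfl fun i _ => ?_
        rw [ha' i j]; ring
    · push Not at hall
      obtain ⟨i₁, j₁, hij⟩ := hall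
      obtain ⟨p, b, hb, hxb⟩ := exists_unit_coord hS x (fun i => a i j₁) s (hxa j₁) fun h => hij (h i₁)
      rw [Fin.sum_univ_succAbove _ p, hb, mul_one] at hxb
      have hxp : x p = -∑ i, x (p.succAbove i) * b (p.succAbove i) := eq_neg_of_add_eq_zero_left hxb
      have h0 : ∑ i, x (p.succAbove i) • (m (p.succAbove i) - b (p.succAbove i) • m p) = 0 := by
        rw [Fin.sum_univ_succAbove _ p, hxp, neg_smul, Finset.sum_smul, neg_add_eq_sub, ← Finset.sum_sub_distrib] at hxm
        rw [← hxm]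
        exact Finset.sum_congr rfl fun i _ => by rw [smul_sub, smul_smul]
      obtain ⟨k', a₂, y₂, hy₂, hxa₂⟩ := ih h0
      refine ⟨k' + 1, Fin.insertNth p (Fin.cons 1 0) (fun i => Fin.cons (b (p.succAbove i)) (a₂ i)),
        Fin.cons (m p) y₂, fun i => ?_, fun j => ?_⟩
      · refine Fin.succAboveCases p ?_ (fun i => ?_) i
        · simp [Fin.sum_univ_succ]
        · simp [Fin.sum_univ_succ, ← hy₂ i]
      · rw [Fin.sum_univ_succAbove _ p]
        refine Fin.cases ?_ (fun j => ?_) j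
        · simp [hxb]
        · simp [hxa₂ j]

end Flat

section Compactness

open Filter

variable {R : Type u} [CommRing R]

theorem exists_generator_mem {T : Type u} [CommRing T] [Algebra R T] [IsLocalRing T] {J : Ideal R} {s : Finset R}
    (hs : Ideal.span (s : Set R) = J) (h : IsAdapted J T) :
    ∃ g ∈ s, IsSMulRegular T (algebraMap R T g) ∧ ∀ b ∈ J, algebraMap R T g ∣ algebraMap R T b := by
  classical
  obtain ⟨j, hj, hjreg, hdvd⟩ := h
  have hsub : ∀ g ∈ s, g ∈ J := fun g hg => hs ▸ Ideal.subset_span hg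
  choose! t ht using fun g (hg : g ∈ s) => hdvd g (hsub g hg)
  rw [← hs, Ideal.span, Submodule.mem_span_finset] at hj
  obtain ⟨c, -, hc⟩ := hj
  have h1 : ∑ g ∈ s, algebraMap R T (c g) * t g = 1 := hjreg <| by
    simp only [smul_eq_mul, mul_one, Finset.mul_sum]
    conv_rhs => rw [← hc, map_sum]
    refine Finset.sum_congr rfl fun g hg => ?_
    rw [smul_eq_mul, map_mul, ht g hg]; ring
  obtain ⟨g, hg, hgu⟩ : ∃ g ∈ s, IsUnit (t g) := by
    by_contra hne
    push Not at hne
    have h2 : (1 : T) ∈ IsLocalRing.maximalIdeal T := h1 ▸ Ideal.sum_mem _ fun g hg => Ideal.mul_mem_left _ _ (hne g hg)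
    exact h2 isUnit_one
  obtain ⟨u, hu⟩ := hgu
  refine ⟨g, hg, ?_, fun b hb => dvd_trans ⟨(↑u⁻¹ : T), by rw [ht g hg, ← hu, mul_assoc, Units.mul_inv, mul_one]⟩ (hdvd b hb)⟩
  intro x y hxy
  refine u.isUnit.isSMulRegular T (hjreg ?_)
  simp only [smul_eq_mul] at hxy ⊢
  rw [← mul_assoc, ← mul_assoc, hu, ← ht g hg, hxy]

theorem adapted_of_mul {T : Type u} [CommRing T] [Algebra R T] [IsLocalRing T] {J L : Ideal R}
    (h : IsAdapted (J * L) T) : IsAdapted J T := by
  classical
  obtain ⟨p, hp, hpreg, hdvd⟩ := h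
  by_contra hJ
  have key : ∀ x ∈ J * L, algebraMap R T x ∈ Ideal.span {algebraMap R T p} * IsLocalRing.maximalIdeal T := by
    intro x hx
    refine Submodule.mul_induction_on hx (fun a ha b hb => ?_) fun a b ha hb => by rw [map_add]; exact add_mem ha hb
    obtain ⟨t, ht⟩ := hdvd (a * b) (Ideal.mul_mem_mul ha hb)
    refine Ideal.mem_span_singleton_mul.2 ⟨t, fun htu => hJ ⟨a, ha, ?_, fun c hc => ?_⟩, ht.symm⟩
    · obtain ⟨u, rfl⟩ := htu
      intro x y hxy
      refine u.isUnit.isSMulRegular T (hpreg ?_)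
      simp only [smul_eq_mul] at hxy ⊢
      rw [← mul_assoc, ← mul_assoc, ← ht, map_mul, mul_right_comm, hxy, mul_right_comm]
    obtain ⟨u, rfl⟩ := htu
    obtain ⟨t', ht'⟩ := hdvd (c * b) (Ideal.mul_mem_mul hc hb)
    refine ⟨(↑u⁻¹ : T) * t', ?_⟩
    rw [map_mul] at ht ht'
    have hb' : IsSMulRegular T (algebraMap R T b) := fun x y hxy => hpreg <| by
      simp only [smul_eq_mul] at hxy ⊢
      have hp' : algebraMap R T p = algebraMap R T a * algebraMap R T b * (↑u⁻¹ : T) := by
        rw [ht, mul_assoc, Units.mul_inv, mul_one]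
      rw [hp', mul_right_comm _ _ (↑u⁻¹ : T), mul_assoc, hxy, ← mul_assoc]
    apply hb'
    simp only [smul_eq_mul]
    rw [mul_comm, ht', ← mul_assoc, ← mul_assoc, mul_comm (algebraMap R T b), ht, mul_assoc _ (u : T),
      Units.mul_inv, mul_one]
  obtain ⟨t, htm, ht⟩ := Ideal.mem_span_singleton_mul.1 (key p hp)
  have : t = 1 := hpreg <| by simp only [smul_eq_mul, mul_one]; exact ht
  exact htm (this ▸ isUnit_one)

/-- If a property holds over some finitely presented stage of every valuative algebra, then it holds on a single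
blow-up. -/
theorem exists_ideal_of_valuative (𝔞 : Ideal R) (h𝔞 : 𝔞.FG) (P : ∀ (T : Type u) [CommRing T] [Algebra R T], Prop)
    (hP : ∀ (C : Type u) [CommRing C] [Algebra R C] [IsLocalRing C] (f : R), f ∈ 𝔞 →
      IsValuative C (algebraMap R C f) → (∀ b ∈ 𝔞, algebraMap R C f ∣ algebraMap R C b) →
      ∃ (P₀ : Type u) (_ : CommRing P₀) (_ : Algebra R P₀), Algebra.FinitePresentation R P₀ ∧
        Nonempty (P₀ →ₐ[R] C) ∧ ∀ (T : Type u) [CommRing T] [Algebra R T] [IsLocalRing T],
          IsSMulRegular T (algebraMap R T f) → (∀ b ∈ 𝔞, algebraMap R T f ∣ algebraMap R T b) →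
            (P₀ →ₐ[R] T) → P T) :
    ∃ J : Ideal R, J.FG ∧ J.radical = 𝔞.radical ∧ ∀ (T : Type u) [CommRing T] [Algebra R T] [IsLocalRing T],
      IsAdapted J T → P T := by
  classical
  by_contra hne
  push Not at hne
  let ι := {J : Ideal R // J.FG ∧ 𝔞 ≤ J.radical}
  choose T instR instA instL had hbad using fun J : ι => hne (J.1 * 𝔞) (J.2.1.mul h𝔞) (by
    rw [Ideal.radical_mul, inf_eq_right]
    exact Ideal.radical_le_radical_iff.2 J.2.2)
  let cone : ι → Set ι := fun J => {K | ∃ L : ι, K.1 = J.1 * L.1}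
  let one : ι := ⟨⊤, ⟨{1}, by simp⟩, le_top.trans Ideal.le_radical⟩
  let mul : ι → ι → ι := fun J L => ⟨J.1 * L.1, J.2.1.mul L.2.1, by
    rw [Ideal.radical_mul]; exact le_inf J.2.2 L.2.2⟩
  haveI : Nonempty ι := ⟨one⟩
  let F : Filter ι := ⨅ J, 𝓟 (cone J)
  haveI : F.NeBot := by
    refine iInf_neBot_of_directed (fun J L => ⟨mul J L, ?_, ?_⟩) fun J => ?_
    · refine principal_mono.2 ?_
      rintro K ⟨L', hK⟩
      exact ⟨mul L L', by rw [hK]; exact mul_assoc _ _ _⟩
    · refine principal_mono.2 ?_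
      rintro K ⟨L', hK⟩
      exact ⟨mul J L', by rw [hK]; show J.1 * L.1 * L'.1 = L.1 * (J.1 * L'.1); rw [mul_comm J.1, mul_assoc]⟩
    · exact principal_neBot_iff.2 ⟨mul J one, one, rfl⟩
  let U : Ultrafilter ι := Ultrafilter.of F
  have hcone : ∀ J : ι, ∀ᶠ K in (U : Filter ι), ∃ L : ι, K.1 = J.1 * L.1 := fun J =>
    Ultrafilter.of_le F (mem_iInf_of_mem J (mem_principal_self _))
  have hadapt : ∀ J : ι, ∀ᶠ K in (U : Filter ι), IsAdapted J.1 (T K) := fun J => by
    refine (hcone J).mono fun K hK => ?_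
    obtain ⟨L, hL⟩ := hK
    have := had K
    rw [hL, mul_assoc] at this
    exact adapted_of_mul this
  let N : Ideal (∀ J, T J) :=
    { carrier := {x | ∀ᶠ J in (U : Filter ι), x J = 0}
      add_mem' := fun {a b} ha hb => (ha.and hb).mono fun J h => by simp [h.1, h.2]
      zero_mem' := Eventually.of_forall fun J => rfl
      smul_mem' := fun c x hx => hx.mono fun J h => by simp [h] }
  obtain ⟨V, _, _, q, hq, hq0⟩ : ∃ (V : Type u) (_ : CommRing V) (_ : Algebra R V) (q : (∀ J, T J) →ₐ[R] V),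
      Function.Surjective q ∧ ∀ x, q x = 0 ↔ ∀ᶠ J in (U : Filter ι), x J = 0 :=
    ⟨(∀ J, T J) ⧸ N, inferInstance, inferInstance, Ideal.Quotient.mkₐ R N, Ideal.Quotient.mkₐ_surjective R N,
      fun x => Ideal.Quotient.eq_zero_iff_mem⟩
  have hqeq : ∀ x y, (∀ᶠ J in (U : Filter ι), x J = y J) → q x = q y := fun x y h => by
    rw [← sub_eq_zero, ← map_sub, hq0]
    exact h.mono fun J hJ => by simp [hJ]
  let Gen : ι → R → Prop := fun J c => c ∈ J.1 ∧ ∀ b ∈ J.1, algebraMap R V c ∣ algebraMap R V b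
  have hGen : ∀ J : ι, ∀ s : Finset R, Ideal.span (s : Set R) = J.1 → ∃ g ∈ s, Gen J g := by
    intro J s hs
    have h1 : ∀ᶠ K in (U : Filter ι), ∃ g ∈ (s : Set R), ∀ b ∈ J.1, algebraMap R (T K) g ∣ algebraMap R (T K) b :=
      (hadapt J).mono fun K hK => (exists_generator_mem hs hK).imp fun g hg => ⟨hg.1, hg.2.2⟩
    obtain ⟨g, hg, hev⟩ := (Ultrafilter.eventually_exists_mem_iff s.finite_toSet).1 h1
    refine ⟨g, hg, hs ▸ Ideal.subset_span hg, fun b hb => ?_⟩
    let t : ∀ K, T K := fun K => if h : ∀ b ∈ J.1, algebraMap R (T K) g ∣ algebraMap R (T K) b then (h b hb).choose else 0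
    refine ⟨q t, ?_⟩
    rw [← q.commutes, ← q.commutes, ← map_mul]
    exact hqeq _ _ (hev.mono fun K hK => by
      simp only [Pi.mul_apply, Pi.algebraMap_apply, t, dif_pos hK]
      exact (hK b hb).choose_spec)
  let 𝔞' : ι := ⟨𝔞, h𝔞, Ideal.le_radical⟩
  obtain ⟨s₀, hs₀⟩ := h𝔞
  obtain ⟨f, hf, hfev⟩ : ∃ f ∈ (s₀ : Set R), ∀ᶠ K in (U : Filter ι),
      IsSMulRegular (T K) (algebraMap R (T K) f) ∧ ∀ b ∈ 𝔞, algebraMap R (T K) f ∣ algebraMap R (T K) b :=
    (Ultrafilter.eventually_exists_mem_iff s₀.finite_toSet).1 ((hadapt 𝔞').mono fun K hK => exists_generator_mem hs₀ hK)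
  have hf𝔞 : f ∈ 𝔞 := hs₀ ▸ Ideal.subset_span hf
  have hVreg : IsSMulRegular V (algebraMap R V f) := isSMulRegular_iff_right_eq_zero_of_smul.2 fun x hx => by
    obtain ⟨x, rfl⟩ := hq x
    rw [algebraMap_smul, ← map_smul, hq0] at hx
    rw [hq0]
    exact (hx.and hfev).mono fun J hJ => hJ.2.1.right_eq_zero_of_smul (by rw [algebraMap_smul]; exact hJ.1)
  have hGreg : ∀ J c, Gen J c → IsSMulRegular V (algebraMap R V c) := fun J c hc => by
    obtain ⟨m, hm⟩ := J.2.2 hf𝔞
    exact regular_of_dvd_pow hVreg (by rw [← map_pow]; exact hc.2 _ hm)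
  have hGmul : ∀ J L c d, Gen J c → Gen L d → Gen (mul J L) (c * d) := fun J L c d hc hd => by
    refine ⟨Ideal.mul_mem_mul hc.1 hd.1, fun b hb => ?_⟩
    refine Submodule.mul_induction_on hb (fun a ha e he => ?_) fun a e ha he => ?_
    · rw [map_mul, map_mul]
      exact mul_dvd_mul (hc.2 a ha) (hd.2 e he)
    · rw [map_add]; exact dvd_add ha he
  have hGone : Gen one 1 := ⟨Submodule.mem_top, fun b _ => by rw [map_one]; exact one_dvd _⟩
  let C : Subalgebra R V :=
    { carrier := {x | ∃ J c b, Gen J c ∧ b ∈ J.1 ∧ algebraMap R V c * x = algebraMap R V b}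
      mul_mem' := by
        rintro x y ⟨J, c, b, hc, hb, hx⟩ ⟨L, d, e, hd, he, hy⟩
        exact ⟨mul J L, c * d, b * e, hGmul J L c d hc hd, Ideal.mul_mem_mul hb he, by
          rw [map_mul, map_mul, ← hx, ← hy]; ring⟩
      add_mem' := by
        rintro x y ⟨J, c, b, hc, hb, hx⟩ ⟨L, d, e, hd, he, hy⟩
        exact ⟨mul J L, c * d, b * d + c * e, hGmul J L c d hc hd,
          add_mem (Ideal.mul_mem_mul hb hd.1) (Ideal.mul_mem_mul hc.1 he), by
            simp only [map_mul, map_add, ← hx, ← hy]; ring⟩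
      algebraMap_mem' := fun r => ⟨one, 1, r, hGone, Submodule.mem_top, by rw [map_one, one_mul]⟩ }
  have hunit : ∀ x : C, IsUnit (x : V) → IsUnit x := by
    rintro ⟨x, J, c, b, hc, hb, hx⟩ ⟨u, hu⟩
    change (u : V) = x at hu
    have hb' : algebraMap R V b * (↑u⁻¹ : V) = algebraMap R V c := by
      rw [← hx, ← hu, mul_assoc, Units.mul_inv, mul_one]
    refine IsUnit.of_mul_eq_one ⟨(↑u⁻¹ : V), J, b, c, ⟨hb, fun a ha => ?_⟩, hc.1, hb'⟩ (Subtype.ext ?_)
    · exact dvd_trans ⟨_, hb'.symm⟩ (hc.2 a ha)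
    · show x * (↑u⁻¹ : V) = 1
      rw [← hu, Units.mul_inv]
  haveI : Nontrivial V := by
    refine ⟨⟨0, 1, fun h => ?_⟩⟩
    have h' := (hq0 1).1 (by rw [map_one]; exact h.symm)
    obtain ⟨J, hJ⟩ := h'.exists
    exact one_ne_zero hJ
  haveI : IsLocalRing C := IsLocalRing.of_isUnit_or_isUnit_one_sub_self fun x => by
    obtain ⟨y, hy⟩ := hq (x : V)
    have hev : ∀ z : ∀ J, T J, (∀ᶠ J in (U : Filter ι), IsUnit (z J)) → IsUnit (q z) := fun z hz => by
      refine IsUnit.of_mul_eq_one (q fun J => if h : IsUnit (z J) then (↑h.unit⁻¹ : T J) else 0) ?_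
      rw [← map_mul, ← map_one q]
      exact hqeq _ _ (hz.mono fun J hJ => by simp [dif_pos hJ])
    have h1 : ∀ᶠ J in (U : Filter ι), IsUnit (y J) ∨ IsUnit ((1 - y) J) :=
      Eventually.of_forall fun J => IsLocalRing.isUnit_or_isUnit_one_sub_self (y J)
    rcases Ultrafilter.eventually_or.1 h1 with h | h
    · exact Or.inl (hunit x (hy ▸ hev y h))
    · refine Or.inr (hunit (1 - x) ?_)
      have := hev (1 - y) h
      rwa [map_sub, map_one, hy] at this
  have hCreg : ∀ J c, Gen J c → IsSMulRegular C (algebraMap R C c) := fun J c hc a b hab =>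
    Subtype.ext (hGreg J c hc (by simpa using congrArg Subtype.val hab))
  have hCfreg : IsSMulRegular C (algebraMap R C f) := fun a b hab =>
    Subtype.ext (hVreg (by simpa using congrArg Subtype.val hab))
  have hCdvd : ∀ J c, Gen J c → ∀ b ∈ J.1, algebraMap R C c ∣ algebraMap R C b := fun J c hc b hb => by
    obtain ⟨t, ht⟩ := hc.2 b hb
    exact ⟨⟨t, J, c, b, hc, hb, ht.symm⟩, Subtype.ext ht⟩
  have hfdvd : ∀ b ∈ 𝔞, algebraMap R V f ∣ algebraMap R V b := fun b hb => by
    let t : ∀ K, T K := fun K => if h : algebraMap R (T K) f ∣ algebraMap R (T K) b then h.choose else 0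
    refine ⟨q t, ?_⟩
    rw [← q.commutes, ← q.commutes, ← map_mul]
    exact hqeq _ _ (hfev.mono fun K hK => by
      simp only [Pi.mul_apply, Pi.algebraMap_apply, t, dif_pos (hK.2 b hb)]
      exact (hK.2 b hb).choose_spec)
  have hval : IsValuative C (algebraMap R C f) := by
    refine ⟨hCfreg, ?_⟩
    rintro I ⟨s, rfl⟩ ⟨k, hk⟩
    have hcommon : ∀ s : Finset C, ∃ J c, Gen J c ∧ ∀ x ∈ s, ∃ b ∈ J.1, algebraMap R C c * x = algebraMap R C b := by
      intro s
      induction s using Finset.induction_on with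
      | empty => exact ⟨one, 1, hGone, by simp⟩
      | insert x s _ ih =>
        obtain ⟨J, c, hc, hs⟩ := ih
        obtain ⟨L, d, e, hd, he, hx⟩ := x.2
        have hx' : algebraMap R C d * x = algebraMap R C e := Subtype.ext hx
        refine ⟨mul J L, c * d, hGmul J L c d hc hd, fun y hy => ?_⟩
        rcases Finset.mem_insert.1 hy with rfl | hy
        · exact ⟨c * e, Ideal.mul_mem_mul hc.1 he, by rw [map_mul, map_mul, mul_assoc, hx']⟩
        · obtain ⟨b, hb, hby⟩ := hs y hy
          exact ⟨b * d, Ideal.mul_mem_mul hb hd.1, by rw [map_mul, map_mul, ← hby]; ring⟩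
    obtain ⟨J, c, hc, hs⟩ := hcommon s
    choose! b hb hbx using hs
    obtain ⟨m, hm⟩ := J.2.2 hf𝔞
    let s' : Finset R := insert (f ^ (m + k)) (s.image b ∪ s₀.image (fun a => a ^ (m + k)))
    let K : ι := ⟨Ideal.span (s' : Set R), ⟨s', rfl⟩, hs₀ ▸ Ideal.span_le.2 fun a ha => ⟨m + k, Ideal.subset_span (Finset.mem_insert_of_mem (Finset.mem_union_right _ (Finset.mem_image_of_mem _ ha)))⟩⟩
    obtain ⟨g, hg, hgK⟩ := hGen K s' rfl
    obtain ⟨w, hw⟩ := hCdvd J c hc _ hm
    have hKI : ∀ r ∈ K.1, algebraMap R C r ∈ Ideal.span {algebraMap R C c} * Ideal.span (s : Set C) := by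
      have h : K.1 ≤ (Ideal.span {algebraMap R C c} * Ideal.span (s : Set C)).comap (algebraMap R C) := by
        show Ideal.span (s' : Set R) ≤ _
        rw [Ideal.span_le]
        intro r hr
        rcases Finset.mem_insert.1 hr with rfl | hr
        · refine Ideal.mem_span_singleton_mul.2 ⟨w * algebraMap R C f ^ k, Ideal.mul_mem_left _ _ hk, ?_⟩
          rw [← mul_assoc, ← hw, map_pow, map_pow, ← pow_add]
        rcases Finset.mem_union.1 hr with hr | hr
        rotate_left
        · obtain ⟨a, ha, rfl⟩ := Finset.mem_image.1 hr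
          obtain ⟨t, ht⟩ := hCdvd 𝔞' f ⟨hf𝔞, hfdvd⟩ a (show a ∈ 𝔞 from hs₀ ▸ Ideal.subset_span ha)
          refine Ideal.mem_span_singleton_mul.2 ⟨w * algebraMap R C f ^ k * t ^ (m + k),
            Ideal.mul_mem_right _ _ (Ideal.mul_mem_left _ _ hk), ?_⟩
          rw [← mul_assoc, ← mul_assoc, ← hw, map_pow, map_pow, ← pow_add, ht, mul_pow]
        · obtain ⟨x, hx, rfl⟩ := Finset.mem_image.1 hr
          exact Ideal.mem_span_singleton_mul.2 ⟨x, Ideal.subset_span hx, hbx x hx⟩
      exact fun r hr => h hr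
    obtain ⟨y, hy, hcy⟩ := Ideal.mem_span_singleton_mul.1 (hKI g (Ideal.subset_span hg))
    refine ⟨y, le_antisymm (Ideal.span_le.2 fun x hx => ?_) (Ideal.span_singleton_le_iff_mem _ |>.2 hy)⟩
    obtain ⟨t, ht⟩ := hCdvd K g hgK (b x) (Ideal.subset_span (Finset.mem_insert_of_mem (Finset.mem_union_left _ (Finset.mem_image_of_mem _ hx))))
    refine Ideal.mem_span_singleton.2 ⟨t, hCreg J c hc ?_⟩
    simp only [smul_eq_mul]
    rw [hbx x hx, ht, ← hcy, mul_assoc]
  obtain ⟨P₀, _, _, hfp, ⟨φ⟩, hP₀⟩ := hP C f hf𝔞 hval (hCdvd 𝔞' f ⟨hf𝔞, hfdvd⟩)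
  obtain ⟨n, π, hπ, w, hw⟩ := hfp.out
  choose X hX using fun i => hq (φ (π (MvPolynomial.X i)) : V)
  let Θ : MvPolynomial (Fin n) R →ₐ[R] (∀ J, T J) := MvPolynomial.aeval X
  have hΘ : q.comp Θ = C.val.comp (φ.comp π) := MvPolynomial.algHom_ext fun i => by simp [Θ, hX]
  have hlift : ∀ᶠ J in (U : Filter ι), ∀ r ∈ (w : Set (MvPolynomial (Fin n) R)), Θ r J = 0 := by
    refine (w.finite_toSet.eventually_all).2 fun r hr => (hq0 _).1 ?_
    have h0 : π r = 0 := RingHom.mem_ker.1 (hw.le (Ideal.subset_span hr))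
    rw [show q (Θ r) = C.val (φ (π r)) from AlgHom.congr_fun hΘ r, h0, map_zero, map_zero]
  obtain ⟨J, hJ, hJf⟩ := (hlift.and hfev).exists
  let ψ : MvPolynomial (Fin n) R →ₐ[R] T J := (Pi.evalAlgHom R T J).comp Θ
  have hker : RingHom.ker π.toRingHom ≤ RingHom.ker ψ.toRingHom := by
    rw [← hw, Ideal.span_le]
    exact hJ
  exact hbad J (hP₀ (T J) hJf.1 hJf.2 (AlgHom.liftOfSurjective π hπ ψ hker))

end Compactness

end Groth.Agent.FlatCrit65.Blow
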